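import Mathlib.GroupTheory.OrderOfElement
import Mathlib.GroupTheory.Subgroup.Center
import Mathlib.Data.Finset.Basic
import Mathlib.GroupTheory.Solvable

/-!
# The element orders of `J₁ × J₁`

`Ok n` holds for the divisors of the element orders of `J₁ × J₁`; `Model` collects what is used of the simple
sections other than `J₁` (they are `A₅` and `L₂(11)`).
-/

set_option autoImplicit false

namespace CfsgLib.Spor.JOneSquare

universe u

/-- The maximal element orders of the square. -/
def maxOrders : Finset ℕ := {30, 42, 66, 114, 70, 110, 190, 105, 165, 285, 77, 133, 209}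

/-- A divisor of an element order of the square. -/
def Ok (n : ℕ) : Prop := ∃ m ∈ maxOrders, n ∣ m

/-- All element orders of the group are orders of elements of the square. -/
def Sub (G : Type u) [Group G] : Prop := ∀ g : G, Ok (orderOf g)

/-- The small sections: what is used of `A₅` and `L₂(11)`. -/
structure Small (T : Type u) [Group T] : Prop where
  noncomm : ∃ a b : T, a * b ≠ b * a
  orders : ∀ x : T, orderOf x ∈ ({1, 2, 3, 5, 6, 11} : Finset ℕ)
  two : ∃ x : T, orderOf x = 2
  three : ∃ x : T, orderOf x = 3
  five : ∃ x : T, orderOf x = 5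
  /-- no outer automorphisms of odd order -/
  outer : ∀ α : MulAut T, Odd (orderOf α) → ∃ g : T, ∀ x, α x = g * x * g⁻¹
  /-- a solvable subgroup met by a conjugate of every element of order `5` or `11` -/
  borel : ∃ B : Subgroup T, Group.IsSolvable B ∧
    ∀ x : T, orderOf x = 5 ∨ orderOf x = 11 → ∃ g : T, g * x * g⁻¹ ∈ B

theorem Ok.dvd {a b : ℕ} (h : Ok b) (hab : a ∣ b) : Ok a := by
  obtain ⟨m, hm, hd⟩ := h
  exact ⟨m, hm, hab.trans hd⟩

theorem Sub.of_injective {G : Type u} [Group G] (h : Sub G) {H : Type*} [Group H] (f : H →* G)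
    (hf : Function.Injective f) : Sub H := fun x => by
  have := h (f x)
  rwa [orderOf_injective f hf] at this

theorem Sub.of_surjective {G : Type u} [Group G] (h : Sub G) {H : Type*} [Group H] (f : G →* H)
    (hf : Function.Surjective f) : Sub H := fun y => by
  obtain ⟨x, rfl⟩ := hf y
  exact (h x).dvd (orderOf_map_dvd f x)

end CfsgLib.Spor.JOneSquare
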