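import Cfsg.Agent.Lib.Spor.JOneSquare.Defs
import Cfsg.Agent.Lib.Lie.SuzSquare.Semiregular
import Cfsg.Agent.Lib.Coprime.Action
import Cfsg.Agent.Lib.Coprime.Hall

/-!
# Orders, fixed points and three primes

The group with the element orders of the square has square free element orders. An element of prime order
acting semiregularly on a subgroup that moves a module fixes a point of the module. A solvable group cannot
contain three primes no two of which are joined.
-/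

set_option autoImplicit false
set_option linter.style.haveILetI false
set_option linter.unusedSectionVars false

namespace CfsgLib.Spor.JOneSquare

open Subgroup
open scoped commutatorElement

universe u

theorem not_ok {n : ℕ} (h : ∀ m ∈ maxOrders, ¬ n ∣ m) : ¬ Ok n := fun ⟨m, hm, hd⟩ => h m hm hd

variable {G : Type u} [Group G] [Finite G]

namespace Sub

theorem ok_mul (h : Sub G) {x y : G} (hxy : Commute x y) (hc : (orderOf x).Coprime (orderOf y)) :
    Ok (orderOf x * orderOf y) := hxy.orderOf_mul_eq_mul_orderOf_of_coprime hc ▸ h (x * y)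

theorem ok_mul_three (h : Sub G) {x y z : G} (hxy : Commute x y) (hxz : Commute x z) (hyz : Commute y z)
    (h1 : (orderOf x).Coprime (orderOf y)) (h2 : (orderOf x).Coprime (orderOf z))
    (h3 : (orderOf y).Coprime (orderOf z)) : Ok (orderOf x * orderOf y * orderOf z) := by
  have e := hxy.orderOf_mul_eq_mul_orderOf_of_coprime h1
  have h4 := h.ok_mul (hxz.mul_left hyz) (by rw [e]; exact Nat.Coprime.mul_left h2 h3)
  rwa [e] at h4

theorem prime_mem (h : Sub G) {p : ℕ} (hp : p.Prime) (hd : p ∣ Nat.card G) :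
    p ∈ ({2, 3, 5, 7, 11, 19} : Finset ℕ) := by
  haveI := Fact.mk hp
  obtain ⟨g, hg⟩ := exists_prime_orderOf_dvd_card' (G := G) p hd
  obtain ⟨m, hm, hdm⟩ := h g
  rw [hg] at hdm
  have hall : ∀ m ∈ maxOrders, ∀ q ∈ m.divisors, q.Prime → q ∈ ({2, 3, 5, 7, 11, 19} : Finset ℕ) := by
    unfold maxOrders
    decide +kernel
  exact hall m hm p (Nat.mem_divisors.2 ⟨hdm, by rintro rfl; simp [maxOrders] at hm⟩) hp

theorem not_sq_dvd (h : Sub G) {p : ℕ} (hp : p.Prime) (g : G) : ¬ p * p ∣ orderOf g := fun hd => by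
  obtain ⟨m, hm, hdm⟩ := h g
  have hsq : ∀ m ∈ maxOrders, ∀ d < 20, 2 ≤ d → ¬ d * d ∣ m := by unfold maxOrders; decide
  have hle : m ≤ 285 := (show ∀ m ∈ maxOrders, m ≤ 285 by unfold maxOrders; decide) m hm
  have hpos : 0 < m := (show ∀ m ∈ maxOrders, 0 < m by unfold maxOrders; decide) m hm
  have hpp := Nat.le_of_dvd hpos (hd.trans hdm)
  exact hsq m hm p (by nlinarith) hp.two_le (hd.trans hdm)

/-- A `p`-element has order at most `p`. -/
theorem pow_eq_one (h : Sub G) {p k : ℕ} (hp : p.Prime) {g : G} (hg : g ^ p ^ k = 1) : g ^ p = 1 := by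
  obtain ⟨j, -, hj⟩ := (Nat.dvd_prime_pow hp).1 (orderOf_dvd_of_pow_eq_one hg)
  have hj1 : j ≤ 1 := by
    by_contra hc
    refine h.not_sq_dvd hp g (hj ▸ ?_)
    rw [← sq]
    exact pow_dvd_pow p (by omega)
  refine orderOf_dvd_iff_pow_eq_one.1 (hj ▸ ?_)
  rcases Nat.le_one_iff_eq_zero_or_eq_one.1 hj1 with rfl | rfl <;> simp

theorem pgroup_pow (h : Sub G) {p : ℕ} (hp : p.Prime) {P : Subgroup G} (hP : IsPGroup p P) {x : G} (hx : x ∈ P) :
    x ^ p = 1 := by
  obtain ⟨k, hk⟩ := hP ⟨x, hx⟩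
  exact h.pow_eq_one hp (congrArg Subtype.val hk)

theorem orderOf_eq (h : Sub G) {p : ℕ} (hp : p.Prime) {P : Subgroup G} (hP : IsPGroup p P) {x : G} (hx : x ∈ P)
    (hx1 : x ≠ 1) : orderOf x = p :=
  haveI := Fact.mk hp
  orderOf_eq_prime (h.pgroup_pow hp hP hx) hx1

theorem two_comm (h : Sub G) {S : Subgroup G} (hS : IsPGroup 2 S) : IsMulCommutative S := by
  have hsq : ∀ x ∈ S, x * x = 1 := fun x hx => by rw [← sq]; exact h.pgroup_pow Nat.prime_two hS hx
  refine isMulCommutative_iff.2 fun a b => Subtype.ext ?_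
  show (a : G) * b = b * a
  have h1 := hsq _ (mul_mem a.2 b.2)
  rw [mul_eq_one_iff_eq_inv, mul_inv_rev, inv_eq_of_mul_eq_one_right (hsq _ a.2),
    inv_eq_of_mul_eq_one_right (hsq _ b.2)] at h1
  exact h1

end Sub

/-- An element of prime order with trivial centralizer in `A`, which moves the abelian group `V` coprimely,
fixes a point of `V`. -/
theorem exists_fixed {A V : Subgroup G} [IsMulCommutative V] {b : G} {t : ℕ} (ht : t.Prime) (hb : b ^ t = 1)
    (hcop : (Nat.card A).Coprime (Nat.card V)) (hAV : A ≤ normalizer (V : Set G))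
    (hbV : b ∈ normalizer (V : Set G)) (hbA : b ∈ normalizer (A : Set G))
    (hfpf : ∀ a ∈ A, Commute b a → a = 1) (hne : ¬ A ≤ centralizer (V : Set G)) :
    ∃ v ∈ V, v ≠ 1 ∧ Commute b v := by
  by_contra hcon
  push Not at hcon
  haveI := Fact.mk ht
  refine hne (CfsgLib.Lie.SuzSquare.le_centralizer_of_pow hcop hAV hbV hbA (fun i hi a ha hc => ?_) fun v hv => ?_)
  · refine hfpf a ha ?_
    have hbi : ¬ t ∣ i := fun ⟨c, hc'⟩ => hi (by rw [hc', pow_mul, hb, one_pow])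
    have hb1 : orderOf b = t := orderOf_eq_prime hb fun e => hi (by rw [e, one_pow])
    obtain ⟨m, hm⟩ := exists_pow_eq_self_of_coprime (x := b) (n := i)
      (hb1 ▸ ((Nat.Prime.coprime_iff_not_dvd ht).2 hbi).symm)
    rw [← hm]
    exact hc.pow_left m
  · obtain ⟨w, hw, e⟩ := CfsgLib.Lie.SuzSquare.mul_pow_eq hbV hv (orderOf b)
    rw [pow_orderOf_eq_one, mul_one] at e
    rw [e]
    by_contra hw1
    refine hcon w hw hw1 ?_
    have h1 : Commute w (v * b) := e ▸ (Commute.refl _).pow_left _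
    have h2 : Commute w v := congrArg Subtype.val
      (isMulCommutative_iff.1 (inferInstance : IsMulCommutative V) ⟨w, hw⟩ ⟨v, hv⟩)
    have h3 := h2.inv_right.mul_right h1
    rw [inv_mul_cancel_left] at h3
    exact h3.symm

/-- An element of odd prime order normalizing an elementary `2`-group with noncyclic centralizer there: an
involution and a point of the module are centralized by it and by one another. -/
theorem key {S V : Subgroup G} [IsMulCommutative V] {g : G} {t : ℕ} (ht : t.Prime) (ht2 : t ≠ 2) (hg : g ^ t = 1)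
    (hsq : ∀ s ∈ S, s * s = 1) (hodd : Odd (Nat.card V)) (hV : V ≠ ⊥) (hSV : S ≤ normalizer (V : Set G))
    (hgV : g ∈ normalizer (V : Set G)) (hgS : g ∈ normalizer (S : Set G))
    (hE : ¬ IsCyclic ↥(S ⊓ centralizer ({g} : Set G)))
    (hcase : g ∈ centralizer (V : Set G) ∨ ¬ ⁅S, zpowers g⁆ ≤ centralizer (V : Set G)) :
    ∃ e v, e ∈ S ∧ orderOf e = 2 ∧ v ∈ V ∧ v ≠ 1 ∧ Commute g e ∧ Commute g v ∧ Commute e v := by
  haveI := Fact.mk ht
  haveI := Fact.mk Nat.prime_two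
  have hS2 : IsPGroup 2 S := fun s => ⟨1, Subtype.ext (by rw [Subgroup.coe_pow, pow_one, sq]; exact hsq s s.2)⟩
  haveI hSc : IsMulCommutative S := isMulCommutative_iff.2 fun a b => Subtype.ext (by
    show (a : G) * b = b * a
    have h1 := hsq _ (mul_mem a.2 b.2)
    rw [mul_eq_one_iff_eq_inv, mul_inv_rev, inv_eq_of_mul_eq_one_right (hsq _ a.2),
      inv_eq_of_mul_eq_one_right (hsq _ b.2)] at h1
    exact h1)
  have hScomm : ∀ a ∈ S, ∀ b ∈ S, Commute a b := fun a ha b hb =>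
    congrArg Subtype.val (isMulCommutative_iff.1 hSc ⟨a, ha⟩ ⟨b, hb⟩)
  set E := S ⊓ centralizer ({g} : Set G) with hEdef
  haveI : IsMulCommutative E := isMulCommutative_iff.2 fun a b => Subtype.ext (hScomm a a.2.1 b b.2.1).eq
  have hcV : ∀ {T : Subgroup G}, T ≤ S → (Nat.card T).Coprime (Nat.card V) := fun {T} hT => by
    obtain ⟨k, hk⟩ := IsPGroup.iff_card.1 (hS2.to_le hT)
    rw [hk]
    exact (Nat.coprime_two_left.2 hodd).pow_left k
  have hgoal : ∀ e ∈ E, e ≠ 1 → ∀ v ∈ V ⊓ centralizer {e}, v ≠ 1 → Commute g v →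
      ∃ e v, e ∈ S ∧ orderOf e = 2 ∧ v ∈ V ∧ v ≠ 1 ∧ Commute g e ∧ Commute g v ∧ Commute e v :=
    fun e he he1 v hv hv1 hgv => ⟨e, v, he.1, orderOf_eq_prime (by rw [sq]; exact hsq e he.1) he1, hv.1, hv1,
      (mem_centralizer_singleton_iff.1 he.2).symm, hgv, (mem_centralizer_singleton_iff.1 hv.2).symm⟩
  rcases hcase with hgC | hne
  · obtain ⟨e, he, he1, v, hv, hv1⟩ : ∃ e ∈ E, e ≠ 1 ∧ ∃ v ∈ V ⊓ centralizer {e}, v ≠ 1 := by
      by_contra hcon
      push Not at hcon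
      refine hV (le_bot_iff.1 ?_)
      exact CfsgLib.Coprime.le_of_centralizers_le (A := E) (W := ⊥) hE (inf_le_left.trans hSV)
        (hcV inf_le_left) fun e he he1 v hv => mem_bot.2 (hcon e he he1 v hv)
    exact hgoal e he he1 v hv hv1 (mem_centralizer_iff.1 hgC v hv.1).symm
  · set Z := zpowers g with hZ
    set A := ⁅S, Z⁆ with hA
    have hZS : Z ≤ normalizer (S : Set G) := zpowers_le.2 hgS
    have hAS : A ≤ S := commutator_le.2 fun s hs z hz => by
      rw [commutatorElement_def, show s * z * s⁻¹ * z⁻¹ = s * (z * s⁻¹ * z⁻¹) by group]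
      exact mul_mem hs ((mem_normalizer_iff.1 (hZS hz) _).1 (inv_mem hs))
    have hZA : g ∈ normalizer (A : Set G) := by
      refine (?_ : Z ≤ normalizer (A : Set G)) (mem_zpowers g)
      rw [hA, commutator_comm]
      exact normalizer_commutator_ge_left Z S
    obtain ⟨e, he, he1, hmove⟩ : ∃ e ∈ E, e ≠ 1 ∧ ¬ A ≤ centralizer ((V ⊓ centralizer {e} : Subgroup G) : Set G) := by
      by_contra hcon
      push Not at hcon
      refine hne (le_centralizer_iff.1 ?_)
      exact CfsgLib.Coprime.le_of_centralizers_le (A := E) hE (inf_le_left.trans hSV) (hcV inf_le_left)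
        fun e he he1 => le_centralizer_iff.1 (hcon e he he1)
    haveI : IsMulCommutative ↥(V ⊓ centralizer ({e} : Set G)) := isMulCommutative_iff.2 fun a b => Subtype.ext
      (congrArg Subtype.val (isMulCommutative_iff.1 (inferInstance : IsMulCommutative V) ⟨a, a.2.1⟩ ⟨b, b.2.1⟩) :)
    have hnorm : ∀ x ∈ normalizer (V : Set G), Commute x e →
        x ∈ normalizer ((V ⊓ centralizer ({e} : Set G) : Subgroup G) : Set G) := fun x hx hxe =>
      mem_normalizer_fintype fun v hv => ⟨(mem_normalizer_iff.1 hx v).1 hv.1, mem_centralizer_singleton_iff.2 (by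
        have h2 : Commute v e := mem_centralizer_singleton_iff.1 hv.2
        exact ((hxe.mul_left h2).mul_left hxe.inv_left).eq)⟩
    have hfpf : ∀ a ∈ A, Commute g a → a = 1 := fun a ha hga => by
      have hbot := CfsgLib.Coprime.centralizer_inf_commutator_eq_bot (A := Z) hSc hZS (by
        obtain ⟨k, hk⟩ := IsPGroup.iff_card.1 hS2
        rw [hk, hZ, Nat.card_zpowers]
        refine (Nat.Coprime.coprime_dvd_left (orderOf_dvd_of_pow_eq_one hg) ?_).pow_right k
        exact (Nat.coprime_primes ht Nat.prime_two).2 ht2)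
      refine mem_bot.1 (hbot ▸ (mem_inf.2 ⟨mem_inf.2 ⟨hAS ha, ?_⟩, ha⟩))
      rw [hZ, zpowers_eq_closure, centralizer_closure]
      exact mem_centralizer_singleton_iff.2 hga.symm.eq
    obtain ⟨v, hv, hv1, hgv⟩ := exists_fixed ht hg
      ((hcV hAS).coprime_dvd_right (card_dvd_of_le inf_le_left))
      (fun a ha => hnorm a (hSV (hAS ha)) (hScomm a (hAS ha) e he.1))
      (hnorm g hgV (mem_centralizer_singleton_iff.1 he.2).symm) hZA hfpf hmove
    exact hgoal e he he1 v hv hv1 hgv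

/-- A solvable subgroup has no three primes such that elements of two of them never commute. -/
theorem false_of_three {L : Subgroup G} (hL : Group.IsSolvable L) (e : Fin 3 → ℕ) (he : ∀ i, (e i).Prime)
    (hinj : Function.Injective e) (hdvd : ∀ i, e i ∣ Nat.card L)
    (hno : ∀ i j, i ≠ j → ∀ x ∈ L, ∀ y ∈ L, orderOf x = e i → orderOf y = e j → ¬ Commute x y) : False := by
  classical
  obtain ⟨H, hH⟩ := CfsgLib.Coprime.exists_hallIn (Set.range e) hL
  have hHL := hH.1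
  have hpi : ∀ i, e i ∣ Nat.card H := fun i => by
    have h1 := CfsgLib.Coprime.card_mul_relIndex hHL
    rcases (he i).dvd_mul.1 (h1.symm ▸ hdvd i) with h | h
    · exact h
    · exact absurd (Set.mem_range_self i) (hH.2.2 (e i) (he i) h)
  haveI : Group.IsSolvable H := CfsgLib.Coprime.isSolvable_of_le hHL hL
  haveI : Nontrivial H := by
    refine Finite.one_lt_card_iff_nontrivial.1 ?_
    exact lt_of_lt_of_le (he 0).one_lt (Nat.le_of_dvd Nat.card_pos (hpi 0))
  obtain ⟨N₀, p, hN₀, hN₀ne, hp, hN₀p, hN₀c⟩ := CfsgLib.Coprime.exists_normal_pGroup_of_isSolvable (G := H)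
  set N := N₀.map H.subtype with hNdef
  have hNH : N ≤ H := map_subtype_le _
  have hNne : N ≠ ⊥ := fun e' => hN₀ne ((map_eq_bot_iff_of_injective _ H.subtype_injective).1 e')
  have hNp : IsPGroup p N := hN₀p.map _
  haveI : IsMulCommutative N := isMulCommutative_iff.2 fun a b => Subtype.ext (by
    obtain ⟨a', ha', ea⟩ := a.2
    obtain ⟨b', hb', eb⟩ := b.2
    show (a : G) * b = b * a
    rw [← ea, ← eb, ← map_mul, ← map_mul, hN₀c a' ha' b' hb'])
  have hHN : H ≤ normalizer (N : Set G) := fun g hg => mem_normalizer_fintype fun x hx => by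
    obtain ⟨x', hx', rfl⟩ := hx
    exact ⟨_, hN₀.conj_mem x' hx' ⟨g, hg⟩, rfl⟩
  haveI := Fact.mk hp
  obtain ⟨i₀, hi₀⟩ : ∃ i, e i = p := by
    obtain ⟨k, hk⟩ := IsPGroup.iff_card.1 hNp
    have hk0 : k ≠ 0 := fun h0 => hNne (Subgroup.eq_bot_of_card_eq _ (by rw [hk, h0, pow_zero]))
    exact hH.2.1 p hp ((hk ▸ dvd_pow_self p hk0 : p ∣ Nat.card N).trans (card_dvd_of_le hNH))
  -- the Hall subgroup of the two other primes
  obtain ⟨T, hT⟩ := CfsgLib.Coprime.exists_hallIn {n | ∃ i, i ≠ i₀ ∧ e i = n} ‹Group.IsSolvable H›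
  have hTH := hT.1
  have hTpi : ∀ i, i ≠ i₀ → e i ∣ Nat.card T := fun i hi => by
    have h1 := CfsgLib.Coprime.card_mul_relIndex hTH
    rcases (he i).dvd_mul.1 (h1.symm ▸ hpi i) with h | h
    · exact h
    · exact absurd ⟨i, hi, rfl⟩ (hT.2.2 (e i) (he i) h)
  haveI : Group.IsSolvable T := CfsgLib.Coprime.isSolvable_of_le hTH inferInstance
  obtain ⟨j₀, hj₀⟩ : ∃ j : Fin 3, j ≠ i₀ := exists_ne i₀
  haveI : Nontrivial T := by
    refine Finite.one_lt_card_iff_nontrivial.1 ?_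
    exact lt_of_lt_of_le (he j₀).one_lt (Nat.le_of_dvd Nat.card_pos (hTpi j₀ hj₀))
  obtain ⟨M₀, q, hM₀, hM₀ne, hq, hM₀q, hM₀c⟩ := CfsgLib.Coprime.exists_normal_pGroup_of_isSolvable (G := T)
  set M := M₀.map T.subtype with hMdef
  have hMT : M ≤ T := map_subtype_le _
  have hMne : M ≠ ⊥ := fun e' => hM₀ne ((map_eq_bot_iff_of_injective _ T.subtype_injective).1 e')
  have hMq : IsPGroup q M := hM₀q.map _
  haveI := Fact.mk hq
  obtain ⟨j₁, hj₁, hj₁q⟩ : ∃ j, j ≠ i₀ ∧ e j = q := by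
    obtain ⟨k, hk⟩ := IsPGroup.iff_card.1 hMq
    have hk0 : k ≠ 0 := fun h0 => hMne (Subgroup.eq_bot_of_card_eq _ (by rw [hk, h0, pow_zero]))
    exact hT.2.1 q hq ((hk ▸ dvd_pow_self q hk0 : q ∣ Nat.card M).trans (card_dvd_of_le hMT))
  obtain ⟨k, hk₀, hk₁⟩ : ∃ k : Fin 3, k ≠ i₀ ∧ k ≠ j₁ :=
    (by decide : ∀ a b : Fin 3, ∃ c, c ≠ a ∧ c ≠ b) i₀ j₁
  haveI := Fact.mk (he k)
  obtain ⟨y₀, hy₀⟩ := exists_prime_orderOf_dvd_card' (G := T) (e k) (hTpi k hk₀)
  have hy : orderOf (y₀ : G) = e k := by rw [Subgroup.orderOf_coe, hy₀]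
  have hyL : (y₀ : G) ∈ L := hHL (hTH y₀.2)
  -- powers of prime order
  have hroot : ∀ {P : Subgroup G} {r : ℕ}, r.Prime → IsPGroup r P → ∀ x ∈ P, x ≠ 1 → Commute (y₀ : G) x →
      ∃ z ∈ P, orderOf z = r ∧ Commute (y₀ : G) z := by
    intro P r hr hP x hx hx1 hc
    obtain ⟨a, ha⟩ := hP ⟨x, hx⟩
    have hxa : x ^ r ^ a = 1 := congrArg Subtype.val ha
    obtain ⟨j, -, hj⟩ := (Nat.dvd_prime_pow hr).1 (orderOf_dvd_of_pow_eq_one hxa)
    have hj0 : j ≠ 0 := fun h0 => hx1 (orderOf_eq_one_iff.1 (by rw [hj, h0, pow_zero]))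
    refine ⟨x ^ r ^ (j - 1), pow_mem hx _, ?_, hc.pow_right _⟩
    rw [orderOf_pow' x (pow_ne_zero _ hr.ne_zero), hj, Nat.gcd_eq_right (pow_dvd_pow r (Nat.sub_le j 1)),
      Nat.pow_div (Nat.sub_le j 1) hr.pos, show j - (j - 1) = 1 by omega, pow_one]
  have hne_pq : p ≠ q := by
    rw [← hi₀, ← hj₁q]
    exact fun h' => hj₁ (hinj h').symm
  obtain ⟨v, hv, hv1, hyv⟩ := exists_fixed (A := M) (V := N) (he k) (by rw [← hy]; exact pow_orderOf_eq_one _)
    (by
      obtain ⟨a, ha⟩ := IsPGroup.iff_card.1 hMq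
      obtain ⟨b, hb⟩ := IsPGroup.iff_card.1 hNp
      rw [ha, hb]
      exact ((Nat.coprime_primes hq hp).2 hne_pq.symm).pow a b)
    ((hMT.trans hTH).trans hHN) (hHN (hTH y₀.2))
    (mem_normalizer_fintype fun x hx => by
      obtain ⟨x', hx', rfl⟩ := hx
      exact ⟨_, hM₀.conj_mem x' hx' y₀, rfl⟩)
    (fun a ha hc => by
      by_contra ha1
      obtain ⟨z, hz, hzo, hzc⟩ := hroot hq hMq a ha ha1 hc
      exact hno k j₁ hk₁ _ hyL z (hHL (hTH (hMT hz))) hy (hzo.trans hj₁q.symm) hzc)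
    (fun hle => by
      -- `M` would centralize `N`
      obtain ⟨x, hx, hx1⟩ := M.bot_or_exists_ne_one.resolve_left hMne
      obtain ⟨v, hv, hv1⟩ := N.bot_or_exists_ne_one.resolve_left hNne
      obtain ⟨a, ha⟩ := hMq ⟨x, hx⟩
      obtain ⟨b, hb⟩ := hNp ⟨v, hv⟩
      have hxv : Commute x v := (mem_centralizer_iff.1 (hle hx) v hv).symm
      obtain ⟨j, -, hj⟩ := (Nat.dvd_prime_pow hq).1 (orderOf_dvd_of_pow_eq_one (congrArg Subtype.val ha : x ^ q ^ a = 1))
      obtain ⟨l, -, hl⟩ := (Nat.dvd_prime_pow hp).1 (orderOf_dvd_of_pow_eq_one (congrArg Subtype.val hb : v ^ p ^ b = 1))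
      have hj0 : j ≠ 0 := fun h0 => hx1 (orderOf_eq_one_iff.1 (by rw [hj, h0, pow_zero]))
      have hl0 : l ≠ 0 := fun h0 => hv1 (orderOf_eq_one_iff.1 (by rw [hl, h0, pow_zero]))
      refine hno j₁ i₀ hj₁ (x ^ (orderOf x / q)) (pow_mem (hHL (hTH (hMT hx))) _) (v ^ (orderOf v / p))
        (pow_mem (hHL (hNH hv)) _) ?_ ?_ (hxv.pow_pow _ _)
      · rw [orderOf_pow_orderOf_div (orderOf_pos x).ne' (hj ▸ dvd_pow_self q hj0), hj₁q]
      · rw [orderOf_pow_orderOf_div (orderOf_pos v).ne' (hl ▸ dvd_pow_self p hl0), hi₀])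
  obtain ⟨z, hz, hzo, hzc⟩ := hroot hp hNp v hv hv1 hyv
  exact hno k i₀ hk₀ _ hyL z (hHL (hNH hz)) hy (hzo.trans hi₀.symm) hzc

end CfsgLib.Spor.JOneSquare
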