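import Cfsg.Agent.Lib.Spor.JOneSquare.TwoFactor
import Cfsg.Agent.Lib.Char.J1.Structure

/-!
# The Frobenius groups of `J₁` and the element orders of `J₁ × J₁`

The subgroups `2³:7`, `11:10` and `19:6` are exhibited by code words; the orders of the square come from those of
`J₁`.
-/

set_option autoImplicit false
set_option linter.style.haveILetI false

namespace CfsgLib.Spor.JOneSquare

open Subgroup CfsgLib.Char.J1

attribute [local instance] CfsgLib.Char.J1.finite_J1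

theorem eight_normal : ∀ p : ZMod 2 × ZMod 2 × ZMod 2, ∃ q : ZMod 2 × ZMod 2 × ZMod 2,
    mulC xC (eightC p) = mulC (eightC q) xC := by decide +kernel

theorem eight_fpf : ∀ i : Fin 7, i ≠ 0 → ∀ p : ZMod 2 × ZMod 2 × ZMod 2,
    mulC (powC xC i) (eightC p) = mulC (eightC p) (powC xC i) → p = 0 := by decide +kernel

/-- The group `2³:7`. -/
theorem frob_two_seven : Frob (↥Cfsg.Spor.J1) 2 7 := by
  haveI := finite_J1
  refine ⟨eightHom.range, genX, ?_, ?_, orderOf_genX, ?_, ?_⟩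
  · rintro ⟨_, p, rfl⟩
    refine ⟨1, Subtype.ext ?_⟩
    rw [Subgroup.coe_pow, ← map_pow]
    refine (congrArg eightHom ?_).trans (map_one _)
    rw [pow_one]
    exact Multiplicative.toAdd.injective ((show ∀ q : ZMod 2 × ZMod 2 × ZMod 2, (2 : ℕ) • q = 0 by decide) p.toAdd)
  · intro h
    have h1 : eightHom (Multiplicative.ofAdd ((1, 0, 0) : ZMod 2 × ZMod 2 × ZMod 2)) = 1 := by
      rw [← mem_bot (G := ↥Cfsg.Spor.J1), ← h]; exact ⟨_, rfl⟩
    rw [← map_one eightHom] at h1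
    exact absurd (congrArg Multiplicative.toAdd (eightHom_injective h1)) (by decide)
  · refine mem_normalizer_fintype fun a ha => ?_
    obtain ⟨p, rfl⟩ := ha
    obtain ⟨q, hq⟩ := eight_normal p.toAdd
    refine ⟨Multiplicative.ofAdd q, ?_⟩
    show eightE q = genX * eightE p.toAdd * genX⁻¹
    rw [eq_mul_inv_iff_mul_eq]
    exact code_injective (by rw [code_mul, code_mul, code_eightE, code_eightE, code_genX, hq])
  · rintro i hi _ ⟨p, rfl⟩ hc
    have hi7 : (⟨i % 7, Nat.mod_lt i (by norm_num)⟩ : Fin 7) ≠ 0 := fun e => hi (by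
      rw [← pow_mod_orderOf, orderOf_genX, show i % 7 = 0 from Fin.val_eq_of_eq e, pow_zero])
    have hp := eight_fpf _ hi7 p.toAdd (by
      have h := congrArg code hc.eq
      rw [code_mul, code_mul, ← pow_mod_orderOf, orderOf_genX, code_pow, code_genX,
        show code (eightHom p) = eightC p.toAdd from code_eightE _] at h
      exact h)
    rw [show p = 1 from Multiplicative.toAdd.injective hp, map_one]

theorem frob_of_code {l k w : ℕ} (hl : l.Prime) (hk : 0 < k) {x b : ℕ × ℕ} (hx : x.1 < 660 ∧ x.2 < 266)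
    (hb : b.1 < 660 ∧ b.2 < 266)
    (h : (powC (pairC x.1 x.2) l == oneC && !(pairC x.1 x.2 == oneC) && powC (pairC b.1 b.2) k == oneC &&
      (List.range k).all (fun i => decide (i = 0) || !(powC (pairC b.1 b.2) i == oneC)) &&
      mulC (pairC b.1 b.2) (pairC x.1 x.2) == mulC (powC (pairC x.1 x.2) w) (pairC b.1 b.2)) = true)
    (hw : ∀ i < k, 0 < i → ∀ z < l, 0 < z → (z * w ^ i) % l ≠ z) : Frob (↥Cfsg.Spor.J1) l k := by
  haveI := finite_J1
  haveI := Fact.mk hl
  simp only [Bool.and_eq_true, beq_iff_eq, List.all_eq_true, List.mem_range, Bool.or_eq_true,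
    decide_eq_true_eq, Bool.not_eq_true', beq_eq_false_iff_ne] at h
  obtain ⟨⟨⟨⟨h1, h2⟩, h3⟩, h4⟩, h5⟩ := h
  obtain ⟨X, hX⟩ := exists_code_eq_pairC hx.1 hx.2
  obtain ⟨B, hB⟩ := exists_code_eq_pairC hb.1 hb.2
  rw [← hX] at h1 h2 h5
  rw [← hB] at h3 h4 h5
  rw [← code_pow] at h1 h3 h5
  simp only [← code_mul] at h5
  rw [code_eq_one_iff] at h1 h3
  rw [Ne, code_eq_one_iff] at h2
  have hXo : orderOf X = l := orderOf_eq_prime h1 h2
  have hBo : orderOf B = k := (orderOf_eq_iff hk).2 ⟨h3, fun i hi hi0 e => by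
    rcases h4 i hi with rfl | h6
    · exact lt_irrefl 0 hi0
    · exact h6 (by rw [← code_pow, e, code_one])⟩
  have hconj : B * X * B⁻¹ = X ^ w := by rw [mul_inv_eq_iff_eq_mul]; exact code_injective h5
  have hiter : ∀ i : ℕ, B ^ i * X * (B ^ i)⁻¹ = X ^ w ^ i := by
    intro i
    induction i with
    | zero => simp
    | succ i ih =>
      rw [pow_succ' B i, show B * B ^ i * X * (B * B ^ i)⁻¹ = B * (B ^ i * X * (B ^ i)⁻¹) * B⁻¹ by group, ih,
        ← conj_pow, hconj, ← pow_mul, ← pow_succ']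
  refine ⟨zpowers X, B, IsPGroup.of_card (n := 1) (by rw [Nat.card_zpowers, hXo, pow_one]),
    fun e => h2 (zpowers_eq_bot.1 e), hBo, mem_normalizer_fintype fun a ha => ?_, fun i hi a ha hc => ?_⟩
  · obtain ⟨z, rfl⟩ := mem_zpowers_iff.1 ha
    rw [← conj_zpow, hconj]
    exact zpow_mem (pow_mem (mem_zpowers X) w) z
  · obtain ⟨z, rfl⟩ := (mem_powers_iff_mem_zpowers (x := X)).2 ha
    have hir : i % k ≠ 0 := fun e => hi (by rw [← pow_mod_orderOf, hBo, e, pow_zero])
    have hc' : Commute (B ^ (i % k)) (X ^ z) := by rw [← hBo, pow_mod_orderOf]; exact hc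
    have h6 : X ^ (z * w ^ (i % k)) = X ^ z := by
      rw [mul_comm, pow_mul, ← hiter, conj_pow, hc'.eq, mul_inv_cancel_right]
    rw [pow_eq_pow_iff_modEq, hXo] at h6
    show X ^ z = 1
    rw [← pow_mod_orderOf, hXo]
    by_contra hz
    have hz0 : 0 < z % l := Nat.pos_of_ne_zero fun e => hz (by rw [e, pow_zero])
    refine hw (i % k) (Nat.mod_lt i hk) (Nat.pos_of_ne_zero hir) (z % l) (Nat.mod_lt z hl.pos) hz0 ?_
    rw [Nat.mod_mul_mod]
    exact h6

/-- The group `11:10`. -/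
theorem frob_eleven_ten : Frob (↥Cfsg.Spor.J1) 11 10 :=
  frob_of_code (w := 2) (x := (4, 0)) (b := (51, 141)) (by norm_num) (by norm_num) (by norm_num) (by norm_num)
    (by decide +kernel) (by decide)

/-- The group `19:6`. -/
theorem frob_nineteen_six : Frob (↥Cfsg.Spor.J1) 19 6 :=
  frob_of_code (w := 8) (x := (7, 1)) (b := (127, 122)) (by norm_num) (by norm_num) (by norm_num) (by norm_num)
    (by decide +kernel) (by decide)

universe u

/-- The hypotheses on the orders. -/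
theorem spectrum {G : Type u} [Group G]
    (h : Set.range (orderOf : G → ℕ) = Set.range (orderOf : ↥Cfsg.Spor.J1 × ↥Cfsg.Spor.J1 → ℕ)) :
    Sub G ∧ ∀ p ∈ ({5, 7, 11, 19} : Finset ℕ), ∀ q ∈ ({5, 7, 11, 19} : Finset ℕ), p ≠ q →
      ∃ g : G, orderOf g = p * q := by
  constructor
  · intro g
    obtain ⟨⟨a, b⟩, hab⟩ : orderOf g ∈ Set.range (orderOf : ↥Cfsg.Spor.J1 × ↥Cfsg.Spor.J1 → ℕ) := h ▸ ⟨g, rfl⟩
    obtain ⟨m₁, hm₁, d₁⟩ := orderOf_dvd_exponent a
    obtain ⟨m₂, hm₂, d₂⟩ := orderOf_dvd_exponent b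
    have key : ∀ x ∈ ({6, 10, 15, 7, 11, 19} : Finset ℕ), ∀ y ∈ ({6, 10, 15, 7, 11, 19} : Finset ℕ),
        ∃ m ∈ maxOrders, Nat.lcm x y ∣ m := by
      unfold maxOrders
      decide +kernel
    obtain ⟨m, hm, hd⟩ := key m₁ hm₁ m₂ hm₂
    rw [← hab, Prod.orderOf]
    exact ⟨m, hm, (Nat.lcm_dvd_iff.2 ⟨d₁.trans (Nat.dvd_lcm_left _ _), d₂.trans (Nat.dvd_lcm_right _ _)⟩).trans hd⟩
  · intro p hp q hq hpq
    have hel : ∀ r ∈ ({5, 7, 11, 19} : Finset ℕ), ∃ a : ↥Cfsg.Spor.J1, orderOf a = r := fun r hr => by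
      have hmem : r ∈ Set.range (orderOf : ↥Cfsg.Spor.J1 → ℕ) := by
        rw [range_orderOf]
        simp only [Finset.mem_insert, Finset.mem_singleton] at hr
        simp only [Set.mem_insert_iff, Set.mem_singleton_iff]
        omega
      exact hmem
    obtain ⟨a, ha⟩ := hel p hp
    obtain ⟨b, hb⟩ := hel q hq
    have hcop : ∀ p ∈ ({5, 7, 11, 19} : Finset ℕ), ∀ q ∈ ({5, 7, 11, 19} : Finset ℕ), p ≠ q → p.Coprime q := by
      decide
    have hmem : p * q ∈ Set.range (orderOf : G → ℕ) := by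
      rw [h]
      exact ⟨(a, b), by rw [Prod.orderOf, ha, hb, (hcop p hp q hq hpq).lcm_eq_mul]⟩
    exact hmem

end CfsgLib.Spor.JOneSquare
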