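import Cfsg.Agent.Lib.Spor.JOneSquare.TwoFactor
import Cfsg.Agent.Lib.Lie.SuzSquare.Cover

/-!
# The soluble kernel below a simple section

An involution off the kernel fixes a point in each odd prime of the kernel, which leaves three primes without
joined pairs; an element of order `p` centralizing the section has a centralizer without elements of order `2 q`.
-/

set_option autoImplicit false
set_option linter.style.haveILetI false
set_option linter.unusedSectionVars false
set_option linter.unusedVariables false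

namespace CfsgLib.Spor.JOneSquare

open Subgroup CfsgLib.Coprime
open scoped commutatorElement

universe u v w

variable {G : Type u} [Group G] [Finite G]

theorem le_norm_ker {Q : Type v} [Group Q] (π : G →* Q) (X : Subgroup G) : X ≤ normalizer (π.ker : Set G) :=
  le_top.trans (normalizer_eq_top_iff.2 (inferInstance : π.ker.Normal)).ge

/-- An involution off the kernel of a cover fixes a point in each prime of a solvable group of odd order normalised
by the cover. -/
theorem exists_fixed_prime {T : Type v} [Group T] [IsSimpleGroup T] (hna : ¬ IsMulCommutative T)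
    (C : Lie.SuzSquare.Cover G T) {t : C.X} (ht : orderOf (t : G) = 2) (hft : C.f t ≠ 1) {p : ℕ} (hp : p.Prime)
    {O : Subgroup G} (hs : Group.IsSolvable O) (hodd : Odd (Nat.card O)) (hXO : C.X ≤ normalizer (O : Set G))
    (hpd : p ∣ Nat.card O) : p ∣ Nat.card (O ⊓ centralizer ({(t : G)} : Set G) : Subgroup G) := by
  induction hn : Nat.card O using Nat.strong_induction_on generalizing O with
  | _ n ih =>
    haveI := hs
    haveI := Fact.mk hp
    haveI : Nontrivial O := Finite.one_lt_card_iff_nontrivial.1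
      (lt_of_lt_of_le hp.one_lt (Nat.le_of_dvd Nat.card_pos hpd))
    set K := ⁅O, O⁆ with hKdef
    have hKeq : (commutator O).map O.subtype = K := by
      rw [commutator_def, map_commutator, ← MonoidHom.range_eq_map, range_subtype]
    have hKO : K ≤ O := hKeq ▸ map_subtype_le _
    have hKlt : Nat.card K < n := by
      rw [← hn, ← hKeq, card_map_of_injective O.subtype_injective]
      refine lt_of_le_of_ne (card_le_card_group _) fun e => ?_
      exact (Group.IsSolvable.commutator_lt_top_of_nontrivial O).ne (eq_top_of_card_eq _ e)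
    have hnK : ∀ X : Subgroup G, X ≤ normalizer (O : Set G) → X ≤ normalizer (K : Set G) := fun X hX x hx => by
      rw [← conjBy_eq_self_iff]
      show Subgroup.map _ ⁅O, O⁆ = _
      rw [map_commutator]
      exact congrArg₂ _ (conjBy_eq_self_iff.2 (hX hx)) (conjBy_eq_self_iff.2 (hX hx))
    have hOK := hnK O le_normalizer
    by_cases hpK : p ∣ Nat.card K
    · exact (ih _ hKlt (isSolvable_of_le hKO hs) (hodd.of_dvd_nat (card_dvd_of_le hKO)) (hnK _ hXO) hpK rfl).trans
        (card_dvd_of_le (inf_le_inf_right _ hKO))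
    have hp2 : p ≠ 2 := fun e => Nat.not_even_iff_odd.2 hodd (even_iff_two_dvd.2 (e ▸ hpd))
    have htt : (t : G) * t = 1 := by rw [← sq, ← ht]; exact pow_orderOf_eq_one _
    have hinv : (t : G)⁻¹ = t := inv_eq_of_mul_eq_one_right htt
    -- work modulo the commutator subgroup
    set H := C.X ⊔ O
    have hHO : H ≤ normalizer (O : Set G) := sup_le hXO le_normalizer
    have hHK : H ≤ normalizer (K : Set G) := hnK H hHO
    have hOH : O ≤ H := le_sup_right
    have hKH : K ≤ H := hKO.trans hOH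
    set K' := K.subgroupOf H
    haveI : K'.Normal := normal_subgroupOf_of_le_normalizer hHK
    set q := QuotientGroup.mk' K'
    set O' := (O.subgroupOf H).map q
    have hO'mem : ∀ {x : G} (hx : x ∈ O), q ⟨x, hOH hx⟩ ∈ O' := fun hx => mem_map_of_mem q hx
    let j : C.X →* H ⧸ K' := q.comp (Subgroup.inclusion le_sup_left)
    have hcomm : ∀ a ∈ O', ∀ b ∈ O', Commute a b := by
      rintro _ ⟨a, ha, rfl⟩ _ ⟨b, hb, rfl⟩
      show q a * q b = q b * q a
      rw [← map_mul, ← map_mul]
      refine QuotientGroup.eq.2 ?_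
      rw [mem_subgroupOf]
      show ((a * b)⁻¹ * (b * a) : H) ∈ K'
      rw [show (a * b)⁻¹ * (b * a) = ⁅b⁻¹, a⁻¹⁆ by group, mem_subgroupOf]
      exact commutator_mem_commutator (inv_mem hb) (inv_mem ha)
    have hconj : ∀ (y : C.X), ∀ a ∈ O', j y * a * (j y)⁻¹ ∈ O' := by
      rintro y _ ⟨a, ha, rfl⟩
      rw [show j y = q ⟨y, mem_sup_left y.2⟩ from rfl, ← map_inv, ← map_mul, ← map_mul]
      exact mem_map_of_mem q (mem_subgroupOf.2 ((mem_normalizer_iff.1 (hXO y.2) a).1 ha))
    obtain ⟨c, hc, hcp, hc1, hct⟩ : ∃ c ∈ O', c ^ p = 1 ∧ c ≠ 1 ∧ Commute (j t) c := by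
      by_contra hcon
      push Not at hcon
      have hjt : (j t)⁻¹ = j t := by rw [← map_inv]; exact congrArg j (Subtype.ext hinv)
      -- the involution inverts the points of order `p`
      have hinvert : ∀ a ∈ O', a ^ p = 1 → j t * a * (j t)⁻¹ = a⁻¹ := by
        intro a ha hap
        have hta := hconj t a ha
        by_contra hne
        refine hcon (a * (j t * a * (j t)⁻¹)) (mul_mem ha hta) ?_ (fun e => hne (inv_eq_of_mul_eq_one_right e).symm) ?_
        · rw [(hcomm a ha _ hta).mul_pow, conj_pow, hap]; simp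
        · show _ = _
          rw [hjt] at hta ⊢
          have h := (hcomm a ha _ hta).eq
          calc j t * (a * (j t * a * j t)) = j t * (j t * a * j t * a) := by rw [h]
            _ = (j t * j t) * a * (j t * a) := by group
            _ = a * (j t * a) := by
              rw [show j t * j t = 1 by rw [← map_mul]; exact (congrArg j (Subtype.ext htt : t * t = 1)).trans (map_one j), one_mul]
            _ = a * (j t * a * j t) * j t := by
              rw [show a * (j t * a * j t) * j t = a * (j t * a * (j t * j t)) by group,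
                show j t * j t = 1 by rw [← map_mul]; exact (congrArg j (Subtype.ext htt : t * t = 1)).trans (map_one j), mul_one]
      -- so the cover centralizes them
      let D : Subgroup C.X :=
        { carrier := {y | ∀ a ∈ O', a ^ p = 1 → Commute (j y) a}
          one_mem' := fun a _ _ => by simp
          mul_mem' := fun hy hz a ha hap => by rw [map_mul]; exact (hy a ha hap).mul_left (hz a ha hap)
          inv_mem' := fun hy a ha hap => by rw [map_inv]; exact (hy a ha hap).inv_left }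
      haveI : D.Normal := ⟨fun y hy z a ha hap => by
        have h2 := hconj z⁻¹ a ha
        rw [map_inv, inv_inv] at h2
        have h3 : Commute (j y) ((j z)⁻¹ * a * j z) := hy _ h2 (by
          have := conj_pow (i := p) (a := (j z)⁻¹) (b := a)
          rw [inv_inv] at this
          rw [this, hap]; group)
        show _ = _
        rw [map_mul, map_mul, map_inv]
        calc j z * j y * (j z)⁻¹ * a = j z * (j y * ((j z)⁻¹ * a * j z)) * (j z)⁻¹ := by group
          _ = j z * (((j z)⁻¹ * a * j z) * j y) * (j z)⁻¹ := by rw [h3.eq]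
          _ = a * (j z * j y * (j z)⁻¹) := by group⟩
      obtain ⟨s, hs'⟩ : ∃ s : C.X, C.f t * C.f s ≠ C.f s * C.f t := by
        by_contra h
        push Not at h
        have hcen : C.f t ∈ center T := mem_center_iff.2 fun z => by
          obtain ⟨s, rfl⟩ := C.surj z
          exact (h s).symm
        rcases (inferInstance : (center T).Normal).eq_bot_or_eq_top with e | e
        · exact hft (mem_bot.1 (e ▸ hcen))
        · exact hna (isMulCommutative_iff.2 fun a b => mem_center_iff.1 (e ▸ mem_top b) a)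
      have hmem : t * s * t * s⁻¹ ∈ D := fun a ha hap => by
        have h2 := hconj s⁻¹ a ha
        rw [map_inv, inv_inv] at h2
        have h3 : j t * ((j s)⁻¹ * a * j s) * (j t)⁻¹ = ((j s)⁻¹ * a * j s)⁻¹ := hinvert _ h2 (by
          have := conj_pow (i := p) (a := (j s)⁻¹) (b := a)
          rw [inv_inv] at this
          rw [this, hap]; group)
        show _ = _
        rw [map_mul, map_mul, map_mul, map_inv]
        refine mul_inv_eq_iff_eq_mul.1 ?_
        calc j t * j s * j t * (j s)⁻¹ * a * (j t * j s * j t * (j s)⁻¹)⁻¹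
            = j t * (j s * (j t * ((j s)⁻¹ * a * j s) * (j t)⁻¹) * (j s)⁻¹) * (j t)⁻¹ := by group
          _ = j t * a⁻¹ * (j t)⁻¹ := by rw [h3]; group
          _ = a := by rw [hinvert a⁻¹ (inv_mem ha) (by rw [inv_pow, hap, inv_one]), inv_inv]
      have htop : D = ⊤ := C.normal_top hmem (by
        rw [map_mul, map_mul, map_mul, map_inv]
        have hft2 : C.f t * C.f t = 1 := by rw [← map_mul, show t * t = 1 from Subtype.ext htt, map_one]
        intro e
        refine hs' ?_
        calc C.f t * C.f s = (C.f t * C.f s * C.f t * (C.f s)⁻¹) * C.f s * (C.f t)⁻¹ := by group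
          _ = C.f s * C.f t := by rw [e, inv_eq_of_mul_eq_one_right hft2, one_mul])
      have hpd' : p ∣ Nat.card O' := by
        have h1 : p ∣ Nat.card O / Nat.card K := by
          refine ((Nat.Prime.coprime_iff_not_dvd hp).2 hpK).dvd_of_dvd_mul_left ?_
          rwa [Nat.mul_div_cancel' (card_dvd_of_le hKO)]
        have h2 : Nat.card K * Nat.card O' = Nat.card O := by
          rw [← Nat.card_congr (subgroupOfEquivOfLe hKH).toEquiv, ← Nat.card_congr (subgroupOfEquivOfLe hOH).toEquiv]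
          change Nat.card K' * Nat.card ((O.subgroupOf H).map q) = _
          rw [← card_mul_relIndex (show K' ≤ O.subgroupOf H from fun x hx => hKO hx)]
          congr 1
          rw [← Subgroup.relIndex_bot_left, show (⊥ : Subgroup (H ⧸ K')) = K'.map q from
            (QuotientGroup.map_mk'_self K').symm, relIndex_map_map, QuotientGroup.ker_mk', sup_idem,
            sup_eq_left.2 (fun x hx => hKO hx)]
        rw [← h2, Nat.mul_div_cancel_left _ Nat.card_pos] at h1
        exact h1
      obtain ⟨a, ha⟩ := exists_prime_orderOf_dvd_card' (G := O') p hpd'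
      have hap : (a : H ⧸ K') ^ p = 1 := by
        rw [← Subgroup.coe_pow, ← ha, pow_orderOf_eq_one]; rfl
      have ha1 : (a : H ⧸ K') ≠ 1 := fun e => hp.ne_one (by
        rw [← ha, show a = 1 from Subtype.ext e, orderOf_one])
      exact hcon a a.2 hap ha1 ((htop ▸ mem_top t : t ∈ D) a a.2 hap)
    -- lift the fixed point
    obtain ⟨x, hx, rfl⟩ := hc
    have hxO : (x : G) ∈ O := hx
    obtain ⟨k, hk, hk'⟩ := exists_fixed_in_coset (A := zpowers (t : G)) (N := K) (k := (x : G))
      (zpowers_le.2 (hHK (mem_sup_left t.2)))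
      (by rw [Nat.card_zpowers, ht]; exact (Nat.coprime_two_left.2 (hodd.of_dvd_nat (card_dvd_of_le hKO))))
      (Or.inl (isSolvable_of_isMulCommutative inferInstance)) (hHK x.2) fun a ha => by
        obtain ⟨z, rfl⟩ := mem_zpowers_iff.1 ha
        have h1 : q ((⟨t, mem_sup_left t.2⟩ : H) ^ z * x * ((⟨t, mem_sup_left t.2⟩ : H) ^ z)⁻¹ * x⁻¹) = 1 := by
          rw [map_mul, map_mul, map_mul, map_inv, map_inv, map_zpow]
          show (j t) ^ z * q x * ((j t) ^ z)⁻¹ * (q x)⁻¹ = 1
          rw [(hct.zpow_left z).eq]; group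
        exact mem_subgroupOf.1 ((QuotientGroup.eq_one_iff _).1 h1)
    have hyO : (x : G) * k ∈ O := mul_mem hxO (hKO hk)
    have hord : p ∣ orderOf ((x : G) * k) := by
      have h1 : q ⟨(x : G) * k, hOH hyO⟩ = q x := by
        rw [show (⟨(x : G) * k, hOH hyO⟩ : H) = x * ⟨k, hKH hk⟩ from rfl, map_mul,
          show q ⟨k, hKH hk⟩ = 1 from (QuotientGroup.eq_one_iff _).2 (mem_subgroupOf.2 hk), mul_one]
      rw [← orderOf_eq_prime hcp hc1, ← h1, ← Subgroup.orderOf_mk ((x : G) * k) (hOH hyO)]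
      exact orderOf_map_dvd q _
    exact hord.trans (Subgroup.orderOf_dvd_natCard _ (mem_inf.2
      ⟨hyO, mem_centralizer_singleton_iff.2 (mem_centralizer_iff.1 hk' _ (mem_zpowers _)).symm⟩))

variable {Q : Type v} [Group Q] [Finite Q] (π : G →* Q) {T : Type w} [Group T] [Finite T] (ι : T →* Q)

/-- Three primes of the kernel, or two and one of a commuting section. -/
theorem false_of_three_kernel (hsub : Sub G) (hπ : Function.Surjective π) (hR : Group.IsSolvable π.ker)
    [IsSimpleGroup T] (hna : ¬ IsMulCommutative T) (hι : Function.Injective ι) (h2 : 2 ∣ Nat.card T)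
    (h7 : 7 ∣ Nat.card π.ker) (h19 : 19 ∣ Nat.card π.ker)
    (h11 : 11 ∣ Nat.card π.ker ∨ ∃ (T' : Subgroup Q), IsSimpleGroup T' ∧ ¬ IsMulCommutative T' ∧
      11 ∣ Nat.card T' ∧ ∀ x, ∀ y ∈ T', Commute (ι x) y) : False := by
  haveI := Fact.mk Nat.prime_two
  haveI : Fact (Nat.Prime 11) := ⟨by norm_num⟩
  obtain ⟨O, hO⟩ := exists_hallIn {r : ℕ | r ≠ 2} hR
  set N := normalizer (O : Set G)
  have hOs := isSolvable_of_le hO.1 hR
  have hodd : Odd (Nat.card O) := Nat.not_even_iff_odd.1 fun he => hO.2.1 2 Nat.prime_two (even_iff_two_dvd.1 he) rfl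
  have hOd : ∀ r : ℕ, r.Prime → r ≠ 2 → r ∣ Nat.card π.ker → r ∣ Nat.card O := fun r hr hr2 hd => by
    rw [← card_mul_relIndex hO.1] at hd
    exact (hr.dvd_mul.1 hd).resolve_right fun h => hO.2.2 r hr h hr2
  have hfr := hall_frattini hR hO.1 (isPiNum_coprime hO.2.1 hO.2.2)
  have hcov : ∀ y : Q, ∃ x ∈ N, π x = y := fun y => by
    obtain ⟨x, rfl⟩ := hπ y
    obtain ⟨a, ha, b, hb, rfl⟩ := mem_sup_of_normal_left.1 (hfr ▸ mem_top x : x ∈ π.ker ⊔ N)
    exact ⟨b, hb, by rw [map_mul, MonoidHom.mem_ker.1 ha, one_mul]⟩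
  -- the element of order eleven
  obtain ⟨N', hN'N, hcovT, L₁, hOL, hL₁s, hL₁11, hL₁⟩ : ∃ N' : Subgroup G, N' ≤ N ∧ (∀ x : T, ∃ g ∈ N', π g = ι x) ∧
      ∃ L₁ : Subgroup G, O ≤ L₁ ∧ Group.IsSolvable L₁ ∧ (11 ∣ Nat.card O ∨ ∃ y ∈ L₁, orderOf y = 11 ∧ N' ≤ centralizer {y}) ∧
        N' ≤ normalizer (O : Set G) := by
    by_cases h11R : 11 ∣ Nat.card π.ker
    · exact ⟨N, le_rfl, fun x => hcov _, O, le_rfl, hOs, Or.inl (hOd 11 (by norm_num) (by norm_num) h11R), le_rfl⟩
    obtain ⟨T', -, -, hT', hc⟩ := h11.resolve_left h11R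
    obtain ⟨y₀, hy₀⟩ := exists_prime_orderOf_dvd_card' (G := T') 11 hT'
    obtain ⟨y₁, hy₁, hy₁'⟩ := hcov y₀
    obtain ⟨e, he, heo⟩ := exists_lift_pow hsub (π.comp N.subtype) (x := ⟨y₁, hy₁⟩) (k := 11)
      (by show orderOf (π y₁) = 11; rw [hy₁', Subgroup.orderOf_coe, hy₀])
    set y : G := ((⟨y₁, hy₁⟩ ^ e : N) : G)
    have hyN : y ∈ N := SetLike.coe_mem _
    have hyπ : π y = y₀ := he.trans hy₁'
    refine ⟨N ⊓ centralizer ({y} : Set G), inf_le_left, fun x => ?_, O ⊔ zpowers y, le_sup_left, ?_,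
      Or.inr ⟨y, mem_sup_right (mem_zpowers y), heo, inf_le_right⟩, inf_le_left⟩
    · obtain ⟨g, hg, hgx⟩ := hcov (ι x)
      obtain ⟨k, hk, hk'⟩ := exists_fixed_in_coset (A := zpowers y) (N := N ⊓ π.ker) (k := g)
        ((zpowers_le.2 hyN).trans (inf_le_normalizer le_normalizer (le_norm_ker π N)))
        (by
          rw [Nat.card_zpowers, heo]
          exact (Fact.out : Nat.Prime 11).coprime_iff_not_dvd.2 fun hd => h11R (hd.trans (card_dvd_of_le inf_le_right)))
        (Or.inl (isSolvable_of_isMulCommutative inferInstance))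
        (inf_le_normalizer le_normalizer (le_norm_ker π N) hg) fun a ha => by
          refine mem_inf.2 ⟨?_, ?_⟩
          · have haN : a ∈ N := zpowers_le.2 hyN ha
            exact mul_mem (mul_mem (mul_mem haN hg) (inv_mem haN)) (inv_mem hg)
          · obtain ⟨z, rfl⟩ := mem_zpowers_iff.1 ha
            rw [MonoidHom.mem_ker, map_mul, map_mul, map_mul, map_inv, map_inv, map_zpow, hgx, hyπ,
              ((hc x y₀ y₀.2).symm.zpow_left z).eq]
            group
      exact ⟨g * k, mem_inf.2 ⟨mul_mem hg (mem_inf.1 hk).1,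
        mem_centralizer_singleton_iff.2 (mem_centralizer_iff.1 hk' y (mem_zpowers y)).symm⟩,
        by rw [map_mul, MonoidHom.mem_ker.1 (mem_inf.1 hk).2, mul_one, hgx]⟩
    · have hle : zpowers y ≤ normalizer (O : Set G) := zpowers_le.2 hyN
      haveI : (O.subgroupOf (O ⊔ zpowers y)).Normal :=
        normal_subgroupOf_of_le_normalizer (sup_le le_normalizer hle)
      haveI : Group.IsSolvable (O.subgroupOf (O ⊔ zpowers y)) :=
        Coprime.isSolvable_congr (subgroupOfEquivOfLe le_sup_left).symm hOs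
      let g : zpowers y →* (↥(O ⊔ zpowers y) ⧸ O.subgroupOf (O ⊔ zpowers y)) :=
        (QuotientGroup.mk' _).comp (Subgroup.inclusion le_sup_right)
      have hg : Function.Surjective g := fun z => by
        obtain ⟨⟨z, hz⟩, rfl⟩ := QuotientGroup.mk'_surjective _ z
        obtain ⟨a, ha, b, hb, rfl⟩ := mem_sup_exists hle hz
        exact ⟨⟨b, hb⟩, QuotientGroup.eq.2 (mem_subgroupOf.2 (by
          show b⁻¹ * (a * b) ∈ O
          simpa [mul_assoc] using (mem_normalizer_iff''.1 (hle hb) a).1 ha))⟩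
      haveI : Group.IsSolvable (zpowers y) := isSolvable_of_isMulCommutative inferInstance
      haveI := Group.isSolvable_of_surjective hg
      exact Group.isSolvable_of_ker_le_range (O.subgroupOf (O ⊔ zpowers y)).subtype (QuotientGroup.mk' _) fun z hz =>
        ⟨⟨z, (QuotientGroup.eq_one_iff z).1 hz⟩, rfl⟩
  -- the cover and its involution
  let φ : (N' ⊓ ι.range.comap π : Subgroup G) →* T :=
    (MonoidHom.ofInjective hι).symm.toMonoidHom.comp ((π.comp (Subgroup.subtype _)).codRestrict ι.range fun x => x.2.2)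
  have hφ : ∀ x, ι (φ x) = π x := fun x =>
    congrArg Subtype.val ((MonoidHom.ofInjective hι).apply_symm_apply ⟨π x, x.2.2⟩)
  obtain ⟨C, hCle, hC⟩ := Lie.SuzSquare.exists_cover φ fun z => by
    obtain ⟨g, hg, hgz⟩ := hcovT z
    exact ⟨⟨g, hg, mem_comap.2 ⟨z, hgz.symm⟩⟩, hι (by rw [hφ]; exact hgz)⟩
  obtain ⟨s, hs2⟩ := exists_prime_orderOf_dvd_card' (G := T) 2 h2
  obtain ⟨t₀, ht₀⟩ := C.surj s
  obtain ⟨e, het, heo⟩ := exists_lift_pow hsub C.f (x := t₀) (k := 2) (by rw [ht₀]; exact hs2)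
  set t := t₀ ^ e
  have hft : C.f t ≠ 1 := fun h => by rw [het, ht₀] at h; rw [h, orderOf_one] at hs2; norm_num at hs2
  set L := L₁ ⊓ centralizer ({(t : G)} : Set G)
  have hd : ∀ r : ℕ, r.Prime → r ∣ Nat.card O → r ∣ Nat.card L := fun r hr hd =>
    (exists_fixed_prime hna C heo hft hr hOs hodd (hCle.trans (inf_le_left.trans hL₁)) hd).trans
      (card_dvd_of_le (inf_le_inf_right _ hOL))
  refine false_of_three (L := L) (isSolvable_of_le (inf_le_left : L ≤ L₁) hL₁s) ![7, 19, 11]
    (fun i => by fin_cases i <;> norm_num) (by decide) (fun i => ?_) fun i j hij x hx y hy hxo hyo hxy => ?_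
  · fin_cases i
    · exact hd 7 (by norm_num) (hOd 7 (by norm_num) (by norm_num) h7)
    · exact hd 19 (by norm_num) (hOd 19 (by norm_num) (by norm_num) h19)
    · rcases hL₁11 with h | ⟨y, hy, hyo, hyc⟩
      · exact hd 11 (by norm_num) h
      · show 11 ∣ Nat.card L
        exact hyo ▸ Subgroup.orderOf_dvd_natCard L (mem_inf.2 ⟨hy, mem_centralizer_singleton_iff.2
          (mem_centralizer_singleton_iff.1 (hyc ((hCle t.2).1))).symm⟩)
  · have hbad : ∀ i j : Fin 3, i ≠ j → ∀ m ∈ maxOrders, ¬ 2 * ![7, 19, 11] i * ![7, 19, 11] j ∣ m := by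
      unfold maxOrders; decide
    have hcop : ∀ i j : Fin 3, i ≠ j → Nat.Coprime (![7, 19, 11] i) (![7, 19, 11] j) ∧ Nat.Coprime 2 (![7, 19, 11] i) := by
      decide
    have h := hsub.ok_mul_three (x := (t : G)) (y := x) (z := y)
      (mem_centralizer_singleton_iff.1 hx.2).symm (mem_centralizer_singleton_iff.1 hy.2).symm hxy
      (by rw [heo, hxo]; exact (hcop i j hij).2) (by rw [heo, hyo]; exact (hcop j i hij.symm).2)
      (by rw [hxo, hyo]; exact (hcop i j hij).1)
    rw [heo, hxo, hyo] at h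
    exact not_ok (hbad i j hij) h

/-- An element of order `p` centralizing a section with no element of order `q` joined to it. -/
theorem false_of_centralizer (hsub : Sub G) (hπ : Function.Surjective π) (hR : Group.IsSolvable π.ker)
    [IsSimpleGroup T] (hna : ¬ IsMulCommutative T) (hι : Function.Injective ι) (h4 : 4 ∣ Nat.card T)
    {p q : ℕ} (hpq : p = 7 ∧ q = 19 ∨ p = 19 ∧ q = 7) (hpR : ¬ p ∣ Nat.card π.ker)
    (hQp : ¬ p * p ∣ Nat.card Q) (hcen : ∀ a b : Q, orderOf a = p → orderOf b = q → ¬ Commute a b)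
    (hedge : ∃ g : G, orderOf g = p * q) {y0 : Q} (hy0 : orderOf y0 = p) (hy0T : ∀ x : T, Commute y0 (ι x)) :
    False := by
  have hp : p.Prime := by rcases hpq with ⟨rfl, -⟩ | ⟨rfl, -⟩ <;> norm_num
  have hq : q.Prime := by rcases hpq with ⟨-, rfl⟩ | ⟨-, rfl⟩ <;> norm_num
  haveI := Fact.mk hp
  haveI := Fact.mk hq
  haveI := Fact.mk Nat.prime_two
  obtain ⟨y₁, hy₁⟩ := hπ y0
  obtain ⟨e, he, hyo⟩ := exists_lift_pow hsub (π.comp (⊤ : Subgroup G).subtype) (x := ⟨y₁, mem_top _⟩) (k := p)
    (by show orderOf (π y₁) = p; rw [hy₁, hy0])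
  set y : G := ((⟨y₁, mem_top _⟩ ^ e : (⊤ : Subgroup G)) : G)
  have hyπ : π y = y0 := he.trans hy₁
  -- a `q`-element of the kernel centralizing `y`
  have hGp : ¬ p * p ∣ Nat.card G := fun hd => hQp (by
    rw [card_eq_card_quotient_mul_card_subgroup π.ker,
      Nat.card_congr (QuotientGroup.quotientKerEquivOfSurjective π hπ).toEquiv] at hd
    exact (((Nat.Prime.coprime_iff_not_dvd hp).2 hpR).mul_left ((Nat.Prime.coprime_iff_not_dvd hp).2 hpR)).dvd_of_dvd_mul_right hd)
  obtain ⟨g, hg⟩ := hedge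
  have hgq : orderOf (g ^ q) = p := by
    rw [orderOf_pow_of_dvd hq.ne_zero (hg ▸ dvd_mul_left q p), hg, Nat.mul_div_cancel _ hq.pos]
  obtain ⟨Sy, hSy⟩ := (IsPGroup.of_card (G := zpowers y) (p := p) (n := 1)
    (by rw [Nat.card_zpowers, hyo, pow_one])).exists_le_sylow
  obtain ⟨Sg, hSg⟩ := (IsPGroup.of_card (G := zpowers (g ^ q)) (p := p) (n := 1)
    (by rw [Nat.card_zpowers, hgq, pow_one])).exists_le_sylow
  have hSp : ∀ S : Sylow p G, Nat.card S = p := fun S => by
    obtain ⟨k, hk⟩ := S.2.exists_card_eq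
    rcases k with _ | _ | k
    · exfalso
      have h1 : p ∣ Nat.card S := (S.dvd_card_of_dvd_card (hyo ▸ orderOf_dvd_natCard y))
      rw [hk, pow_zero] at h1
      exact hp.not_dvd_one h1
    · rw [hk, pow_one]
    · exact absurd (((pow_succ' p (k + 1)).trans (by rw [pow_succ'])) ▸ hk ▸ card_subgroup_dvd_card (S : Subgroup G))
        fun h => hGp ((dvd_mul_right (p * p) (p ^ k)).trans (by rwa [mul_assoc]))
  have hSgz : (Sg : Subgroup G) = zpowers (g ^ q) :=
    (eq_of_le_of_card_ge hSg (by rw [hSp Sg, Nat.card_zpowers, hgq])).symm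
  obtain ⟨h, hh⟩ := MulAction.exists_smul_eq G Sg Sy
  have hyg : y ∈ conjBy h (zpowers (g ^ q)) := by
    rw [← hSgz, show conjBy h (Sg : Subgroup G) = ((h • Sg : Sylow p G) : Subgroup G) from rfl, hh]
    exact hSy (mem_zpowers y)
  set c := h * g ^ p * h⁻¹
  have hco : orderOf c = q := by
    rw [show c = MulAut.conj h (g ^ p) from rfl, MulEquiv.orderOf_eq, orderOf_pow_of_dvd hp.ne_zero (hg ▸ dvd_mul_right p q), hg,
      Nat.mul_div_cancel_left _ hp.pos]
  have hcy : Commute c y := by
    obtain ⟨w, hw, hwy⟩ := hyg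
    obtain ⟨z, rfl⟩ := mem_zpowers_iff.1 hw
    rw [← hwy]
    exact (((Commute.refl g).pow_pow p q).zpow_right z).map (MulAut.conj h).toMonoidHom
  have hcR : c ∈ π.ker := by
    rw [MonoidHom.mem_ker]
    by_contra hne
    exact hcen y0 (π c) hy0 (orderOf_eq_prime (by rw [← map_pow, ← hco, pow_orderOf_eq_one, map_one]) hne)
      (hyπ ▸ (hcy.map π).symm)
  -- a four-group of the section in the centralizer of `y`
  obtain ⟨P₀, hP₀⟩ := Sylow.exists_subgroup_card_pow_prime (G := T) 2 (n := 2) (by simpa using h4)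
  set X := P₀.map ι
  have hXcard : Nat.card X = 2 ^ 2 := (card_map_of_injective hι).trans hP₀
  set L := centralizer ({y} : Set G) ⊓ π.ker
  set U := centralizer ({y} : Set G) ⊓ X.comap π
  have hUL : U ≤ normalizer (L : Set G) :=
    inf_le_normalizer (inf_le_left.trans le_normalizer) (le_norm_ker π U)
  obtain ⟨S⟩ : Nonempty (Sylow q L) := inferInstance
  have hS := isSylowIn_map S
  set Qs := (S : Subgroup L).map L.subtype
  have hQs0 : Qs ≠ ⊥ := fun h0 => by
    have h1 : q ∣ Nat.card Qs := by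
      rw [card_map_of_injective L.subtype_injective]
      exact S.dvd_card_of_dvd_card (hco ▸ Subgroup.orderOf_dvd_natCard L
        (mem_inf.2 ⟨mem_centralizer_singleton_iff.2 hcy.eq, hcR⟩))
    rw [h0, card_bot] at h1
    exact hq.not_dvd_one h1
  set NU := U ⊓ normalizer (Qs : Set G)
  let ψ : NU →* X := (π.comp NU.subtype).codRestrict X fun x => (mem_inf.1 (mem_inf.1 x.2).1).2
  have hψ : Function.Surjective ψ := by
    rintro ⟨x, hx⟩
    obtain ⟨z, -, rfl⟩ := hx
    obtain ⟨w, hw⟩ := hπ (ι z)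
    obtain ⟨k, hk, hk'⟩ := exists_fixed_in_coset (A := zpowers y) (N := π.ker) (k := w) (le_norm_ker π _)
      (by rw [Nat.card_zpowers, hyo]; exact (Nat.Prime.coprime_iff_not_dvd hp).2 hpR)
      (Or.inr hR) (le_norm_ker π ⊤ (mem_top w)) fun a ha => by
        obtain ⟨i, rfl⟩ := mem_zpowers_iff.1 ha
        rw [MonoidHom.mem_ker, map_mul, map_mul, map_mul, map_inv, map_inv, map_zpow, hw, hyπ,
          ((hy0T z).zpow_left i).eq]
        group
    have hwk : π (w * k) = ι z := by rw [map_mul, MonoidHom.mem_ker.1 hk, mul_one, hw]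
    have hU : w * k ∈ U := mem_inf.2 ⟨mem_centralizer_singleton_iff.2 (mem_centralizer_iff.1 hk' y (mem_zpowers y)).symm,
      mem_comap.2 (hwk ▸ mem_map_of_mem ι (by assumption))⟩
    obtain ⟨m, hm, hconj⟩ := hS.exists_conj (hS.conjBy (hUL hU))
    have hmU : m ∈ U := mem_inf.2 ⟨(mem_inf.1 hm).1, mem_comap.2 (by
      rw [MonoidHom.mem_ker.1 (mem_inf.1 hm).2]; exact one_mem X)⟩
    refine ⟨⟨m⁻¹ * (w * k), mem_inf.2 ⟨mul_mem (inv_mem hmU) hU, conjBy_eq_self_iff.1 ?_⟩⟩, Subtype.ext ?_⟩
    · rw [← conjBy_conjBy, ← hconj, conjBy_conjBy, inv_mul_cancel, conjBy_one]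
    · show π (m⁻¹ * (w * k)) = ι z
      rw [map_mul, map_inv, MonoidHom.mem_ker.1 (mem_inf.1 hm).2, inv_one, one_mul, hwk]
  obtain ⟨P₁⟩ : Nonempty (Sylow 2 NU) := inferInstance
  set P := (P₁ : Subgroup NU).map NU.subtype
  have hP2 : IsPGroup 2 P := P₁.2.map _
  haveI := hsub.two_comm hP2
  have hXsq : ∀ x ∈ X, x ^ 2 = 1 := fun x hx =>
    (hsub.of_surjective π hπ).pgroup_pow Nat.prime_two (IsPGroup.of_card hXcard) hx
  have hncyc : ¬ IsCyclic P := fun hcyc => by
    haveI : IsCyclic (P₁ : Subgroup NU) :=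
      (MulEquiv.isCyclic ((P₁ : Subgroup NU).equivMapOfInjective _ NU.subtype_injective)).2 hcyc
    have h1 : ((P₁.mapSurjective hψ : Sylow 2 X) : Subgroup X) = ⊤ :=
      (P₁.mapSurjective hψ).3 ((IsPGroup.of_card hXcard).of_equiv Subgroup.topEquiv.symm) le_top ▸ rfl
    rw [Sylow.coe_mapSurjective] at h1
    haveI : IsCyclic ((P₁ : Subgroup NU).map ψ) :=
      isCyclic_of_surjective (ψ.subgroupMap (P₁ : Subgroup NU)) (ψ.subgroupMap_surjective _)
    haveI : IsCyclic X := (MulEquiv.isCyclic ((MulEquiv.subgroupCongr h1).trans Subgroup.topEquiv)).1 inferInstance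
    obtain ⟨a, ha⟩ := IsCyclic.exists_generator (α := X)
    have h2 : orderOf a = 4 := by rw [orderOf_eq_card_of_forall_mem_zpowers ha, hXcard]; norm_num
    have h3 : orderOf a ∣ 2 := orderOf_dvd_of_pow_eq_one (Subtype.ext (by simpa using hXsq a a.2))
    rw [h2] at h3
    norm_num at h3
  obtain ⟨v, hv, hv1⟩ := Qs.bot_or_exists_ne_one.resolve_left hQs0
  have hPQ : P ≤ normalizer (Qs : Set G) := (map_subtype_le _).trans inf_le_right
  refine hv1 (mem_bot.1 ?_)
  refine le_of_centralizers_le (A := P) (W := ⊥) hncyc hPQ ?_ (fun a ha ha1 w hw => ?_) hv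
  · obtain ⟨k, hk⟩ := hP2.exists_card_eq
    obtain ⟨l, hl⟩ := hS.isPGroup.exists_card_eq
    rw [hk, hl]
    exact ((Nat.coprime_primes Nat.prime_two hq).2 (by rcases hpq with ⟨-, rfl⟩ | ⟨-, rfl⟩ <;> decide)).pow k l
  · by_contra hw1
    obtain ⟨hwQ, hwa⟩ := mem_inf.1 hw
    have haU : a ∈ U := ((map_subtype_le _).trans inf_le_left : P ≤ U) ha
    have hwy : w ∈ centralizer ({y} : Set G) := (mem_inf.1 (map_subtype_le _ hwQ : w ∈ L)).1
    have h := hsub.ok_mul_three (x := a) (y := y) (z := w) (mem_centralizer_singleton_iff.1 (mem_inf.1 haU).1)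
      (mem_centralizer_singleton_iff.1 hwa).symm (mem_centralizer_singleton_iff.1 hwy).symm
      (by rw [hsub.orderOf_eq Nat.prime_two hP2 ha ha1, hyo]; rcases hpq with ⟨rfl, -⟩ | ⟨rfl, -⟩ <;> norm_num)
      (by rw [hsub.orderOf_eq Nat.prime_two hP2 ha ha1, hsub.orderOf_eq hq hS.isPGroup hwQ (fun e => hw1 (e ▸ one_mem _))]
          rcases hpq with ⟨-, rfl⟩ | ⟨-, rfl⟩ <;> norm_num)
      (by rw [hyo, hsub.orderOf_eq hq hS.isPGroup hwQ (fun e => hw1 (e ▸ one_mem _))]
          rcases hpq with ⟨rfl, rfl⟩ | ⟨rfl, rfl⟩ <;> norm_num)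
    rw [hsub.orderOf_eq Nat.prime_two hP2 ha ha1, hyo, hsub.orderOf_eq hq hS.isPGroup hwQ (fun e => hw1 (e ▸ one_mem _))] at h
    refine not_ok ?_ h
    rcases hpq with ⟨rfl, rfl⟩ | ⟨rfl, rfl⟩ <;> (unfold maxOrders; decide)

end CfsgLib.Spor.JOneSquare
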