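import Cfsg.Agent.Lib.Spor.JOneSquare.Fixed
import Cfsg.Agent.Lib.Coprime.LayerProjection
import Cfsg.Agent.Lib.Fusion.AbelianSylowAut
import Cfsg.Agent.Lib.LocalStructure.Kieler
import Cfsg.Agent.Lib.Char.J1.Spectrum
import Cfsg.Agent.Lib.Char.J1.Structure

/-!
# The quotient by the solvable radical

A group with the element orders of the square and without solvable normal subgroups has components `A₅`,
`L₂(11)`, `J₁`. There are at most two `J₁`, then nothing else, and with a `J₁` all elements lie in the layer.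
-/

set_option autoImplicit false
set_option linter.style.haveILetI false
set_option linter.unusedSectionVars false

namespace CfsgLib.Spor.JOneSquare

open Subgroup CfsgLib.Coprime

universe u

/-- A copy of `J₁`. -/
def IsJ (T : Type u) [Group T] : Prop := Nonempty (T ≃* ↥Cfsg.Spor.J1)

/-- The simple sections. -/
def Cases : Prop :=
  ∀ (T : Type u) [Group T] [Finite T], IsSimpleGroup T → ¬ IsMulCommutative T → Sub T → Small T ∨ IsJ T

theorem IsJ.orders {T : Type u} [Group T] (h : IsJ T) (x : T) :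
    ∃ m ∈ ({6, 10, 15, 7, 11, 19} : Finset ℕ), orderOf x ∣ m := by
  obtain ⟨e⟩ := h
  rw [← MulEquiv.orderOf_eq e x]
  exact CfsgLib.Char.J1.orderOf_dvd_exponent (e x)

theorem IsJ.inner {T : Type u} [Group T] (h : IsJ T) (α : MulAut T) : ∃ g : T, ∀ x, α x = g * x * g⁻¹ := by
  obtain ⟨e⟩ := h
  obtain ⟨g, hg⟩ := CfsgLib.Char.J1.inner_J1 (MulAut.congr e α)
  refine ⟨e.symm g, fun x => e.injective ?_⟩
  have h1 := DFunLike.congr_fun hg (e x)
  simp at h1
  simp [h1]

theorem IsJ.exists_orderOf {T : Type u} [Group T] (h : IsJ T) {p : ℕ}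
    (hp : p ∈ ({2, 3, 5, 7, 11, 19} : Finset ℕ)) : ∃ x : T, orderOf x = p := by
  obtain ⟨e⟩ := h
  suffices ∃ x : ↥Cfsg.Spor.J1, orderOf x = p by
    obtain ⟨x, hx⟩ := this
    exact ⟨e.symm x, by rw [MulEquiv.orderOf_eq, hx]⟩
  obtain ⟨a, ha⟩ := CfsgLib.Char.J1.exists_orderOf_six
  obtain ⟨b, hb⟩ := CfsgLib.Char.J1.exists_orderOf_ten
  simp only [Finset.mem_insert, Finset.mem_singleton] at hp
  rcases hp with rfl | rfl | rfl | rfl | rfl | rfl
  · exact ⟨a ^ 3, by rw [orderOf_pow, ha]; norm_num⟩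
  · exact ⟨a ^ 2, by rw [orderOf_pow, ha]; norm_num⟩
  · exact ⟨b ^ 2, by rw [orderOf_pow, hb]; norm_num⟩
  · exact CfsgLib.Char.J1.exists_orderOf_seven
  · exact CfsgLib.Char.J1.exists_orderOf_eleven
  · exact CfsgLib.Char.J1.exists_orderOf_nineteen

/-- A group without solvable normal subgroups, with the orders of the square. -/
structure Top (Q : Type u) [Group Q] [Finite Q] : Prop where
  sub : Sub Q
  rad : ∀ N : Subgroup Q, N.Normal → Group.IsSolvable N → N = ⊥
  cases : Cases.{u}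

variable {Q : Type u} [Group Q] [Finite Q]

theorem conj_mem_normalizer {L : Subgroup Q} {g : Q} {t : ℕ} (ht : t.Prime) (hg : g ^ t = 1) {i : ℕ}
    (hi : ¬ t ∣ i) (h : g ^ i ∈ normalizer (L : Set Q)) : g ∈ normalizer (L : Set Q) := by
  haveI := Fact.mk ht
  rcases eq_or_ne g 1 with rfl | hg1
  · exact one_mem _
  obtain ⟨k, hk⟩ := exists_pow_eq_self_of_coprime (x := g) (n := i)
    ((orderOf_eq_prime hg hg1).symm ▸ ((Nat.Prime.coprime_iff_not_dvd ht).2 hi).symm)
  rw [← hk]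
  exact pow_mem h k

namespace Top

variable (h : Top Q)

include h in
theorem fitting : Cfsg.fittingSubgroup Q = ⊥ := by
  haveI := fitting_isNilpotent (G := Q)
  exact h.rad _ fitting_normal inferInstance

include h in
theorem centralizer_layer : centralizer (Cfsg.layer Q : Set Q) = ⊥ := by
  have e : Cfsg.generalizedFittingSubgroup Q = Cfsg.layer Q := by
    rw [Cfsg.generalizedFittingSubgroup, h.fitting, sup_bot_eq]
  rw [eq_bot_iff, ← h.fitting]
  refine fun x hx => layer_inf_centralizer_layer_le_fitting (mem_inf.2 ⟨?_, hx⟩)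
  exact e ▸ centralizer_generalizedFitting_le (e.symm ▸ hx)

include h in
theorem commute {K L : Subgroup Q} (hK : Cfsg.IsComponent K) (hL : Cfsg.IsComponent L) (hne : K ≠ L) {x y : Q}
    (hx : x ∈ K) (hy : y ∈ L) : Commute x y :=
  commutator_eq_bot_iff_forall.1 (components_commute hK hL hne) x hx y hy

include h in
theorem kind {K : Subgroup Q} (hK : Cfsg.IsComponent K) : Small K ∨ IsJ K :=
  h.cases K (LayerProj.isSimple h.fitting hK) (LayerProj.not_comm h.fitting hK)
    (h.sub.of_injective K.subtype K.subtype_injective)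

include h in
theorem exists_ord {K : Subgroup Q} (hK : Cfsg.IsComponent K) {p : ℕ} (hp : p ∈ ({2, 3, 5} : Finset ℕ)) :
    ∃ x ∈ K, orderOf x = p := by
  rcases h.kind hK with hs | hj
  · have : ∃ x : K, orderOf x = p := by
      simp only [Finset.mem_insert, Finset.mem_singleton] at hp
      rcases hp with rfl | rfl | rfl
      exacts [hs.two, hs.three, hs.five]
    obtain ⟨x, hx⟩ := this
    exact ⟨x, x.2, by rw [Subgroup.orderOf_coe, hx]⟩
  · obtain ⟨x, hx⟩ := hj.exists_orderOf (p := p) (by revert hp; revert p; decide)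
    exact ⟨x, x.2, by rw [Subgroup.orderOf_coe, hx]⟩

include h in
/-- An element of order two, three or five normalizes each component. -/
theorem normalizes {t : ℕ} (ht : t ∈ ({2, 3, 5} : Finset ℕ)) {g : Q} (hg : g ^ t = 1) {K : Subgroup Q}
    (hK : Cfsg.IsComponent K) : g ∈ normalizer (K : Set Q) := by
  have htp : t.Prime := (show ∀ t ∈ ({2, 3, 5} : Finset ℕ), t.Prime by decide) t ht
  by_contra hn
  haveI := layer_normal (G := Q)
  obtain ⟨x, hx, hxo⟩ := h.exists_ord hK ht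
  have hc : ∀ e ∈ Cfsg.layer Q, ∀ q : Q, q * e * q⁻¹ ∈ Cfsg.layer Q := fun e he q =>
    (inferInstance : (Cfsg.layer Q).Normal).conj_mem e he q
  have key : ∀ n, n + 1 ≤ t →
      ∃ w ∈ Cfsg.layer Q, LayerProj.proj K w = x ∧ (x * g) ^ (n + 1) = w * g ^ (n + 1) := by
    intro n
    induction n with
    | zero => exact fun _ => ⟨x, component_le_layer hK hx, LayerProj.proj_self h.fitting hK hx, by simp⟩
    | succ n ih =>
      intro hn'
      obtain ⟨w, hw, hpw, he⟩ := ih (by omega)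
      have hK' : Cfsg.IsComponent (K.map (MulAut.conj (g ^ (n + 1))).toMonoidHom) := isComponent_map_equiv _ hK
      have hne : K.map (MulAut.conj (g ^ (n + 1))).toMonoidHom ≠ K := fun e' =>
        hn (conj_mem_normalizer htp hg (Nat.not_dvd_of_pos_of_lt (Nat.succ_pos n) (by omega))
          (conjBy_eq_self_iff.1 e'))
      have hy : g ^ (n + 1) * x * (g ^ (n + 1))⁻¹ ∈ K.map (MulAut.conj (g ^ (n + 1))).toMonoidHom :=
        ⟨x, hx, rfl⟩
      have hyL := component_le_layer hK' hy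
      refine ⟨w * (g ^ (n + 1) * x * (g ^ (n + 1))⁻¹), mul_mem hw hyL, ?_, ?_⟩
      · rw [LayerProj.proj_mul h.fitting hK hw hyL, hpw, LayerProj.proj_other h.fitting hK hK' hne hy, mul_one]
      · rw [pow_succ, he, pow_succ g (n + 1)]
        group
  obtain ⟨w, hw, hpw, he⟩ := key (t - 1) (by have := htp.pos; omega)
  rw [Nat.sub_add_cancel htp.pos, hg, mul_one] at he
  set n := orderOf (x * g) with hn'
  have htn : t ∣ n := by
    by_contra hnd
    obtain ⟨k, hk⟩ := exists_pow_eq_self_of_coprime (x := g) (n := n)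
      (Nat.Coprime.coprime_dvd_right (orderOf_dvd_of_pow_eq_one hg) ((Nat.Prime.coprime_iff_not_dvd htp).2 hnd).symm)
    refine hn (layer_le_normalizer_component hK ?_)
    have h1 : ((x * g : Q) : Q ⧸ Cfsg.layer Q) = (g : Q ⧸ Cfsg.layer Q) := by
      rw [QuotientGroup.mk_mul, (QuotientGroup.eq_one_iff x).2 (component_le_layer hK hx), one_mul]
    rw [← QuotientGroup.eq_one_iff, ← hk, QuotientGroup.mk_pow, QuotientGroup.mk_pow, ← h1, ← QuotientGroup.mk_pow,
      pow_orderOf_eq_one, QuotientGroup.mk_one, one_pow]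
  have htw : t ∣ orderOf w := by
    rw [← hxo, ← hpw]
    refine orderOf_dvd_of_pow_eq_one ?_
    have hmul : ∀ k : ℕ, LayerProj.proj K (w ^ k) = LayerProj.proj K w ^ k := by
      intro k
      induction k with
      | zero => simpa using LayerProj.proj_one h.fitting hK
      | succ k ih => rw [pow_succ, LayerProj.proj_mul h.fitting hK (pow_mem hw k) hw, ih, pow_succ]
    rw [← hmul, pow_orderOf_eq_one, LayerProj.proj_one h.fitting hK]
  rw [← he, orderOf_pow' _ htp.ne_zero, Nat.gcd_eq_right htn] at htw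
  exact h.sub.not_sq_dvd htp (x * g) ((Nat.dvd_div_iff_mul_dvd htn).1 htw)

include h in
/-- An element of odd prime order normalizing a component acts as an inner automorphism of it. -/
theorem inner_odd {t : ℕ} (ht : t.Prime) (ht2 : t ≠ 2) {g : Q} (hg : g ^ t = 1) {K : Subgroup Q}
    (hK : Cfsg.IsComponent K) (hgK : g ∈ normalizer (K : Set Q)) :
    ∃ k ∈ K, ∀ u ∈ K, g * u * g⁻¹ = k * u * k⁻¹ := by
  set α : MulAut K := normalizerMonoidHom K ⟨g, hgK⟩
  obtain ⟨k, hk⟩ : ∃ k : K, ∀ x, α x = k * x * k⁻¹ := by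
    rcases h.kind hK with hs | hj
    · refine hs.outer α ((Nat.Prime.odd_of_ne_two ht ht2).of_dvd_nat (orderOf_dvd_of_pow_eq_one ?_))
      rw [← map_pow, show (⟨g, hgK⟩ : normalizer (K : Set Q)) ^ t = 1 from Subtype.ext hg, map_one]
    · exact hj.inner α
  exact ⟨k, k.2, fun u hu => congrArg Subtype.val (hk ⟨u, hu⟩)⟩

include h in
/-- An element of order two acts as an inner automorphism on each component. -/
theorem inner_two {g : Q} (hg : g ^ 2 = 1) {K : Subgroup Q} (hK : Cfsg.IsComponent K) :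
    ∃ k ∈ K, ∀ u ∈ K, g * u * g⁻¹ = k * u * k⁻¹ := by
  haveI := Fact.mk Nat.prime_two
  have hgK := h.normalizes (by decide) hg hK
  obtain ⟨S, hS⟩ := (show IsPGroup 2 (zpowers g) from fun ⟨x, hx⟩ => ⟨1, by
    obtain ⟨i, rfl⟩ := mem_zpowers_iff.1 hx
    refine Subtype.ext ?_
    show (g ^ i) ^ 2 ^ 1 = 1
    rw [pow_one, ← zpow_natCast, ← zpow_mul, mul_comm, zpow_mul, zpow_natCast, hg, one_zpow]⟩).exists_le_sylow
  obtain ⟨R, hR⟩ := CfsgLib.LS.sylow_inf_subnormal S hK.1
  have hab := h.sub.two_comm S.2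
  haveI := LayerProj.isSimple h.fitting hK
  have hcen : center K = ⊥ := LayerProj.center_bot h.fitting hK
  have hcore : Cfsg.pPrimeCore 2 K = ⊥ := by
    rw [eq_bot_iff, Cfsg.pPrimeCore, sSup_le_iff]
    rintro N ⟨hN, hco⟩
    rcases IsSimpleGroup.eq_bot_or_eq_top_of_normal N hN with rfl | rfl
    · exact le_rfl
    · obtain ⟨x, hx, hxo⟩ := h.exists_ord hK (p := 2) (by decide)
      rw [Subgroup.card_top] at hco
      exact absurd (Nat.Coprime.eq_one_of_dvd hco.symm
        (hxo ▸ (Subgroup.orderOf_mk x hx ▸ orderOf_dvd_natCard (⟨x, hx⟩ : K)))) (by norm_num)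
  have hR2 : IsMulCommutative (R : Subgroup K) := (h.sub.of_injective K.subtype K.subtype_injective).two_comm R.2
  set α : MulAut K := normalizerMonoidHom K ⟨g, hgK⟩
  obtain ⟨j, -, hj⟩ := (Nat.dvd_prime_pow Nat.prime_two).1 (orderOf_dvd_of_pow_eq_one (show α ^ 2 ^ 1 = 1 by
    rw [← map_pow, show (⟨g, hgK⟩ : normalizer (K : Set Q)) ^ 2 ^ 1 = 1 from Subtype.ext (by simpa using hg), map_one]))
  obtain ⟨k, hk⟩ := CfsgLib.Fusion.isInner_of_fixes_abelian_sylow hcen hcore R hR2 α hj fun x hx => by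
    have hxS : (x : Q) ∈ (S : Subgroup Q) := (hR ▸ mem_map_of_mem K.subtype hx : (x : Q) ∈ (S : Subgroup Q) ⊓ K).1
    refine Subtype.ext ?_
    show g * x * g⁻¹ = x
    have := congrArg Subtype.val (isMulCommutative_iff.1 hab ⟨g, hS (mem_zpowers g)⟩ ⟨x, hxS⟩)
    exact mul_inv_eq_iff_eq_mul.2 this
  exact ⟨k, k.2, fun u hu => congrArg Subtype.val (hk ⟨u, hu⟩)⟩

include h in
/-- An element inducing inner automorphisms on all components lies in the layer. -/
theorem mem_layer_of_inner {g : Q}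
    (hin : ∀ K, Cfsg.IsComponent K → ∃ k ∈ K, ∀ u ∈ K, g * u * g⁻¹ = k * u * k⁻¹) : g ∈ Cfsg.layer Q := by
  classical
  have key : ∀ s : Finset (Subgroup Q), (∀ K ∈ s, Cfsg.IsComponent K) → ∃ e ∈ Cfsg.layer Q,
      (∀ K ∈ s, ∀ u ∈ K, g * u * g⁻¹ = e * u * e⁻¹) ∧
      ∀ L, Cfsg.IsComponent L → L ∉ s → ∀ u ∈ L, e * u * e⁻¹ = u := by
    intro s
    induction s using Finset.induction_on with
    | empty => exact fun _ => ⟨1, one_mem _, by simp, fun _ _ _ u _ => by group⟩
    | insert K s hKs ih =>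
      intro hs
      obtain ⟨e, he, h1, h2⟩ := ih fun L hL => hs L (Finset.mem_insert_of_mem hL)
      have hK := hs K (Finset.mem_insert_self K s)
      obtain ⟨k, hk, hku⟩ := hin K hK
      have hfix : ∀ L, Cfsg.IsComponent L → L ≠ K → ∀ u ∈ L, k * u * k⁻¹ = u := fun L hL hne u hu =>
        mul_inv_eq_iff_eq_mul.2 (h.commute hK hL hne.symm hk hu)
      refine ⟨e * k, mul_mem he (component_le_layer hK hk), fun L hL u hu => ?_, fun L hL hLs u hu => ?_⟩
      · rcases Finset.mem_insert.1 hL with rfl | hL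
        · rw [hku u hu, show e * k * u * (e * k)⁻¹ = e * (k * u * k⁻¹) * e⁻¹ by group,
            h2 L hK hKs _ (mul_mem (mul_mem hk hu) (inv_mem hk))]
        · rw [h1 L hL u hu, show e * k * u * (e * k)⁻¹ = e * (k * u * k⁻¹) * e⁻¹ by group,
            hfix L (hs L (Finset.mem_insert_of_mem hL)) (fun e' => hKs (e' ▸ hL)) u hu]
      · rw [Finset.mem_insert, not_or] at hLs
        rw [show e * k * u * (e * k)⁻¹ = e * (k * u * k⁻¹) * e⁻¹ by group, hfix L hL hLs.1 u hu,
          h2 L hL hLs.2 u hu]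
  haveI : Fintype (Subgroup Q) := Fintype.ofFinite _
  obtain ⟨e, he, h1, -⟩ := key (Finset.univ.filter fun K => Cfsg.IsComponent K) (by simp)
  have hle : Cfsg.layer Q ≤ MonoidHom.eqLocus (MulAut.conj g).toMonoidHom (MulAut.conj e).toMonoidHom :=
    sSup_le fun K hK u hu => h1 K (by simpa using hK) u hu
  have h3 : e⁻¹ * g ∈ centralizer (Cfsg.layer Q : Set Q) := mem_centralizer_iff.2 fun u hu => by
    have h4 : g * u * g⁻¹ = e * u * e⁻¹ := hle hu
    symm
    calc (e⁻¹ * g) * u = e⁻¹ * (g * u * g⁻¹) * g := by group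
      _ = u * (e⁻¹ * g) := by rw [h4]; group
  rw [h.centralizer_layer, mem_bot, inv_mul_eq_one] at h3
  exact h3 ▸ he

include h in
theorem two_mem {g : Q} (hg : g ^ 2 = 1) : g ∈ Cfsg.layer Q :=
  h.mem_layer_of_inner fun _ hK => h.inner_two hg hK

include h in
theorem mem_layer {t : ℕ} (ht : t.Prime) {g : Q} (hg : g ^ t = 1)
    (hn : ∀ K : Subgroup Q, Cfsg.IsComponent K → g ∈ normalizer (K : Set Q)) : g ∈ Cfsg.layer Q := by
  rcases eq_or_ne t 2 with rfl | ht2
  · exact h.two_mem hg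
  · exact h.mem_layer_of_inner fun K hK => h.inner_odd ht ht2 hg hK (hn K hK)

include h in
theorem five_mem {g : Q} (hg : g ^ 5 = 1) : g ∈ Cfsg.layer Q :=
  h.mem_layer (by norm_num) hg fun _ hK => h.normalizes (by decide) hg hK

include h in
theorem no_three_J {K₁ K₂ K₃ : Subgroup Q} (h₁ : Cfsg.IsComponent K₁) (h₂ : Cfsg.IsComponent K₂)
    (h₃ : Cfsg.IsComponent K₃) (j₁ : IsJ K₁) (j₂ : IsJ K₂) (j₃ : IsJ K₃) (n₁₂ : K₁ ≠ K₂) (n₁₃ : K₁ ≠ K₃)
    (n₂₃ : K₂ ≠ K₃) : False := by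
  obtain ⟨x, hx⟩ := j₁.exists_orderOf (p := 7) (by decide)
  obtain ⟨y, hy⟩ := j₂.exists_orderOf (p := 11) (by decide)
  obtain ⟨z, hz⟩ := j₃.exists_orderOf (p := 19) (by decide)
  rw [← Subgroup.orderOf_coe] at hx hy hz
  have := h.sub.ok_mul_three (h.commute h₁ h₂ n₁₂ x.2 y.2) (h.commute h₁ h₃ n₁₃ x.2 z.2)
    (h.commute h₂ h₃ n₂₃ y.2 z.2) (by rw [hx, hy]; norm_num) (by rw [hx, hz]; norm_num) (by rw [hy, hz]; norm_num)
  rw [hx, hy, hz] at this
  exact not_ok (by unfold maxOrders; decide) this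

include h in
/-- Two copies of `J₁` leave no room for further components. -/
theorem eq_of_two_J {K₁ K₂ L : Subgroup Q} (h₁ : Cfsg.IsComponent K₁) (h₂ : Cfsg.IsComponent K₂)
    (j₁ : IsJ K₁) (j₂ : IsJ K₂) (n₁₂ : K₁ ≠ K₂) (hL : Cfsg.IsComponent L) : L = K₁ ∨ L = K₂ := by
  by_contra hne
  push Not at hne
  obtain ⟨x, hx⟩ := j₁.exists_orderOf (p := 7) (by decide)
  obtain ⟨y, hy⟩ := j₂.exists_orderOf (p := 11) (by decide)
  obtain ⟨z, hz, hzo⟩ := h.exists_ord hL (p := 2) (by decide)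
  rw [← Subgroup.orderOf_coe] at hx hy
  have := h.sub.ok_mul_three (h.commute h₁ h₂ n₁₂ x.2 y.2) (h.commute h₁ hL hne.1.symm x.2 hz)
    (h.commute h₂ hL hne.2.symm y.2 hz) (by rw [hx, hy]; norm_num) (by rw [hx, hzo]; norm_num)
    (by rw [hy, hzo]; norm_num)
  rw [hx, hy, hzo] at this
  exact not_ok (by unfold maxOrders; decide) this

include h in
/-- A copy of `J₁` leaves room for two further components. -/
theorem four {J K₁ K₂ K₃ : Subgroup Q} (hJ : Cfsg.IsComponent J) (hj : IsJ J) (h₁ : Cfsg.IsComponent K₁)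
    (h₂ : Cfsg.IsComponent K₂) (h₃ : Cfsg.IsComponent K₃) (m₁ : J ≠ K₁) (m₂ : J ≠ K₂) (m₃ : J ≠ K₃)
    (n₁₂ : K₁ ≠ K₂) (n₁₃ : K₁ ≠ K₃) (n₂₃ : K₂ ≠ K₃) : False := by
  obtain ⟨w, hw⟩ := hj.exists_orderOf (p := 7) (by decide)
  obtain ⟨x, hx, hxo⟩ := h.exists_ord h₁ (p := 2) (by decide)
  obtain ⟨y, hy, hyo⟩ := h.exists_ord h₂ (p := 3) (by decide)
  obtain ⟨z, hz, hzo⟩ := h.exists_ord h₃ (p := 5) (by decide)
  rw [← Subgroup.orderOf_coe] at hw
  have hxy : orderOf (x * y) = 6 := by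
    rw [(h.commute h₁ h₂ n₁₂ hx hy).orderOf_mul_eq_mul_orderOf_of_coprime (by rw [hxo, hyo]; norm_num), hxo, hyo]
  have := h.sub.ok_mul_three ((h.commute hJ h₁ m₁ w.2 hx).mul_right (h.commute hJ h₂ m₂ w.2 hy))
    (h.commute hJ h₃ m₃ w.2 hz) ((h.commute h₁ h₃ n₁₃ hx hz).mul_left (h.commute h₂ h₃ n₂₃ hy hz))
    (by rw [hw, hxy]; norm_num) (by rw [hw, hzo]; norm_num) (by rw [hxy, hzo]; norm_num)
  rw [hw, hxy, hzo] at this
  exact not_ok (by unfold maxOrders; decide) this

include h in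
/-- With a `J₁`, everything lies in the layer. -/
theorem layer_eq_top {J : Subgroup Q} (hJ : Cfsg.IsComponent J) (hj : IsJ J) : Cfsg.layer Q = ⊤ := by
  haveI := layer_normal (G := Q)
  have hmem : ∀ {t : ℕ}, t.Prime → ∀ g : Q, g ^ t = 1 → g ∈ Cfsg.layer Q := by
    intro t ht g hg
    rcases eq_or_ne t 2 with rfl | ht2
    · exact h.two_mem hg
    refine h.mem_layer ht hg fun K hK => ?_
    by_contra hn
    set c : ℕ → Subgroup Q := fun i => K.map (MulAut.conj (g ^ i)).toMonoidHom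
    have hc : ∀ i, Cfsg.IsComponent (c i) := fun i => isComponent_map_equiv _ hK
    have h3 : 3 ≤ t := by have := ht.two_le; omega
    have hne : ∀ i j, i < j → j < 3 → c i ≠ c j := by
      intro i j hij hj3 e
      refine hn (conj_mem_normalizer ht hg (Nat.not_dvd_of_pos_of_lt (show 0 < j - i by omega) (by omega))
        (conjBy_eq_self_iff.1 ?_))
      refine Subgroup.map_injective (f := (MulAut.conj (g ^ i)).toMonoidHom) (MulAut.conj (g ^ i)).injective ?_
      show conjBy (g ^ i) (conjBy (g ^ (j - i)) K) = conjBy (g ^ i) K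
      rw [conjBy_conjBy, ← pow_add, Nat.add_sub_cancel' hij.le]
      exact e.symm
    have hJc : ∀ i, IsJ K → IsJ (c i) := fun i ⟨e⟩ =>
      ⟨(K.equivMapOfInjective _ (MulAut.conj (g ^ i)).injective).symm.trans e⟩
    rcases h.kind hK with hs | hKj
    · have hnJ : ∀ i, J ≠ c i := by
        intro i e
        obtain ⟨x, hx⟩ := hj.exists_orderOf (p := 7) (by decide)
        subst e
        have h7 := hs.orders ((K.equivMapOfInjective _ (MulAut.conj (g ^ i)).injective).symm x)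
        rw [MulEquiv.orderOf_eq, hx] at h7
        revert h7
        decide
      exact h.four hJ hj (hc 0) (hc 1) (hc 2) (hnJ 0) (hnJ 1) (hnJ 2) (hne 0 1 (by omega) (by omega))
        (hne 0 2 (by omega) (by omega)) (hne 1 2 (by omega) (by omega))
    · exact h.no_three_J (hc 0) (hc 1) (hc 2) (hJc 0 hKj) (hJc 1 hKj) (hJc 2 hKj)
        (hne 0 1 (by omega) (by omega)) (hne 0 2 (by omega) (by omega)) (hne 1 2 (by omega) (by omega))
  by_contra hne
  haveI : Nontrivial (Q ⧸ Cfsg.layer Q) := QuotientGroup.nontrivial_iff.2 hne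
  obtain ⟨p, hp, hpd⟩ := Nat.exists_prime_and_dvd (Finite.one_lt_card (α := Q ⧸ Cfsg.layer Q)).ne'
  haveI := Fact.mk hp
  obtain ⟨y, hy⟩ := exists_prime_orderOf_dvd_card' (G := Q ⧸ Cfsg.layer Q) p hpd
  obtain ⟨g, rfl⟩ := QuotientGroup.mk'_surjective (Cfsg.layer Q) y
  have hd : p ∣ orderOf g := hy ▸ orderOf_map_dvd _ g
  -- the `p`-part of `g`
  have hsf : ¬ p ∣ orderOf g / p := fun hd' => h.sub.not_sq_dvd hp g ((Nat.dvd_div_iff_mul_dvd hd).1 hd')
  have h1 := hmem hp (g ^ (orderOf g / p)) (by rw [← pow_mul, Nat.div_mul_cancel hd, pow_orderOf_eq_one])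
  rw [← QuotientGroup.eq_one_iff, QuotientGroup.mk_pow] at h1
  have h2 : ((g : Q) : Q ⧸ Cfsg.layer Q) ^ (orderOf g / p) = 1 := h1
  have h3 := orderOf_dvd_of_pow_eq_one h2
  rw [← QuotientGroup.mk'_apply, hy] at h3
  exact hsf h3

end Top

end CfsgLib.Spor.JOneSquare
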