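import Cfsg.Agent.Lib.Spor.JOneSquare.One
import Cfsg.Agent.Lib.Spor.JOneSquare.JData

/-!
# A group with the element orders of `J₁ × J₁` is `J₁ × J₁`

Modulo the solvable radical there are exactly two copies of `J₁`, and a chief factor below them would give an
element order that the square does not have.
-/

set_option autoImplicit false
set_option linter.style.haveILetI false
set_option linter.unusedSectionVars false

namespace CfsgLib.Spor.JOneSquare

open Subgroup CfsgLib.Coprime

universe u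

variable {G : Type u} [Group G] [Finite G]

/-- The largest solvable normal subgroup, with the quotient. -/
theorem exists_top (hc : Cases.{u}) (hsub : Sub G) :
    ∃ (R : Subgroup G) (_ : R.Normal), Group.IsSolvable R ∧ Top (G ⧸ R) := by
  obtain ⟨R, ⟨hRn, hRs⟩, hmax⟩ := (wellFounded_gt (α := Subgroup G)).has_min
    {R | R.Normal ∧ Group.IsSolvable R} ⟨⊥, inferInstance, Coprime.isSolvable_of_isMulCommutative inferInstance⟩
  refine ⟨R, hRn, hRs, hsub.of_surjective _ (QuotientGroup.mk'_surjective R), fun N hN hNs => ?_, hc⟩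
  set K := N.comap (QuotientGroup.mk' R)
  have hKs : Group.IsSolvable K := by
    let φ : K →* N := (QuotientGroup.mk' R).subgroupComap N
    let ι : R →* K := Subgroup.inclusion fun x hx => by
      show QuotientGroup.mk' R x ∈ N
      rw [QuotientGroup.mk'_apply, (QuotientGroup.eq_one_iff x).2 hx]
      exact one_mem N
    haveI := hNs
    haveI := hRs
    exact Group.isSolvable_of_ker_le_range ι φ fun x hx => ⟨⟨x, (QuotientGroup.eq_one_iff _).1
      (congrArg Subtype.val hx)⟩, Subtype.ext rfl⟩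
  have hle : R ≤ K := fun x hx => by
    show QuotientGroup.mk' R x ∈ N
    rw [QuotientGroup.mk'_apply, (QuotientGroup.eq_one_iff x).2 hx]
    exact one_mem N
  have hKR : K = R := ((hle.eq_or_lt).resolve_right (hmax K ⟨hN.comap _, hKs⟩)).symm
  rw [← map_comap_eq_self_of_surjective (QuotientGroup.mk'_surjective R) N]
  show K.map _ = ⊥
  rw [hKR, QuotientGroup.map_mk'_self]

/-- Nothing solvable lies below the square. -/
theorem ker_eq_bot (hsub : Sub G) (π : G →* ↥Cfsg.Spor.J1 × ↥Cfsg.Spor.J1) (hπ : Function.Surjective π)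
    (hR : Group.IsSolvable π.ker) : π.ker = ⊥ := by
  by_contra hne
  haveI : Finite ↥Cfsg.Spor.J1 := CfsgLib.Char.J1.finite_J1
  haveI := CfsgLib.Char.J1.simple_J1
  obtain ⟨N, ⟨hN, hNR⟩, hmax⟩ := (wellFounded_gt (α := Subgroup G)).has_min
    {N | N.Normal ∧ N < π.ker} ⟨⊥, inferInstance, bot_lt_iff_ne_bot.2 hne⟩
  haveI := hN
  set V := π.ker.map (QuotientGroup.mk' N) with hVdef
  haveI hVn : V.Normal := (inferInstance : π.ker.Normal).map _ (QuotientGroup.mk'_surjective N)
  haveI : Group.IsSolvable V := by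
    haveI := hR
    exact Group.isSolvable_of_surjective ((QuotientGroup.mk' N).subgroupMap_surjective π.ker)
  have hV0 : V ≠ ⊥ := fun e => hNR.ne (le_antisymm hNR.le (by
    rwa [hVdef, Subgroup.map_eq_bot_iff, QuotientGroup.ker_mk'] at e))
  have hmin : ∀ M : Subgroup (G ⧸ N), M.Normal → M ≤ V → M = ⊥ ∨ M = V := by
    intro M hM hMV
    set M' := M.comap (QuotientGroup.mk' N)
    have hMN : M'.map (QuotientGroup.mk' N) = M := map_comap_eq_self_of_surjective (QuotientGroup.mk'_surjective N) M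
    have hNM : N ≤ M' := fun x hx => by
      show QuotientGroup.mk' N x ∈ M
      rw [QuotientGroup.mk'_apply, (QuotientGroup.eq_one_iff x).2 hx]
      exact one_mem M
    have hMR : M' ≤ π.ker := (comap_mono hMV).trans (by
      rw [hVdef, comap_map_eq, QuotientGroup.ker_mk', sup_eq_left.2 hNR.le])
    rcases hMR.eq_or_lt with e | hlt
    · right; rw [← hMN, e]
    · left
      rw [← hMN, ((hNM.eq_or_lt).resolve_right (hmax M' ⟨hM.comap _, hlt⟩)).symm, QuotientGroup.map_mk'_self]
  obtain ⟨hcomm, r, hr, hrV⟩ := minimal_normal_solvable hV0 hmin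
  haveI : IsMulCommutative V := isMulCommutative_iff.2 fun a b => Subtype.ext (hcomm a a.2 b b.2)
  have hVr : IsPGroup r V := fun x => ⟨1, Subtype.ext (by rw [Subgroup.coe_pow, pow_one]; exact hrV x x.2)⟩
  have hsub' := hsub.of_surjective (QuotientGroup.mk' N) (QuotientGroup.mk'_surjective N)
  haveI := Fact.mk hr
  obtain ⟨v, hv, hv1⟩ := V.bot_or_exists_ne_one.resolve_left hV0
  have hrd : r ∣ Nat.card (G ⧸ N) := orderOf_eq_prime (hrV v hv) hv1 ▸ orderOf_dvd_natCard v
  have hna : ¬ IsMulCommutative ↥Cfsg.Spor.J1 := fun hc => by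
    obtain ⟨m, hm, hd⟩ := IsJ.orders (T := ↥Cfsg.Spor.J1) ⟨MulEquiv.refl _⟩
      (Classical.choose CfsgLib.Char.J1.exists_orderOf_seven * Classical.choose CfsgLib.Char.J1.exists_orderOf_eleven)
    rw [Commute.orderOf_mul_eq_mul_orderOf_of_coprime (isMulCommutative_iff.1 hc _ _)
      (by rw [Classical.choose_spec CfsgLib.Char.J1.exists_orderOf_seven,
            Classical.choose_spec CfsgLib.Char.J1.exists_orderOf_eleven]; norm_num),
      Classical.choose_spec CfsgLib.Char.J1.exists_orderOf_seven,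
      Classical.choose_spec CfsgLib.Char.J1.exists_orderOf_eleven] at hd
    exact (show ∀ m ∈ ({6, 10, 15, 7, 11, 19} : Finset ℕ), ¬ 7 * 11 ∣ m by decide) m hm hd
  refine false_of_module hsub' hna (by rw [CfsgLib.Char.J1.card_eq]; norm_num)
    (by rw [CfsgLib.Char.J1.card_eq]; norm_num) frob_two_seven frob_eleven_ten frob_nineteen_six
    (hsub'.prime_mem hr hrd) hVr hV0 (QuotientGroup.lift N π hNR.le) (fun q => ?_) ?_
  · obtain ⟨g, rfl⟩ := hπ q
    exact ⟨g, rfl⟩
  · rw [QuotientGroup.ker_lift]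

/-- A group with the element orders of the square is the square. -/
theorem recognizable (hc : Cases.{u}) (hsub : Sub G)
    (hedge : ∀ p ∈ ({5, 7, 11, 19} : Finset ℕ), ∀ q ∈ ({5, 7, 11, 19} : Finset ℕ), p ≠ q →
      ∃ g : G, orderOf g = p * q) :
    Nonempty (G ≃* ↥Cfsg.Spor.J1 × ↥Cfsg.Spor.J1) := by
  classical
  obtain ⟨R, hRn, hRs, h⟩ := exists_top hc hsub
  haveI := hRn
  set π := QuotientGroup.mk' R
  have hπ : Function.Surjective π := QuotientGroup.mk'_surjective R
  have hR : Group.IsSolvable π.ker := isSolvable_of_le (QuotientGroup.ker_mk' R).le hRs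
  by_cases hJ : ∃ J : Subgroup (G ⧸ R), Cfsg.IsComponent J ∧ IsJ J
  swap
  · push Not at hJ
    exact (false_of_small hsub h π hπ hR hedge fun K hK => (h.kind hK).resolve_right (hJ K hK)).elim
  obtain ⟨J₁, hJ₁, j₁⟩ := hJ
  by_cases hJ' : ∃ J : Subgroup (G ⧸ R), Cfsg.IsComponent J ∧ IsJ J ∧ J ≠ J₁
  swap
  · push Not at hJ'
    exact (false_of_one hsub h π hπ hR hedge hJ₁ j₁ fun K hK hne =>
      (h.kind hK).resolve_right fun hj => hne (hJ' K hK hj)).elim
  obtain ⟨J₂, hJ₂, j₂, hne⟩ := hJ'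
  have htop := h.layer_eq_top hJ₁ j₁
  have hlay : ∀ z : G ⧸ R, z ∈ Cfsg.layer (G ⧸ R) := fun z => htop ▸ mem_top z
  let φ : G ⧸ R →* J₁ × J₂ :=
    { toFun := fun z => (⟨LayerProj.proj J₁ z, LayerProj.proj_mem J₁ z⟩, ⟨LayerProj.proj J₂ z, LayerProj.proj_mem J₂ z⟩)
      map_one' := Prod.ext (Subtype.ext (LayerProj.proj_one h.fitting hJ₁))
        (Subtype.ext (LayerProj.proj_one h.fitting hJ₂))
      map_mul' := fun a b => Prod.ext (Subtype.ext (LayerProj.proj_mul h.fitting hJ₁ (hlay a) (hlay b)))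
        (Subtype.ext (LayerProj.proj_mul h.fitting hJ₂ (hlay a) (hlay b))) }
  have hinj : Function.Injective φ := (injective_iff_map_eq_one φ).2 fun z hz =>
    LayerProj.eq_one_of_proj h.fitting (hlay z) fun K hK => by
      rcases h.eq_of_two_J hJ₁ hJ₂ j₁ j₂ hne.symm hK with rfl | rfl
      · exact congrArg Subtype.val (congrArg Prod.fst hz)
      · exact congrArg Subtype.val (congrArg Prod.snd hz)
  have hsurj : Function.Surjective φ := fun ⟨a, b⟩ => ⟨a * b, Prod.ext
    (Subtype.ext (by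
      show LayerProj.proj J₁ (a * b : G ⧸ R) = a
      rw [LayerProj.proj_mul h.fitting hJ₁ (hlay _) (hlay _), LayerProj.proj_self h.fitting hJ₁ a.2,
        LayerProj.proj_other h.fitting hJ₁ hJ₂ hne b.2, mul_one]))
    (Subtype.ext (by
      show LayerProj.proj J₂ (a * b : G ⧸ R) = b
      rw [LayerProj.proj_mul h.fitting hJ₂ (hlay _) (hlay _), LayerProj.proj_self h.fitting hJ₂ b.2,
        LayerProj.proj_other h.fitting hJ₂ hJ₁ hne.symm a.2, one_mul]))⟩
  obtain ⟨e₁⟩ := j₁
  obtain ⟨e₂⟩ := j₂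
  let e : G ⧸ R ≃* ↥Cfsg.Spor.J1 × ↥Cfsg.Spor.J1 :=
    (MulEquiv.ofBijective φ ⟨hinj, hsurj⟩).trans (MulEquiv.prodCongr e₁ e₂)
  set ψ := e.toMonoidHom.comp π
  have hψ : Function.Surjective ψ := e.surjective.comp hπ
  have hker : ψ.ker ≤ π.ker := fun x hx => MonoidHom.mem_ker.2 (e.injective (by
    rw [map_one]; exact MonoidHom.mem_ker.1 hx))
  exact ⟨MulEquiv.ofBijective ψ
    ⟨(ψ.ker_eq_bot_iff).1 (ker_eq_bot hsub ψ hψ (isSolvable_of_le hker hR)), hψ⟩⟩

end CfsgLib.Spor.JOneSquare
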