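import Cfsg.Agent.Lib.Spor.JOneSquare.Layer
import Cfsg.Agent.Lib.Walter.Main
import Cfsg.Agent.Lib.Walter.Consumers.Defs
import Cfsg.Agent.Lib.Classical.PSL2Spectrum
import Cfsg.Agent.S1644

/-!
# The simple groups with element orders of the square

Sylow `2`-subgroups are abelian, so by the classification of these simple groups only `L₂(4) ≅ L₂(5)`, `L₂(11)`
and `J₁` remain.
-/

set_option autoImplicit false
set_option linter.style.haveILetI false
set_option linter.unusedSectionVars false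

namespace CfsgLib.Spor.JOneSquare

open Subgroup

universe u

theorem field_table : ∀ p ∈ ({2, 3, 5, 7, 11, 19} : Finset ℕ), ∀ f ∈ Finset.range 10,
    4 ≤ p ^ f → p ^ f ≤ 572 → (p ^ f % 2 = 0 ∨ p ^ f % 8 = 3 ∨ p ^ f % 8 = 5) →
    (∃ m ∈ maxOrders, (p ^ f - 1) / Nat.gcd 2 (p ^ f - 1) ∣ m) →
    (∃ m ∈ maxOrders, (p ^ f + 1) / Nat.gcd 2 (p ^ f - 1) ∣ m) →
    p ^ f = 4 ∨ p ^ f = 5 ∨ p ^ f = 11 := by
  unfold maxOrders
  decide +kernel

/-- The fields of a group `L₂(q)` with the orders of the square. -/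
theorem field_cases {F : Type} [Field F] [Fintype F] (hsub : Sub (Matrix.ProjectiveSpecialLinearGroup (Fin 2) F))
    (hF : (∃ n : ℕ, 2 ≤ n ∧ Fintype.card F = 2 ^ n) ∨
      (5 ≤ Fintype.card F ∧ (Fintype.card F % 8 = 3 ∨ Fintype.card F % 8 = 5))) :
    Fintype.card F = 4 ∨ Fintype.card F = 5 ∨ Fintype.card F = 11 := by
  classical
  obtain ⟨p, hch⟩ := CharP.exists F
  haveI := hch
  obtain ⟨⟨n, hn⟩, hp, hq⟩ := FiniteField.card F p
  haveI := Fact.mk hp
  have hq' : Fintype.card F = p ^ n := hq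
  have h4 : 4 ≤ Fintype.card F := by
    rcases hF with ⟨k, hk, h⟩ | ⟨h, -⟩
    · rw [h]; exact le_trans (by norm_num) (Nat.pow_le_pow_right (by norm_num) hk)
    · omega
  have hok : ∀ m : ℕ, (m ∣ p ∨ m ∣ (Fintype.card F - 1) / Nat.gcd 2 (Fintype.card F - 1) ∨
      m ∣ (Fintype.card F + 1) / Nat.gcd 2 (Fintype.card F - 1)) → Ok m := fun m hm => by
    obtain ⟨g, hg⟩ := (CfsgLib.Classical.PSL2Spectrum.mem_range_orderOf p h4 m).2 hm
    exact hg ▸ hsub g
  obtain ⟨m, hm, hpm⟩ := hok p (Or.inl dvd_rfl)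
  have hp6 : p ∈ ({2, 3, 5, 7, 11, 19} : Finset ℕ) :=
    (show ∀ m ∈ maxOrders, ∀ q ∈ m.divisors, q.Prime → q ∈ ({2, 3, 5, 7, 11, 19} : Finset ℕ) by
      unfold maxOrders; decide +kernel) m hm p (Nat.mem_divisors.2 ⟨hpm, by rintro rfl; simp [maxOrders] at hm⟩) hp
  obtain ⟨b, hb, hbd⟩ := hok _ (Or.inr (Or.inr dvd_rfl))
  have hle : Fintype.card F ≤ 572 := by
    have h1 : (Fintype.card F + 1) / Nat.gcd 2 (Fintype.card F - 1) ≤ 285 :=
      (Nat.le_of_dvd ((show ∀ b ∈ maxOrders, 0 < b by unfold maxOrders; decide) b hb) hbd).trans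
        ((show ∀ b ∈ maxOrders, b ≤ 285 by unfold maxOrders; decide) b hb)
    have h2 : Nat.gcd 2 (Fintype.card F - 1) ≤ 2 := Nat.gcd_le_left _ (by norm_num)
    have h3 : 0 < Nat.gcd 2 (Fintype.card F - 1) := Nat.gcd_pos_of_pos_left _ (by norm_num)
    have h4' := (Nat.div_lt_iff_lt_mul h3).1 (Nat.lt_succ_of_le h1)
    have h5 : (285 + 1) * Nat.gcd 2 (Fintype.card F - 1) ≤ (285 + 1) * 2 := Nat.mul_le_mul_left _ h2
    omega
  have hn10 : n < 10 := by
    by_contra hc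
    have := (Nat.pow_le_pow_left hp.two_le 10).trans (Nat.pow_le_pow_right hp.pos (by omega : 10 ≤ n))
    rw [← hq'] at this
    omega
  rw [hq'] at h4 hle hF hok ⊢
  refine field_table p hp6 n (Finset.mem_range.2 hn10) h4 hle ?_ (hok _ (Or.inr (Or.inl dvd_rfl))) (hok _ (Or.inr (Or.inr dvd_rfl)))
  rcases hF with ⟨k, hk, h⟩ | ⟨-, h⟩
  · refine Or.inl ?_
    rw [h]
    exact Nat.mod_eq_zero_of_dvd (dvd_pow_self 2 (by omega)) |> id
  · exact Or.inr h

/-- The simple sections, from the facts on `L₂(5)` and `L₂(11)`. -/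
theorem cases_of_small
    (h5 : ∀ (T : Type u) [Group T] [Finite T],
      Nonempty (T ≃* Matrix.ProjectiveSpecialLinearGroup (Fin 2) (ZMod 5)) → Small T)
    (h11 : ∀ (T : Type u) [Group T] [Finite T], ∀ (F : Type) [Field F] [Fintype F], Fintype.card F = 11 →
      Nonempty (T ≃* Matrix.ProjectiveSpecialLinearGroup (Fin 2) F) → Small T) : Cases.{u} := by
  intro T _ _ hs hna hsub
  haveI := hs
  haveI := Fact.mk Nat.prime_two
  have hab : CfsgLib.Walter.AbTwo T := fun S a b => isMulCommutative_iff.1 (hsub.two_comm S.2) a b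
  rcases CfsgLib.Walter.classified T hs hna hab with ⟨F, iF, iF', hF, ⟨e⟩⟩ | ⟨h8, t, ht, F, iF, iF', hF, ⟨e⟩⟩
  · refine Or.inl ?_
    rcases field_cases (hsub.of_injective e.symm.toMonoidHom e.symm.injective) hF with h | h | h
    · exact h5 T (CfsgLib.Walter.Consumers.iso_psl_five h e)
    · obtain ⟨a⟩ := Cfsg.Agent.S0253.result (F := F) h
      haveI : Fact (Nat.Prime 5) := ⟨by norm_num⟩
      obtain ⟨b⟩ := Cfsg.Agent.S0253.result (F := ZMod 5) (ZMod.card 5)
      exact h5 T ⟨(e.trans a).trans b.symm⟩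
    · exact h11 T F h ⟨e⟩
  · refine Or.inr ?_
    have hsubF : Sub (Matrix.ProjectiveSpecialLinearGroup (Fin 2) F) :=
      (hsub.of_injective (centralizer ({t} : Set T)).subtype (Subgroup.subtype_injective _)).of_injective
        (e.symm.toMonoidHom.comp (MonoidHom.inr _ _)) (e.symm.injective.comp fun a b h => congrArg Prod.snd h)
    have h5F : Fintype.card F = 5 := by
      rcases hF with h | ⟨m, hm, h⟩
      · exact h
      · exfalso
        have h9 : (3 : ℕ) ^ (2 * m + 1) % 8 = 3 := by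
          rw [pow_succ, pow_mul, Nat.mul_mod, Nat.pow_mod]
          norm_num
        have h27 : 27 ≤ 3 ^ (2 * m + 1) := le_trans (by norm_num) (Nat.pow_le_pow_right (by norm_num) (show 3 ≤ 2 * m + 1 by omega))
        rcases field_cases hsubF (Or.inr ⟨by omega, Or.inl (h ▸ h9)⟩) with h' | h' | h' <;> omega
    obtain ⟨a⟩ := Cfsg.Agent.S0253.result (F := F) h5F
    obtain ⟨S⟩ : Nonempty (Sylow 2 T) := inferInstance
    exact Cfsg.Agent.S1644.result S (isMulCommutative_iff.2 (hab S)) (h8 S).1 t ht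
      (e.trans (MulEquiv.prodCongr (MulEquiv.refl _) a))

end CfsgLib.Spor.JOneSquare
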