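import Cfsg.Agent.Lib.Spor.JOneSquare.Fixed

/-!
# No abelian kernel below the square

Below `J × J` an abelian kernel of exponent `r` gives an element whose order is not an order of the square: two
lifts of elements from the two factors and a point of the kernel fixed by both.
-/

set_option autoImplicit false
set_option linter.style.haveILetI false
set_option linter.unusedSectionVars false

namespace CfsgLib.Spor.JOneSquare

open Subgroup

universe u v

/-- A `p`-group with an element of order `k` acting semiregularly on it. -/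
def Frob (J : Type*) [Group J] (p k : ℕ) : Prop :=
  ∃ (A : Subgroup J) (b : J), IsPGroup p A ∧ A ≠ ⊥ ∧ orderOf b = k ∧ b ∈ normalizer (A : Set J) ∧
    ∀ i : ℕ, b ^ i ≠ 1 → ∀ a ∈ A, Commute (b ^ i) a → a = 1

variable {G : Type u} [Group G] [Finite G] {J : Type v} [Group J] [Finite J]

/-- A power of a lift of the order of the image, with the same image. -/
theorem exists_lift_pow (hsub : Sub G) {H : Subgroup G} (φ : H →* J) {x : H} {k : ℕ} (hx : orderOf (φ x) = k) :
    ∃ e : ℕ, φ (x ^ e) = φ x ∧ orderOf ((x ^ e : H) : G) = k := by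
  obtain ⟨c, hc⟩ : k ∣ orderOf x := hx ▸ orderOf_map_dvd φ x
  have hcop : k.Coprime c := Nat.coprime_of_dvd fun q hq h1 h2 => hsub.not_sq_dvd hq (x : G) (by
    rw [Subgroup.orderOf_coe, hc]; exact mul_dvd_mul h1 h2)
  obtain ⟨e, he1, he2⟩ := Nat.chineseRemainder hcop 1 0
  have hphi : φ (x ^ e) = φ x := by
    rw [map_pow]
    conv_rhs => rw [← pow_one (φ x)]
    rw [pow_eq_pow_iff_modEq, hx]
    exact he1
  refine ⟨e, hphi, Nat.dvd_antisymm (orderOf_dvd_of_pow_eq_one ?_) ?_⟩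
  · rw [← Subgroup.coe_pow, ← pow_mul, show (x ^ (e * k) : H) = 1 from orderOf_dvd_iff_pow_eq_one.1 (by
      rw [hc, mul_comm e]
      exact mul_dvd_mul_left _ (Nat.modEq_zero_iff_dvd.1 he2))]
    rfl
  · rw [Subgroup.orderOf_coe, ← hx, ← hphi]
    exact orderOf_map_dvd φ _

variable [IsSimpleGroup J]

/-- A lift of the semiregular element fixes a point of a module of another prime. -/
theorem exists_fixed_lift (hsub : Sub G) {H : Subgroup G} (φ : H →* J) (hφ : Function.Surjective φ) {r p k : ℕ}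
    (hr : r.Prime) (hker : IsPGroup r φ.ker) (hp : p.Prime) (hf : Frob J p k) (hrk : ¬ r ∣ k) (hrp : r ≠ p)
    {W : Subgroup G} [IsMulCommutative W] (hW : IsPGroup r W) (hW0 : W ≠ ⊥) (hHW : H ≤ normalizer (W : Set G)) :
    ∃ b ∈ H, orderOf b = k ∧ ∃ w ∈ W, w ≠ 1 ∧ Commute b w := by
  obtain ⟨A, b₀, hA, hA0, hb₀, hb₀N, hfpf⟩ := hf
  haveI := Fact.mk hp
  haveI := Fact.mk hr
  by_contra hcon
  push Not at hcon
  -- a lift of the group and of the element normalizing it
  set M := A.comap φ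
  obtain ⟨S⟩ : Nonempty (Sylow p M) := inferInstance
  have hS := Coprime.isSylowIn_map S
  set P := (S : Subgroup M).map M.subtype
  have hPp : IsPGroup p P := hS.isPGroup
  have hPA : ∀ u ∈ A, ∃ w ∈ P, φ w = u := by
    let ψ : M →* A := φ.subgroupComap A
    have hψ : Function.Surjective ψ := φ.subgroupComap_surjective_of_surjective A hφ
    have h1 : ((S.mapSurjective hψ : Sylow p A) : Subgroup A) = ⊤ :=
      (S.mapSurjective hψ).3 (hA.of_equiv Subgroup.topEquiv.symm) le_top ▸ rfl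
    intro u hu
    rw [Sylow.coe_mapSurjective] at h1
    obtain ⟨w, hw, e⟩ : (⟨u, hu⟩ : A) ∈ (S : Subgroup M).map ψ := h1.symm ▸ mem_top _
    exact ⟨w, mem_map_of_mem _ hw, congrArg Subtype.val e⟩
  obtain ⟨x₀, hx₀⟩ := hφ b₀
  have hxM : x₀ ∈ normalizer (M : Set H) := mem_normalizer_iff.2 fun w => by
    show φ w ∈ A ↔ φ (x₀ * w * x₀⁻¹) ∈ A
    rw [map_mul, map_mul, map_inv, hx₀]
    exact mem_normalizer_iff.1 hb₀N (φ w)
  obtain ⟨m, hm, hconj⟩ := hS.exists_conj (hS.conjBy hxM)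
  obtain ⟨w, hw, e⟩ := hPA (φ m) hm
  set y := w * m⁻¹ * x₀
  have hyP : y ∈ normalizer (P : Set H) := by
    refine Coprime.conjBy_eq_self_iff.1 ?_
    rw [← Coprime.conjBy_conjBy, ← hconj, Coprime.conjBy_conjBy, inv_mul_cancel_right]
    exact Coprime.conjBy_eq_self_of_mem hw
  have hyφ : φ y = b₀ := by simp only [y, map_mul, map_inv, e, hx₀, mul_inv_cancel, one_mul]
  obtain ⟨i, hbφ, hbo⟩ := exists_lift_pow hsub φ (x := y) (hyφ.symm ▸ hb₀)
  set b := y ^ i
  have hbP : b ∈ normalizer (P : Set H) := pow_mem hyP i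
  set P' := P.map H.subtype
  have hP'H : P' ≤ H := map_subtype_le P
  by_cases hle : P' ≤ centralizer (W : Set G)
  · -- then the centralizer of the module covers the factor
    set C := (centralizer (W : Set G)).subgroupOf H
    haveI : C.Normal := ⟨fun z hz g => by
      rw [mem_subgroupOf] at hz ⊢
      push_cast
      exact (mem_normalizer_iff.1 (Coprime.normalizer_le_normalizer_centralizer W (hHW g.2)) _).1 hz⟩
    have htop : C.map φ = ⊤ := by
      refine ((‹C.Normal›.map φ hφ).eq_bot_or_eq_top).resolve_left fun h => hA0 ((eq_bot_iff_forall _).2 fun u hu => ?_)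
      obtain ⟨z, hz, rfl⟩ := hPA u hu
      exact mem_bot.1 (h ▸ mem_map_of_mem φ (hle (mem_map_of_mem H.subtype hz) : z ∈ C))
    obtain ⟨z, hz, hzb⟩ : b₀ ∈ C.map φ := htop.symm ▸ mem_top b₀
    obtain ⟨j, -, hjo⟩ := exists_lift_pow hsub φ (x := z) (hzb.symm ▸ hb₀)
    obtain ⟨v, hv, hv1⟩ := W.bot_or_exists_ne_one.resolve_left hW0
    exact hcon _ (z ^ j).2 hjo v hv hv1 (mem_centralizer_iff.1 (mem_subgroupOf.1 (pow_mem hz j)) v hv).symm
  refine hle (Lie.SuzSquare.le_centralizer_of_pow (b := (b : G)) ?_ (hP'H.trans hHW) (hHW b.2)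
    (le_normalizer_map H.subtype (mem_map_of_mem _ hbP)) ?_ fun v hv => ?_)
  · obtain ⟨a, ha⟩ := (hPp.map H.subtype).exists_card_eq
    obtain ⟨c, hc⟩ := hW.exists_card_eq
    rw [ha, hc]
    exact ((Nat.coprime_primes hp hr).2 hrp.symm).pow a c
  · rintro j hj _ ⟨a, ha, rfl⟩ hc
    have hbj : b₀ ^ j ≠ 1 := fun e' => hj (by
      rw [← orderOf_dvd_iff_pow_eq_one, hbo, ← hb₀]; exact orderOf_dvd_of_pow_eq_one e')
    have hφa : φ a = 1 := hfpf j hbj _ (map_subtype_le _ ha : a ∈ M) (by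
      have hc' : Commute (b ^ j) a := Subtype.ext (by simpa using hc.eq)
      have := hc'.map φ
      rwa [map_pow, hbφ, hyφ] at this)
    show (a : G) = 1
    rw [show a = 1 from mem_bot.1 ((disjoint_iff.1 (IsPGroup.disjoint_of_ne p r hrp.symm P φ.ker hPp hker)) ▸
      mem_inf.2 ⟨ha, MonoidHom.mem_ker.2 hφa⟩)]
    rfl
  · obtain ⟨u, hu, e'⟩ := Lie.SuzSquare.mul_pow_eq (hHW b.2) hv (orderOf (b : G))
    rw [pow_orderOf_eq_one, mul_one] at e'
    rw [e']
    by_contra hu1
    refine hcon b b.2 hbo u hu hu1 ?_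
    have h1 : Commute u (v * b) := e' ▸ (Commute.refl _).pow_left _
    have h2 : Commute u v := congrArg Subtype.val
      (isMulCommutative_iff.1 (inferInstance : IsMulCommutative W) ⟨u, hu⟩ ⟨v, hv⟩)
    have h3 := h2.inv_right.mul_right h1
    rw [inv_mul_cancel_left] at h3
    exact h3.symm

/-- Fixed points of lifts from both factors in an abelian kernel. -/
theorem exists_two_fixed (hsub : Sub G) (π : G →* J × J) (hπ : Function.Surjective π) {r p₁ k₁ p₂ k₂ : ℕ}
    (hr : r.Prime) (hV : IsPGroup r π.ker) [IsMulCommutative π.ker] (hV0 : π.ker ≠ ⊥) (hp₁ : p₁.Prime)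
    (hf₁ : Frob J p₁ k₁) (hp₂ : p₂.Prime) (hf₂ : Frob J p₂ k₂) (h1 : ¬ r ∣ k₁) (h1' : r ≠ p₁) (h2 : ¬ r ∣ k₂)
    (h2' : r ≠ p₂) : ∃ b₁ b₂ w : G, orderOf b₁ = k₁ ∧ orderOf b₂ = k₂ ∧ orderOf w = r ∧ Commute b₁ b₂ ∧
      Commute b₁ w ∧ Commute b₂ w := by
  haveI := Fact.mk hr
  set H₁ := ((MonoidHom.snd J J).comp π).ker
  have hV1 : π.ker ≤ H₁ := fun x hx => by
    rw [MonoidHom.mem_ker, MonoidHom.comp_apply, MonoidHom.mem_ker.1 hx]; rfl
  obtain ⟨b₁, hb₁, hb₁o, w₁, hw₁, hw₁1, hbw₁⟩ := exists_fixed_lift hsub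
    (((MonoidHom.fst J J).comp π).comp H₁.subtype) (fun y => by
      obtain ⟨x, hx⟩ := hπ (y, 1)
      exact ⟨⟨x, by show (π x).2 = 1; rw [hx]⟩, by show (π x).1 = y; rw [hx]⟩)
    hr (fun x => by
      have hx : (x.1 : G) ∈ π.ker := MonoidHom.mem_ker.2 (Prod.ext x.2 x.1.2)
      obtain ⟨a, ha⟩ := hV ⟨_, hx⟩
      exact ⟨a, Subtype.ext (Subtype.ext (by simpa using congrArg Subtype.val ha))⟩)
    hp₁ hf₁ h1 h1' hV hV0 (le_top.trans (normalizer_eq_top_iff.2 (inferInstance : π.ker.Normal)).ge)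
  set W := π.ker ⊓ centralizer ({b₁} : Set G)
  have hW0 : W ≠ ⊥ := fun h => hw₁1 (mem_bot.1 (h ▸ mem_inf.2 ⟨hw₁, mem_centralizer_singleton_iff.2 hbw₁.symm⟩))
  haveI : IsMulCommutative W := isMulCommutative_iff.2 fun a b => Subtype.ext
    (congrArg Subtype.val (isMulCommutative_iff.1 (inferInstance : IsMulCommutative π.ker) ⟨a, a.2.1⟩ ⟨b, b.2.1⟩) :)
  set H₂ := ((MonoidHom.fst J J).comp π).ker ⊓ centralizer ({b₁} : Set G)
  obtain ⟨b₂, hb₂, hb₂o, w, hw, hw1, hbw⟩ := exists_fixed_lift hsub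
    (((MonoidHom.snd J J).comp π).comp H₂.subtype) (fun y => by
      obtain ⟨x, hx⟩ := hπ (1, y)
      obtain ⟨n, hn, hxn⟩ := Coprime.exists_fixed_in_coset (A := zpowers b₁) (N := π.ker) (k := x)
        (le_top.trans (normalizer_eq_top_iff.2 (inferInstance : π.ker.Normal)).ge)
        (by
          obtain ⟨a, ha⟩ := hV.exists_card_eq
          rw [Nat.card_zpowers, hb₁o, ha]
          exact ((Nat.Prime.coprime_iff_not_dvd hr).2 h1).symm.pow_right a)
        (Or.inl (Coprime.isSolvable_of_isMulCommutative inferInstance))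
        (normalizer_eq_top_iff.2 (inferInstance : π.ker.Normal) ▸ mem_top x) fun a ha => by
          obtain ⟨z, rfl⟩ := mem_zpowers_iff.1 ha
          rw [MonoidHom.mem_ker, map_mul, map_mul, map_mul, map_inv, map_inv, hx]
          exact Prod.ext (by simp) (by simp [show (π b₁).2 = 1 from hb₁])
      refine ⟨⟨x * n, mem_inf.2 ⟨?_, ?_⟩⟩, ?_⟩
      · show (π (x * n)).1 = 1
        rw [map_mul, MonoidHom.mem_ker.1 hn, hx, mul_one]
      · exact mem_centralizer_singleton_iff.2 ((mem_centralizer_iff.1 hxn b₁ (mem_zpowers b₁)).symm)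
      · show (π (x * n)).2 = y
        rw [map_mul, MonoidHom.mem_ker.1 hn, hx, mul_one])
    hr (fun x => by
      have hx : (x.1 : G) ∈ π.ker := MonoidHom.mem_ker.2 (Prod.ext x.1.2.1 x.2)
      obtain ⟨a, ha⟩ := hV ⟨_, hx⟩
      exact ⟨a, Subtype.ext (Subtype.ext (by simpa using congrArg Subtype.val ha))⟩)
    hp₂ hf₂ h2 h2' (hV.to_le inf_le_left) hW0
    (Coprime.inf_le_normalizer (le_top.trans (normalizer_eq_top_iff.2 (inferInstance : π.ker.Normal)).ge)
      fun x hx => le_normalizer hx.2)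
  exact ⟨b₁, b₂, w, hb₁o, hb₂o, hsub.orderOf_eq hr hV hw.1 hw1,
    (mem_centralizer_singleton_iff.1 (mem_inf.1 hb₂).2).symm, (mem_centralizer_singleton_iff.1 hw.2).symm, hbw⟩

/-- There is no abelian kernel below the square. -/
theorem false_of_module (hsub : Sub G) (hna : ¬ IsMulCommutative J) (h7 : 7 ∣ Nat.card J) (h11 : 11 ∣ Nat.card J)
    (f2 : Frob J 2 7) (f11 : Frob J 11 10) (f19 : Frob J 19 6) {r : ℕ}
    (hr : r ∈ ({2, 3, 5, 7, 11, 19} : Finset ℕ)) {V : Subgroup G} [V.Normal] [IsMulCommutative V]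
    (hV : IsPGroup r V) (hV0 : V ≠ ⊥) (π : G →* J × J) (hπ : Function.Surjective π) (hker : π.ker = V) : False := by
  subst hker
  haveI := Fact.mk Nat.prime_two
  simp only [Finset.mem_insert, Finset.mem_singleton] at hr
  have hmax : ∀ m ∈ maxOrders, ¬ 154 ∣ m ∧ ¬ 210 ∣ m ∧ ¬ 462 ∣ m ∧ ¬ 1330 ∣ m := by unfold maxOrders; decide
  rcases hr with rfl | hr
  · set C := centralizer (π.ker : Set G)
    have h2 : ∀ x : G, (∃ a, x ^ 2 ^ a = 1) → x ∈ C := fun x hx => by
      obtain ⟨a, ha⟩ := hx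
      have hX : IsPGroup 2 (zpowers x) := fun y => by
        obtain ⟨z, hz⟩ := mem_zpowers_iff.1 y.2
        exact ⟨a, Subtype.ext (by
          rw [Subgroup.coe_pow, ← hz, ← zpow_natCast, ← zpow_mul, mul_comm, zpow_mul, zpow_natCast, ha, one_zpow]
          rfl)⟩
      haveI := hsub.two_comm (hV.to_sup_of_normal_left hX)
      refine mem_centralizer_iff.2 fun v hv => congrArg Subtype.val (isMulCommutative_iff.1
        (inferInstance : IsMulCommutative (π.ker ⊔ zpowers x : Subgroup G)) ⟨v, mem_sup_left hv⟩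
        ⟨x, mem_sup_right (mem_zpowers x)⟩)
    haveI hCn : (C.map π).Normal := (inferInstance : C.Normal).map π hπ
    have hinv : ∃ t : J, t ≠ 1 ∧ t * t = 1 := by
      obtain ⟨A, b, hA, hA0, -⟩ := f2
      obtain ⟨k, hk⟩ := hA.exists_card_eq
      rcases k with _ | k
      · exact absurd (Subgroup.card_eq_one.1 (hk.trans (pow_zero _))) hA0
      obtain ⟨t, ht⟩ := exists_prime_orderOf_dvd_card' (G := A) 2 (hk ▸ dvd_pow_self 2 (Nat.succ_ne_zero k))
      have ht' : orderOf (t : J) = 2 := (Subgroup.orderOf_coe t).trans ht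
      exact ⟨t, fun e => by simp [e] at ht', by rw [← sq, ← ht']; exact pow_orderOf_eq_one _⟩
    obtain ⟨t, ht1, ht2⟩ := hinv
    have hfac : ∀ ι : J →* J × J, (ι t ≠ 1) → (∀ y, ι y ∈ C.map π) := by
      intro ι hι
      haveI : ((C.map π).comap ι).Normal := hCn.comap ι
      have htop : (C.map π).comap ι = ⊤ := by
        refine (IsSimpleGroup.eq_bot_or_eq_top_of_normal _ inferInstance).resolve_left fun h => ht1 ?_
        obtain ⟨x, hx⟩ := hπ (ι t)
        have hxm : orderOf (π x) = 2 := orderOf_eq_prime (by rw [hx, ← map_pow, sq, ht2, map_one]) (hx ▸ hι)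
        have hφ : orderOf ((π.comp (⊤ : Subgroup G).subtype) ⟨x, mem_top x⟩) = 2 := hxm
        obtain ⟨e, he, heo⟩ := exists_lift_pow hsub (π.comp (⊤ : Subgroup G).subtype) hφ
        refine mem_bot.1 (h ▸ mem_comap.2 ?_)
        refine ⟨_, h2 _ ⟨1, ?_⟩, he.trans hx⟩
        rw [pow_one, ← heo]
        exact pow_orderOf_eq_one _
      exact fun y => mem_comap.1 (htop ▸ mem_top y)
    obtain ⟨a, ha⟩ := exists_prime_orderOf_dvd_card' (G := J) 7 (hp := ⟨by norm_num⟩) h7
    obtain ⟨c, hc⟩ := exists_prime_orderOf_dvd_card' (G := J) 11 (hp := ⟨by norm_num⟩) h11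
    have hac : ((a, c) : J × J) ∈ C.map π := by
      rw [show ((a, c) : J × J) = MonoidHom.inl J J a * MonoidHom.inr J J c by simp]
      exact mul_mem (hfac _ (fun e => ht1 (congrArg Prod.fst e)) a) (hfac _ (fun e => ht1 (congrArg Prod.snd e)) c)
    obtain ⟨x, hx, hxπ⟩ := hac
    have hφ : orderOf ((π.comp (⊤ : Subgroup G).subtype) ⟨x, mem_top x⟩) = 77 := by
      show orderOf (π x) = 77
      rw [hxπ, Prod.orderOf, ha, hc]; rfl
    obtain ⟨e, -, heo⟩ := exists_lift_pow hsub (π.comp (⊤ : Subgroup G).subtype) hφ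
    obtain ⟨v, hv, hv1⟩ := π.ker.bot_or_exists_ne_one.resolve_left hV0
    have h := hsub.ok_mul (x := x ^ e) (y := v) (mem_centralizer_iff.1 (pow_mem hx e) v hv).symm (by
      rw [show x ^ e = ((⟨x, mem_top x⟩ ^ e : (⊤ : Subgroup G)) : G) from rfl, heo,
        hsub.orderOf_eq Nat.prime_two hV hv hv1]
      norm_num)
    rw [show x ^ e = ((⟨x, mem_top x⟩ ^ e : (⊤ : Subgroup G)) : G) from rfl, heo,
      hsub.orderOf_eq Nat.prime_two hV hv hv1] at h
    exact not_ok (fun m hm => (hmax m hm).1) h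
  have fin : ∀ {a b w : G}, Commute a b → Commute a w → Commute b w → (orderOf a).Coprime (orderOf b) →
      (orderOf a).Coprime (orderOf w) → (orderOf b).Coprime (orderOf w) →
      Ok (orderOf a * orderOf b * orderOf w) := fun h1 h2 h3 => hsub.ok_mul_three h1 h2 h3
  rcases hr with rfl | rfl | rfl | rfl | rfl
  · obtain ⟨a, b, w, ha, hb, hw, c1, c2, c3⟩ := exists_two_fixed hsub π hπ (by norm_num) hV hV0 Nat.prime_two f2
      (by norm_num) f11 (by norm_num) (by norm_num) (by norm_num) (by norm_num)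
    have h := fin c1 c2 c3 (by rw [ha, hb]; norm_num) (by rw [ha, hw]; norm_num) (by rw [hb, hw]; norm_num)
    rw [ha, hb, hw] at h
    exact not_ok (fun m hm => (hmax m hm).2.1) h
  · obtain ⟨a, b, w, ha, hb, hw, c1, c2, c3⟩ := exists_two_fixed hsub π hπ (by norm_num) hV hV0 Nat.prime_two f2
      (by norm_num) f19 (by norm_num) (by norm_num) (by norm_num) (by norm_num)
    have h := fin c1 c2 c3 (by rw [ha, hb]; norm_num) (by rw [ha, hw]; norm_num) (by rw [hb, hw]; norm_num)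
    rw [ha, hb, hw] at h
    exact not_ok (fun m hm => (hmax m hm).2.1) h
  · obtain ⟨a, b, w, ha, hb, hw, c1, c2, c3⟩ := exists_two_fixed hsub π hπ (by norm_num) hV hV0 (p₁ := 11)
      (by norm_num) f11 (p₂ := 19) (by norm_num) f19 (by norm_num) (by norm_num) (by norm_num) (by norm_num)
    have ha2 : orderOf (a ^ 2) = 5 := by rw [orderOf_pow, ha]; norm_num
    have h := fin (c1.pow_left 2) (c2.pow_left 2) c3 (by rw [ha2, hb]; norm_num) (by rw [ha2, hw]; norm_num)
      (by rw [hb, hw]; norm_num)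
    rw [ha2, hb, hw] at h
    exact not_ok (fun m hm => (hmax m hm).2.1) h
  · obtain ⟨a, b, w, ha, hb, hw, c1, c2, c3⟩ := exists_two_fixed hsub π hπ (by norm_num) hV hV0 Nat.prime_two f2
      (by norm_num) f19 (by norm_num) (by norm_num) (by norm_num) (by norm_num)
    have h := fin c1 c2 c3 (by rw [ha, hb]; norm_num) (by rw [ha, hw]; norm_num) (by rw [hb, hw]; norm_num)
    rw [ha, hb, hw] at h
    exact not_ok (fun m hm => (hmax m hm).2.2.1) h
  · obtain ⟨a, b, w, ha, hb, hw, c1, c2, c3⟩ := exists_two_fixed hsub π hπ (by norm_num) hV hV0 Nat.prime_two f2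
      (by norm_num) f11 (by norm_num) (by norm_num) (by norm_num) (by norm_num)
    have h := fin c1 c2 c3 (by rw [ha, hb]; norm_num) (by rw [ha, hw]; norm_num) (by rw [hb, hw]; norm_num)
    rw [ha, hb, hw] at h
    exact not_ok (fun m hm => (hmax m hm).2.2.2) h

end CfsgLib.Spor.JOneSquare
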