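import Cfsg.Agent.Lib.Spor.JOneSquare.Layer
import Cfsg.Agent.Lib.Spor.JOneSquare.TwoFactor
import Cfsg.Agent.Lib.Invol.CyclicCentralizer

/-!
# A moved small component

Only small components. An element of prime order `t` moving a component, together with a chief factor of order
`u ^ k` in the radical, gives an element of order `2 t u` or `30 u`.
-/

set_option autoImplicit false
set_option linter.style.haveILetI false
set_option linter.unusedSectionVars false

namespace CfsgLib.Spor.JOneSquare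

open Subgroup CfsgLib.Coprime
open scoped commutatorElement

universe u v

section Lift

variable {G : Type u} [Group G] [Finite G]

/-- An element of prime order inducing the same on `H` and normalizing a Sylow `2`-subgroup of `H`. -/
theorem exists_normalizing_lift (hsub : Sub G) {t : ℕ} (ht : t.Prime) {g : G} (hg : g ^ t = 1) {H S : Subgroup G}
    (hgH : g ∈ normalizer (H : Set G)) (hS : IsSylowIn 2 S H) :
    ∃ h ∈ H, (h * g) ^ t = 1 ∧ h * g ∈ normalizer (S : Set G) := by
  haveI := Fact.mk Nat.prime_two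
  haveI := Fact.mk ht
  obtain ⟨m, hm, hconj⟩ := hS.exists_conj (hS.conjBy hgH)
  have hn : m⁻¹ * g ∈ normalizer (S : Set G) := by
    refine conjBy_eq_self_iff.1 ?_
    rw [← conjBy_conjBy, ← hconj, conjBy_conjBy, inv_mul_cancel, conjBy_one]
  have hy : m⁻¹ * g ∈ normalizer (H : Set G) := mul_mem (le_normalizer (inv_mem hm)) hgH
  obtain ⟨k, s, hks, hst⟩ : ∃ k s, orderOf (m⁻¹ * g) = t ^ k * s ∧ s.Coprime t := by
    obtain ⟨k, s, hs, he⟩ := Nat.exists_eq_pow_mul_and_not_dvd (orderOf_pos (m⁻¹ * g)).ne' t ht.ne_one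
    exact ⟨k, s, he, ((Nat.Prime.coprime_iff_not_dvd ht).2 hs).symm⟩
  obtain ⟨e, he1, he2⟩ := Nat.chineseRemainder hst.symm 1 0
  obtain ⟨w, hw, hwe⟩ := CfsgLib.Lie.SuzSquare.mul_pow_eq hgH (inv_mem hm) e
  have hge : g ^ e = g := by
    rcases eq_or_ne g 1 with rfl | hg1
    · rw [one_pow]
    · conv_rhs => rw [← pow_one g]
      rw [pow_eq_pow_iff_modEq, orderOf_eq_prime hg hg1]
      exact he1
  rw [hge] at hwe
  refine ⟨w, hw, hsub.pow_eq_one ht (k := k) ?_, hwe ▸ pow_mem hn e⟩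
  rw [← hwe, ← pow_mul, ← orderOf_dvd_iff_pow_eq_one, hks, mul_comm e]
  exact mul_dvd_mul_left _ (Nat.modEq_zero_iff_dvd.1 he2)

/-- A chief factor in a solvable kernel for a prime divisor. -/
theorem exists_chief {R : Subgroup G} [R.Normal] (hR : Group.IsSolvable R) {p : ℕ} (hp : p.Prime)
    (hd : p ∣ Nat.card R) : ∃ N : Subgroup G, ∃ _ : N.Normal, N ≤ R ∧ ∃ V : Subgroup (G ⧸ N),
      V.Normal ∧ IsMulCommutative V ∧ IsPGroup p V ∧ V ≠ ⊥ ∧ V ≤ R.map (QuotientGroup.mk' N) := by
  haveI := Fact.mk hp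
  obtain ⟨N, ⟨hN, hNR, hNd⟩, hmax⟩ := (wellFounded_gt (α := Subgroup G)).has_min
    {N | N.Normal ∧ N ≤ R ∧ p ∣ N.relIndex R} ⟨⊥, inferInstance, bot_le, by rwa [relIndex_bot_left]⟩
  haveI := hN
  have hcard : ∀ {K : Subgroup G}, N ≤ K → Nat.card (K.map (QuotientGroup.mk' N)) = N.relIndex K := fun {K} hK => by
    rw [← relIndex_bot_left (K.map (QuotientGroup.mk' N)), ← QuotientGroup.map_mk'_self N, relIndex_map_map,
      QuotientGroup.ker_mk', sup_idem, sup_eq_left.2 hK]
  set R' := R.map (QuotientGroup.mk' N)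
  haveI : R'.Normal := (inferInstance : R.Normal).map _ (QuotientGroup.mk'_surjective N)
  haveI : Group.IsSolvable R' := by
    haveI := hR
    exact Group.isSolvable_of_surjective ((QuotientGroup.mk' N).subgroupMap_surjective R)
  have hR' : R' ≠ ⊥ := fun e => hp.not_dvd_one (by
    have := hcard hNR
    rw [show R.map (QuotientGroup.mk' N) = R' from rfl, e, Subgroup.card_bot] at this
    exact this.symm ▸ hNd)
  obtain ⟨V, hV, hV0, hVR, hmin⟩ := exists_minimal_normal_le hR'
  haveI := hV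
  haveI : Group.IsSolvable V := isSolvable_of_le hVR inferInstance
  obtain ⟨hcomm, q, hq, hqV⟩ := minimal_normal_solvable hV0 hmin
  have hVq : IsPGroup q V := fun x => ⟨1, Subtype.ext (by rw [Subgroup.coe_pow, pow_one]; exact hqV x x.2)⟩
  suffices hqp : q = p by
    exact ⟨N, hN, hNR, V, hV, isMulCommutative_iff.2 fun a b => Subtype.ext (hcomm a a.2 b b.2), hqp ▸ hVq, hV0, hVR⟩
  by_contra hne
  set M := V.comap (QuotientGroup.mk' N)
  have hNM : N ≤ M := fun x hx => by
    show QuotientGroup.mk' N x ∈ V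
    rw [QuotientGroup.mk'_apply, (QuotientGroup.eq_one_iff x).2 hx]
    exact one_mem V
  have hMR : M ≤ R := (comap_mono hVR).trans (by
    rw [comap_map_eq, QuotientGroup.ker_mk', sup_eq_left.2 hNR])
  have hVM : M.map (QuotientGroup.mk' N) = V := map_comap_eq_self_of_surjective (QuotientGroup.mk'_surjective N) V
  refine hmax M ⟨hV.comap _, hMR, ?_⟩ (lt_of_le_of_ne hNM fun e => hV0 ?_)
  · haveI := Fact.mk hq
    obtain ⟨k, hk⟩ := hVq.exists_card_eq
    have h1 := hcard hNM
    rw [hVM, hk] at h1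
    have h2 := relIndex_mul_relIndex N M R hNM hMR
    rw [← h1] at h2
    rcases hp.dvd_mul.1 (h2.symm ▸ hNd) with h | h
    · exact absurd ((Nat.prime_dvd_prime_iff_eq hp hq).1 (hp.dvd_of_dvd_pow h)).symm hne
    · exact h
  · rw [← hVM, ← e, QuotientGroup.map_mk'_self]

end Lift

namespace Top

variable {Q : Type u} [Group Q] [Finite Q] (h : Top Q)

include h in
/-- The product of the conjugates of an element of a component over a power. -/
theorem exists_pow_proj {K : Subgroup Q} (hK : Cfsg.IsComponent K) {x g : Q} (hx : x ∈ K)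
    (hcent : ∀ i : ℕ, g ^ i ∈ normalizer (K : Set Q) → g ^ i * x * (g ^ i)⁻¹ = x)
    [DecidablePred fun i : ℕ => g ^ i ∈ normalizer (K : Set Q)] (n : ℕ) :
    ∃ w ∈ Cfsg.layer Q, (x * g) ^ n = w * g ^ n ∧
      LayerProj.proj K w = x ^ Nat.count (fun i => g ^ i ∈ normalizer (K : Set Q)) n := by
  induction n with
  | zero => exact ⟨1, one_mem _, by simp, by simpa using LayerProj.proj_one h.fitting hK⟩
  | succ n ih =>
    obtain ⟨w, hw, he, hpw⟩ := ih
    have hK' : Cfsg.IsComponent (K.map (MulAut.conj (g ^ n)).toMonoidHom) := isComponent_map_equiv _ hK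
    have hy : g ^ n * x * (g ^ n)⁻¹ ∈ K.map (MulAut.conj (g ^ n)).toMonoidHom := ⟨x, hx, rfl⟩
    have hyL := component_le_layer hK' hy
    refine ⟨w * (g ^ n * x * (g ^ n)⁻¹), mul_mem hw hyL, ?_, ?_⟩
    · rw [pow_succ, he, pow_succ g n]
      group
    · rw [LayerProj.proj_mul h.fitting hK hw hyL, hpw, Nat.count_succ]
      by_cases hn : g ^ n ∈ normalizer (K : Set Q)
      · rw [if_pos hn, hcent n hn, LayerProj.proj_self h.fitting hK hx, ← pow_succ]
      · rw [if_neg hn, Nat.add_zero, LayerProj.proj_other h.fitting hK hK'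
          (fun e => hn (conjBy_eq_self_iff.1 e)) hy, mul_one]

include h in
/-- An element of prime order moving a component: the product of a whole orbit. -/
theorem pow_proj {K : Subgroup Q} (hK : Cfsg.IsComponent K) {x g : Q} (hx : x ∈ K) {t : ℕ} (ht : t.Prime)
    (hg : g ^ t = 1) (hmov : g ∉ normalizer (K : Set Q)) :
    (x * g) ^ t ∈ Cfsg.layer Q ∧ LayerProj.proj K ((x * g) ^ t) = x := by
  classical
  have hdiv : ∀ i, g ^ i ∈ normalizer (K : Set Q) → t ∣ i := fun i hi =>
    by_contra fun hn => hmov (conj_mem_normalizer ht hg hn hi)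
  obtain ⟨w, hw, he, hpw⟩ := h.exists_pow_proj hK hx (g := g) (fun i hi => by
    obtain ⟨c, rfl⟩ := hdiv i hi
    rw [pow_mul, hg, one_pow, one_mul, inv_one, mul_one]) t
  rw [he, hg, mul_one]
  refine ⟨hw, ?_⟩
  rw [hpw, Nat.count_eq_card_filter_range, show (Finset.range t).filter (fun i => g ^ i ∈ normalizer (K : Set Q)) =
    {0} from Finset.ext fun i => by
      simp only [Finset.mem_filter, Finset.mem_range, Finset.mem_singleton]
      refine ⟨fun hi => Nat.eq_zero_of_dvd_of_lt (hdiv i hi.2) hi.1, ?_⟩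
      rintro rfl
      exact ⟨ht.pos, by rw [pow_zero]; exact one_mem _⟩, Finset.card_singleton, pow_one]

include h in
/-- A component contains two commuting involutions. -/
theorem exists_four {K : Subgroup Q} (hK : Cfsg.IsComponent K) :
    ∃ x ∈ K, ∃ y ∈ K, x ≠ 1 ∧ y ≠ 1 ∧ x ≠ y ∧ x * x = 1 ∧ y * y = 1 ∧ Commute x y := by
  classical
  haveI := Fact.mk Nat.prime_two
  obtain ⟨S⟩ : Nonempty (Sylow 2 K) := inferInstance
  have hsubK : Sub K := h.sub.of_injective K.subtype K.subtype_injective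
  obtain ⟨z, hz, hzo⟩ := h.exists_ord hK (p := 2) (by decide)
  have hzK : orderOf (⟨z, hz⟩ : K) = 2 := (Subgroup.orderOf_mk z hz).trans hzo
  have hS0 : (S : Subgroup K) ≠ ⊥ := S.ne_bot_of_dvd_card (hzK ▸ orderOf_dvd_natCard _)
  obtain ⟨x, hx, hx1⟩ := (S : Subgroup K).bot_or_exists_ne_one.resolve_left hS0
  obtain ⟨y, hy, hy1, hxy⟩ : ∃ y ∈ (S : Subgroup K), y ≠ 1 ∧ x ≠ y := by
    by_contra hcon
    push Not at hcon
    have htop : (S : Subgroup K) = zpowers x := le_antisymm (fun y hy => by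
      rcases eq_or_ne y 1 with rfl | hy1
      · exact one_mem _
      · exact hcon y hy hy1 ▸ mem_zpowers x) (zpowers_le.2 hx)
    haveI := LayerProj.isSimple h.fitting hK
    obtain ⟨H, hH⟩ := CfsgLib.Invol.exists_index_two_of_cyclic
      (even_iff_two_dvd.2 (hzK ▸ orderOf_dvd_natCard _)) S (htop ▸ inferInstance)
    haveI := Subgroup.normal_of_index_eq_two hH
    rcases IsSimpleGroup.eq_bot_or_eq_top_of_normal H inferInstance with e | e
    · rw [e, index_bot] at hH
      haveI := isCyclic_of_prime_card hH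
      exact LayerProj.not_comm h.fitting hK ⟨⟨fun a b => IsCyclic.commGroup.mul_comm a b⟩⟩
    · rw [e, index_top] at hH
      omega
  have hc := hsubK.two_comm S.2
  exact ⟨x, x.2, y, y.2, fun e => hx1 (Subtype.ext e), fun e => hy1 (Subtype.ext e), fun e => hxy (Subtype.ext e),
    congrArg Subtype.val (by rw [← sq]; exact hsubK.pgroup_pow Nat.prime_two S.2 hx : x * x = 1),
    congrArg Subtype.val (by rw [← sq]; exact hsubK.pgroup_pow Nat.prime_two S.2 hy : y * y = 1),
    congrArg Subtype.val (isMulCommutative_iff.1 hc ⟨x, hx⟩ ⟨y, hy⟩) |> fun e => congrArg Subtype.val e⟩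

end Top

variable {G : Type u} [Group G] [Finite G] {Q : Type u} [Group Q] [Finite Q]

/-- The configuration of a moved small component over a module. -/
theorem false_of_moved (hsub : Sub G) (h : Top Q) (π : G →* Q) (hπ : Function.Surjective π) {t u : ℕ}
    (ht : t ∈ ({7, 11, 19} : Finset ℕ)) (hu : u ∈ ({7, 19} : Finset ℕ)) (htu : t ≠ u) {V : Subgroup G} [V.Normal]
    [IsMulCommutative V] (hV : IsPGroup u V) (hV0 : V ≠ ⊥) {g : G}
    (hg : g ^ t = 1) {K : Subgroup Q} (hK : Cfsg.IsComponent K) (hmov : π g ∉ normalizer (K : Set Q)) : False := by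
  classical
  haveI := Fact.mk Nat.prime_two
  haveI := layer_normal (G := Q)
  have htp : t.Prime := (show ∀ t ∈ ({7, 11, 19} : Finset ℕ), t.Prime by decide) t ht
  have ht7 : 7 ≤ t := (show ∀ t ∈ ({7, 11, 19} : Finset ℕ), 7 ≤ t by decide) t ht
  have hup : u.Prime := (show ∀ u ∈ ({7, 19} : Finset ℕ), u.Prime by decide) u hu
  have hno2 : ¬ Ok (2 * t * u) := not_ok ((show ∀ t ∈ ({7, 11, 19} : Finset ℕ), ∀ u ∈ ({7, 19} : Finset ℕ),
    t ≠ u → ∀ m ∈ maxOrders, ¬ 2 * t * u ∣ m by unfold maxOrders; decide +kernel) t ht u hu htu)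
  have hno30 : ¬ Ok (30 * u) := not_ok ((show ∀ u ∈ ({7, 19} : Finset ℕ), ∀ m ∈ maxOrders, ¬ 30 * u ∣ m by
    unfold maxOrders; decide +kernel) u hu)
  set c : ℕ → Subgroup Q := fun i => K.map (MulAut.conj (π g ^ i)).toMonoidHom with hc_def
  have hc : ∀ i, Cfsg.IsComponent (c i) := fun i => isComponent_map_equiv _ hK
  set D : Subgroup Q := ⨆ i, c i with hD
  have hDL : D ≤ Cfsg.layer Q := iSup_le fun i => component_le_layer (hc i)
  have hKD : K ≤ D := fun z hz => mem_iSup_of_mem 0 ⟨z, hz, by simp⟩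
  set H := D.comap π with hH
  have hgD : π g ∈ normalizer (D : Set Q) := by
    refine conjBy_eq_self_iff.1 (eq_of_le_of_card_ge ?_ (card_conjBy _ _).ge)
    show D.map (MulAut.conj (π g)).toMonoidHom ≤ D
    rw [hD, Subgroup.map_iSup]
    refine iSup_le fun i => le_trans (le_of_eq ?_) (le_iSup c (i + 1))
    show conjBy (π g) (conjBy (π g ^ i) K) = conjBy (π g ^ (i + 1)) K
    rw [conjBy_conjBy, ← pow_succ']
  have hgH : g ∈ normalizer (H : Set G) := mem_normalizer_iff.2 fun w => by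
    show π w ∈ D ↔ π (g * w * g⁻¹) ∈ D
    rw [map_mul, map_mul, map_inv]
    exact mem_normalizer_iff.1 hgD (π w)
  -- lifts of a four group inside a Sylow subgroup
  obtain ⟨x, hxK, y, hyK, hx1, hy1, hxy, hx2, hy2, hcxy⟩ := h.exists_four hK
  set F : Subgroup Q := Subgroup.closure {x, y} with hF
  haveI hFc : IsMulCommutative F := Subgroup.isMulCommutative_closure (by
    rintro _ (rfl | rfl) _ (rfl | rfl)
    exacts [rfl, hcxy.eq, hcxy.symm.eq, rfl])
  have hxF : x ∈ F := Subgroup.subset_closure (Or.inl rfl)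
  have hyF : y ∈ F := Subgroup.subset_closure (Or.inr rfl)
  have hF2 : IsPGroup 2 F := fun z => ⟨1, Subtype.ext (by
    show (z : Q) ^ 2 ^ 1 = 1
    rw [pow_one]
    suffices ∀ w ∈ F, w ^ 2 = 1 from this z z.2
    intro w hw
    refine Subgroup.closure_induction (p := fun w _ => w ^ 2 = 1) ?_ (one_pow 2) ?_ ?_ hw
    · rintro w (rfl | rfl)
      · rw [sq, hx2]
      · rw [sq, hy2]
    · intro a b ha hb h1 h2
      have hab : Commute a b := congrArg Subtype.val (isMulCommutative_iff.1 hFc ⟨a, ha⟩ ⟨b, hb⟩)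
      rw [hab.mul_pow, h1, h2, one_mul]
    · intro a _ h1
      rw [inv_pow, h1, inv_one])⟩
  obtain ⟨T₀⟩ : Nonempty (Sylow 2 (F.comap π)) := inferInstance
  have hlift : ∀ z ∈ F, ∃ s ∈ (T₀ : Subgroup (F.comap π)).map (F.comap π).subtype, π s = z := by
    let ψ : F.comap π →* F := π.subgroupComap F
    have hψ : Function.Surjective ψ := π.subgroupComap_surjective_of_surjective F hπ
    have h1 : ((T₀.mapSurjective hψ : Sylow 2 F) : Subgroup F) = ⊤ :=
      (T₀.mapSurjective hψ).3 (hF2.of_equiv Subgroup.topEquiv.symm) le_top ▸ rfl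
    intro z hz
    rw [Sylow.coe_mapSurjective] at h1
    obtain ⟨s, hs, e⟩ : (⟨z, hz⟩ : F) ∈ (T₀ : Subgroup (F.comap π)).map ψ := h1.symm ▸ mem_top _
    exact ⟨s, mem_map_of_mem _ hs, congrArg Subtype.val e⟩
  have hFD : F ≤ D := (Subgroup.closure_le _).2 (by rintro _ (rfl | rfl); exacts [hKD hxK, hKD hyK])
  obtain ⟨S₀, hS₀⟩ := ((T₀.2.map (F.comap π).subtype).comap_of_injective H.subtype H.subtype_injective).exists_le_sylow
  have hSH := isSylowIn_map S₀
  set S := (S₀ : Subgroup H).map H.subtype with hS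
  have hTS : ∀ z ∈ F, ∃ s ∈ S, π s = z := fun z hz => by
    obtain ⟨s, hs, e⟩ := hlift z hz
    exact ⟨s, ⟨⟨s, show π s ∈ D from e ▸ hFD hz⟩, hS₀ hs, rfl⟩, e⟩
  have hS2 : IsPGroup 2 S := hSH.isPGroup
  haveI hSc : IsMulCommutative S := hsub.two_comm hS2
  have hScomm : ∀ a ∈ S, ∀ b ∈ S, Commute a b := fun a ha b hb =>
    congrArg Subtype.val (isMulCommutative_iff.1 hSc ⟨a, ha⟩ ⟨b, hb⟩)
  obtain ⟨h₁, hh₁, hg', hgS⟩ := exists_normalizing_lift hsub htp hg hgH hSH
  set g' := h₁ * g with hg'def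
  have hDn : D ≤ normalizer (K : Set Q) := hDL.trans (layer_le_normalizer_component hK)
  have hmov' : π g' ∉ normalizer (K : Set Q) := fun hn => hmov (by
    rw [show π g = (π h₁)⁻¹ * π g' by rw [hg'def, map_mul, inv_mul_cancel_left]]
    exact mul_mem (inv_mem (hDn hh₁)) hn)
  have hg'Q : π g' ^ t = 1 := by rw [← map_pow, hg', map_one]
  -- the orbit products
  have horb : ∀ z ∈ K, z ∈ F → z ≠ 1 → ∃ w ∈ S ⊓ centralizer ({g'} : Set G), π w ∈ Cfsg.layer Q ∧
      LayerProj.proj K (π w) = z := by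
    intro z hz hzF hz1
    obtain ⟨s, hs, rfl⟩ := hTS z hzF
    obtain ⟨w, hw, he⟩ := CfsgLib.Lie.SuzSquare.mul_pow_eq hgS hs t
    rw [hg', mul_one] at he
    obtain ⟨h1, h2⟩ := h.pow_proj hK hz htp hg'Q hmov'
    have he' : π w = (π s * π g') ^ t := by rw [← map_mul, ← map_pow, he]
    refine ⟨w, mem_inf.2 ⟨hw, mem_centralizer_singleton_iff.2 ?_⟩, he' ▸ h1, he' ▸ h2⟩
    have c1 : Commute w (s * g') := he ▸ (Commute.refl _).pow_left t
    have c2 := (hScomm w hw s hs).inv_right.mul_right c1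
    rw [inv_mul_cancel_left] at c2
    exact c2.eq
  obtain ⟨wx, hwx, -, hwxp⟩ := horb x hxK hxF hx1
  obtain ⟨wy, hwy, -, hwyp⟩ := horb y hyK hyF hy1
  have hE : ¬ IsCyclic ↥(S ⊓ centralizer ({g'} : Set G)) := by
    intro hcyc
    set E := S ⊓ centralizer ({g'} : Set G)
    haveI := Fintype.ofFinite ↥E
    have hcard := IsCyclic.card_pow_eq_one_le (α := ↥E) (n := 2) (by norm_num)
    have hne : ∀ {w : G}, ∀ {z : Q}, LayerProj.proj K (π w) = z → z ≠ 1 → w ≠ 1 := fun {w z} hp hz e => hz (by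
      rw [← hp, e, map_one]; exact LayerProj.proj_one h.fitting hK)
    let a : ↥E := ⟨wx, hwx⟩
    let b : ↥E := ⟨wy, hwy⟩
    have h3 := Finset.card_le_card (show ({1, a, b} : Finset ↥E) ⊆ Finset.univ.filter fun w : ↥E => w ^ 2 = 1 from
      fun w _ => Finset.mem_filter.2 ⟨Finset.mem_univ w, Subtype.ext (hsub.pgroup_pow Nat.prime_two hS2 w.2.1)⟩)
    have hab : a ≠ b := fun e => hxy (by
      rw [← hwxp, ← hwyp]; exact congrArg (fun w : ↥E => LayerProj.proj K (π w.1)) e)
    rw [Finset.card_eq_three.2 ⟨1, a, b, fun e => hne hwxp hx1 (congrArg Subtype.val e).symm,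
      fun e => hne hwyp hy1 (congrArg Subtype.val e).symm, hab, rfl⟩] at h3
    exact absurd (h3.trans hcard) (by norm_num)
  haveI : (centralizer (V : Set G)).Normal := inferInstance
  by_cases hle : ⁅S, zpowers g'⁆ ≤ centralizer (V : Set G)
  · -- the centralizer of the module covers the orbit
    set N := (centralizer (V : Set G)).map π with hN
    haveI hNn : N.Normal := (inferInstance : (centralizer (V : Set G)).Normal).map π hπ
    obtain ⟨s, hs, hsx⟩ := hTS x hxF
    have hz : π ⁅s, g'⁆ ∈ N := mem_map_of_mem π (hle (commutator_mem_commutator hs (mem_zpowers g')))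
    have hK' : Cfsg.IsComponent (K.map (MulAut.conj (π g')).toMonoidHom) := isComponent_map_equiv _ hK
    have hy' : π g' * x⁻¹ * (π g')⁻¹ ∈ K.map (MulAut.conj (π g')).toMonoidHom := ⟨x⁻¹, inv_mem hxK, rfl⟩
    have hze : π ⁅s, g'⁆ = x * (π g' * x⁻¹ * (π g')⁻¹) := by
      rw [map_commutatorElement, hsx, commutatorElement_def]; group
    have hKN : K ≤ N := by
      haveI := LayerProj.isSimple h.fitting hK
      obtain ⟨k, hk⟩ : ∃ k : K, ⟨x, hxK⟩ * k ≠ k * ⟨x, hxK⟩ := by
        by_contra hcon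
        push Not at hcon
        have : (⟨x, hxK⟩ : K) ∈ center K := mem_center_iff.2 fun a => (hcon a).symm
        rw [LayerProj.center_bot h.fitting hK, mem_bot] at this
        exact hx1 (congrArg Subtype.val this)
      have hcm : Commute (π g' * x⁻¹ * (π g')⁻¹) (k : Q) :=
        h.commute hK' hK (fun e => hmov' (conjBy_eq_self_iff.1 e)) hy' k.2
      have h1 : x * k * x⁻¹ * (k : Q)⁻¹ ∈ N := by
        have h2 : π ⁅s, g'⁆ * ((k : Q) * (π ⁅s, g'⁆)⁻¹ * (k : Q)⁻¹) ∈ N :=
          mul_mem hz (hNn.conj_mem _ (inv_mem hz) k)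
        rw [hze] at h2
        set y' := π g' * x⁻¹ * (π g')⁻¹
        have e : x * y' * ((k : Q) * (x * y')⁻¹ * (k : Q)⁻¹) = x * k * x⁻¹ * (k : Q)⁻¹ := by
          rw [show x * y' * ((k : Q) * (x * y')⁻¹ * (k : Q)⁻¹) = x * (y' * k * y'⁻¹) * x⁻¹ * (k : Q)⁻¹ by group,
            hcm.eq, mul_inv_cancel_right]
        rwa [e] at h2
      haveI : (N.subgroupOf K).Normal := hNn.subgroupOf K
      have htop : N.subgroupOf K = ⊤ := by
        refine (IsSimpleGroup.eq_bot_or_eq_top_of_normal _ inferInstance).resolve_left fun e => hk ?_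
        have h3 : (⟨x, hxK⟩ * k * ⟨x, hxK⟩⁻¹ * k⁻¹ : K) ∈ N.subgroupOf K := h1
        rw [e, mem_bot, mul_inv_eq_one, mul_inv_eq_iff_eq_mul] at h3
        exact h3
      exact subgroupOf_eq_top.1 htop
    have hcN : ∀ i, c i ≤ N := fun i => by
      rintro _ ⟨z, hz', rfl⟩
      exact hNn.conj_mem z (hKN hz') _
    obtain ⟨a, ha, hao⟩ := h.exists_ord (hc 0) (p := 2) (by decide)
    obtain ⟨b, hb, hbo⟩ := h.exists_ord (hc 1) (p := 3) (by decide)
    obtain ⟨d, hd, hdo⟩ := h.exists_ord (hc 2) (p := 5) (by decide)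
    have hne : ∀ i j, i < j → j < 3 → c i ≠ c j := by
      intro i j hij hj3 e
      refine hmov (conj_mem_normalizer htp (by rw [← map_pow, hg, map_one])
        (Nat.not_dvd_of_pos_of_lt (show 0 < j - i by omega) (by omega)) (conjBy_eq_self_iff.1 ?_))
      refine Subgroup.map_injective (f := (MulAut.conj (π g ^ i)).toMonoidHom) (MulAut.conj (π g ^ i)).injective ?_
      show conjBy (π g ^ i) (conjBy (π g ^ (j - i)) K) = conjBy (π g ^ i) K
      rw [conjBy_conjBy, ← pow_add, Nat.add_sub_cancel' hij.le]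
      exact e.symm
    have hord : orderOf (a * b * d) = 30 := by
      have cab := h.commute (hc 0) (hc 1) (hne 0 1 (by omega) (by omega)) ha hb
      have cad := h.commute (hc 0) (hc 2) (hne 0 2 (by omega) (by omega)) ha hd
      have cbd := h.commute (hc 1) (hc 2) (hne 1 2 (by omega) (by omega)) hb hd
      have e6 : orderOf (a * b) = 6 := by
        rw [cab.orderOf_mul_eq_mul_orderOf_of_coprime (by rw [hao, hbo]; norm_num), hao, hbo]
      rw [(cad.mul_left cbd).orderOf_mul_eq_mul_orderOf_of_coprime (by rw [e6, hdo]; norm_num), e6, hdo]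
    obtain ⟨z, hzC, hzπ⟩ : a * b * d ∈ N := mul_mem (mul_mem (hcN 0 ha) (hcN 1 hb)) (hcN 2 hd)
    obtain ⟨e, -, heo⟩ := exists_lift_pow hsub (π.comp (centralizer (V : Set G)).subtype) (x := ⟨z, hzC⟩) (k := 30)
      (by show orderOf (π z) = 30; rw [hzπ, hord])
    obtain ⟨v, hv, hv1⟩ := V.bot_or_exists_ne_one.resolve_left hV0
    have h30 := hsub.ok_mul (x := ((⟨z, hzC⟩ ^ e : centralizer (V : Set G)) : G)) (y := v)
      (mem_centralizer_iff.1 (SetLike.coe_mem _) v hv).symm
      (by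
        rw [heo, hsub.orderOf_eq hup hV hv hv1]
        exact (show ∀ u ∈ ({7, 19} : Finset ℕ), Nat.Coprime 30 u by decide) u hu)
    rw [heo, hsub.orderOf_eq hup hV hv hv1] at h30
    exact hno30 h30
  · obtain ⟨e, v, -, heo, hv, hv1, hge, hgv, hev⟩ := key htp (by omega) hg'
      (fun s hs => by rw [← sq]; exact hsub.pgroup_pow Nat.prime_two hS2 hs)
      (by
        haveI := Fact.mk hup
        obtain ⟨k, hk⟩ := hV.exists_card_eq
        rw [hk]
        exact ((show ∀ u ∈ ({7, 19} : Finset ℕ), Odd u by decide) u hu).pow)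
      hV0 (le_top.trans (normalizer_eq_top_iff.2 ‹V.Normal›).ge)
      (normalizer_eq_top_iff.2 ‹V.Normal› ▸ mem_top g') hgS hE (Or.inr hle)
    have hg1 : g' ≠ 1 := fun e1 => hmov' (by rw [e1, map_one]; exact one_mem _)
    haveI := Fact.mk htp
    have hgo : orderOf g' = t := orderOf_eq_prime hg' hg1
    have hvo := hsub.orderOf_eq hup hV hv hv1
    have h2 := hsub.ok_mul_three hge.symm hev hgv
      (by rw [heo, hgo]; exact (Nat.coprime_primes Nat.prime_two htp).2 (by omega))
      (by rw [heo, hvo]; exact (Nat.coprime_primes Nat.prime_two hup).2 fun e2 => by subst e2; simp at hu)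
      (by rw [hgo, hvo]; exact (Nat.coprime_primes htp hup).2 htu)
    rw [heo, hgo, hvo] at h2
    exact hno2 h2

end CfsgLib.Spor.JOneSquare
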