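import Cfsg.Agent.Lib.Spor.JOneSquare.Zero
import Cfsg.Agent.Lib.Spor.JOneSquare.Kernel

/-!
# One copy of `J₁`

Above the radical one copy of `J₁` is impossible, with or without further small components: a big prime not
dividing the radical has a cyclic Sylow subgroup whose centralizer is too big, and three of them in the radical
give three in the centralizer of an involution.
-/

set_option autoImplicit false
set_option linter.style.haveILetI false
set_option linter.unusedSectionVars false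

namespace CfsgLib.Spor.JOneSquare

open Subgroup CfsgLib.Coprime

universe u

variable {G : Type u} [Group G] [Finite G] {Q : Type u} [Group Q] [Finite Q]

theorem four_dvd_of_pair {T : Type u} [Group T] [Finite T] {x y : T} (hx1 : x ≠ 1) (hy1 : y ≠ 1) (hxy : x ≠ y)
    (hx : x * x = 1) (hy : y * y = 1) (hc : Commute x y) : 4 ∣ Nat.card T := by
  haveI := Fact.mk Nat.prime_two
  let φ : zpowers x × zpowers y →* T := (zpowers x).subtype.noncommCoprod (zpowers y).subtype fun a b => by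
    obtain ⟨i, hi⟩ := mem_zpowers_iff.1 a.2
    obtain ⟨j, hj⟩ := mem_zpowers_iff.1 b.2
    show Commute (a : T) (b : T)
    rw [← hi, ← hj]
    exact hc.zpow_zpow i j
  have hox : orderOf x = 2 := orderOf_eq_prime (by rw [sq, hx]) hx1
  have hoy : orderOf y = 2 := orderOf_eq_prime (by rw [sq, hy]) hy1
  have hmem : ∀ {z : T}, orderOf z = 2 → ∀ a ∈ zpowers z, a = 1 ∨ a = z := by
    intro z hz a ha
    obtain ⟨i, rfl⟩ := mem_zpowers_iff.1 ha
    rw [← zpow_mod_orderOf, hz]
    rcases Int.emod_two_eq i with e | e <;> simp [e]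
  have hinj : Function.Injective φ := (injective_iff_map_eq_one φ).2 fun a ha => by
    have h : (a.1 : T) * (a.2 : T) = 1 := ha
    have ha2 : (a.2 : T) = 1 := by
      rcases hmem hoy _ a.2.2 with e | e
      · exact e
      · rcases hmem hox _ a.1.2 with e' | e'
        · rw [e', e, one_mul] at h
          exact absurd h hy1
        · rw [e', e] at h
          exact absurd (mul_left_cancel (hx.trans h.symm) : x = y) hxy
    rw [ha2, mul_one] at h
    exact Prod.ext (Subtype.ext h) (Subtype.ext ha2)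
  have h2 := Subgroup.card_dvd_of_injective φ hinj
  rwa [Nat.card_prod, Nat.card_zpowers, Nat.card_zpowers, hox, hoy] at h2

theorem IsJ.card {T : Type u} [Group T] (h : IsJ T) : Nat.card T = 175560 := by
  obtain ⟨e⟩ := h
  rw [Nat.card_congr e.toEquiv, CfsgLib.Char.J1.card_eq]

/-- In `J₁` no element of order `7`, `11` or `19` commutes with one of another order in `{5, 7, 11, 19}`. -/
theorem IsJ.not_commute {T : Type u} [Group T] (h : IsJ T) {p q : ℕ} (hp : p ∈ ({7, 11, 19} : Finset ℕ))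
    (hq : q ∈ ({5, 7, 11, 19} : Finset ℕ)) (hpq : p ≠ q) {a b : T} (ha : orderOf a = p) (hb : orderOf b = q) :
    ¬ Commute a b := fun hc => by
  obtain ⟨m, hm, hd⟩ := h.orders (a * b)
  rw [hc.orderOf_mul_eq_mul_orderOf_of_coprime (by
    rw [ha, hb]
    exact (show ∀ p ∈ ({7, 11, 19} : Finset ℕ), ∀ q ∈ ({5, 7, 11, 19} : Finset ℕ), p ≠ q → p.Coprime q by decide)
      p hp q hq hpq), ha, hb] at hd
  exact (show ∀ p ∈ ({7, 11, 19} : Finset ℕ), ∀ q ∈ ({5, 7, 11, 19} : Finset ℕ), p ≠ q →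
    ∀ m ∈ ({6, 10, 15, 7, 11, 19} : Finset ℕ), ¬ p * q ∣ m by decide +kernel) p hp q hq hpq m hm hd

/-- Over a quotient `J₁` every big prime divides the radical. -/
theorem dvd_ker_of_single (hsub : Sub G) (π : G →* Q) (hπ : Function.Surjective π)
    (hR : Group.IsSolvable π.ker) (hQ : IsJ Q)
    (hedge : ∀ p ∈ ({5, 7, 11, 19} : Finset ℕ), ∀ q ∈ ({5, 7, 11, 19} : Finset ℕ), p ≠ q →
      ∃ g : G, orderOf g = p * q)
    {u : ℕ} (hu : u ∈ ({7, 11, 19} : Finset ℕ)) : u ∣ Nat.card π.ker := by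
  by_contra huR
  have hup : u.Prime := (show ∀ u ∈ ({7, 11, 19} : Finset ℕ), u.Prime by decide) u hu
  have hu5 : u ∈ ({5, 7, 11, 19} : Finset ℕ) :=
    (show ∀ u ∈ ({7, 11, 19} : Finset ℕ), u ∈ ({5, 7, 11, 19} : Finset ℕ) by decide) u hu
  have hpr : ∀ {s : ℕ}, s ∈ ({5, 7, 11, 19} : Finset ℕ) → s.Prime := fun {s} hs =>
    (show ∀ s ∈ ({5, 7, 11, 19} : Finset ℕ), s.Prime by decide) s hs
  haveI := Fact.mk hup
  have hGu : ¬ u * u ∣ Nat.card G := fun hd => by
    have hidx : π.ker.index = 175560 := by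
      rw [Subgroup.index_ker, MonoidHom.range_eq_top.2 hπ, Subgroup.card_top, hQ.card]
    rw [← Subgroup.card_mul_index π.ker, hidx] at hd
    have h2 : u * u ∣ 175560 :=
      (Nat.Coprime.mul_left ((Nat.Prime.coprime_iff_not_dvd hup).2 huR)
        ((Nat.Prime.coprime_iff_not_dvd hup).2 huR)).dvd_of_dvd_mul_left hd
    exact (show ∀ u ∈ ({7, 11, 19} : Finset ℕ), ¬ u * u ∣ 175560 by decide) u hu h2
  obtain ⟨y, hy⟩ := exists_prime_orderOf_dvd_card' (G := G) u (by
    obtain ⟨s, hs, hne⟩ : ∃ s ∈ ({5, 7, 11, 19} : Finset ℕ), u ≠ s :=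
      (show ∀ u ∈ ({7, 11, 19} : Finset ℕ), ∃ s ∈ ({5, 7, 11, 19} : Finset ℕ), u ≠ s by decide) u hu
    obtain ⟨g, hg⟩ := hedge u hu5 s hs hne
    exact (dvd_mul_right u s).trans (hg ▸ orderOf_dvd_natCard g))
  have hyk : π y ≠ 1 := fun e => huR (hy ▸ orderOf_dvd_natCard _ (MonoidHom.mem_ker.2 e))
  have hyπ : orderOf (π y) = u := orderOf_eq_prime (by rw [← map_pow, ← hy, pow_orderOf_eq_one, map_one]) hyk
  have hSylow : ∀ (S : Sylow u G) (z : G), orderOf z = u → z ∈ (S : Subgroup G) → (S : Subgroup G) = zpowers z := by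
    intro S z hz hzS
    refine (eq_of_le_of_card_ge (zpowers_le.2 hzS) ?_).symm
    rw [Nat.card_zpowers, hz]
    obtain ⟨k, hk⟩ := S.2.exists_card_eq
    rw [hk]
    rcases Nat.lt_or_ge k 2 with h | h
    · interval_cases k
      · rw [pow_zero]; exact hup.pos
      · rw [pow_one]
    · exact absurd ((sq u ▸ pow_dvd_pow u h).trans (hk ▸ card_subgroup_dvd_card _)) hGu
  have hC : ∀ s ∈ ({5, 7, 11, 19} : Finset ℕ), u ≠ s →
      s ∣ Nat.card (π.ker ⊓ centralizer ({y} : Set G) : Subgroup G) := by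
    intro s hs hne
    obtain ⟨g, hg⟩ := hedge u hu5 s hs hne
    have hgu : orderOf (g ^ s) = u := by
      rw [orderOf_pow_of_dvd (hpr hs).ne_zero (hg ▸ dvd_mul_left s u), hg, Nat.mul_div_cancel _ (hpr hs).pos]
    have hgs : orderOf (g ^ u) = s := by
      rw [orderOf_pow_of_dvd hup.ne_zero (hg ▸ dvd_mul_right u s), hg, Nat.mul_div_cancel_left _ hup.pos]
    obtain ⟨Sy, hSy⟩ := (IsPGroup.of_card (G := zpowers y) (n := 1) (by rw [Nat.card_zpowers, hy, pow_one])).exists_le_sylow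
    obtain ⟨Sg, hSg⟩ := (IsPGroup.of_card (G := zpowers (g ^ s)) (n := 1)
      (by rw [Nat.card_zpowers, hgu, pow_one])).exists_le_sylow
    obtain ⟨h, hh⟩ := MulAction.exists_smul_eq G Sg Sy
    have hyg : y ∈ conjBy h (zpowers (g ^ s)) := by
      rw [← hSylow Sg _ hgu (hSg (mem_zpowers _)),
        show conjBy h (Sg : Subgroup G) = ((h • Sg : Sylow u G) : Subgroup G) from rfl, hh]
      exact hSy (mem_zpowers y)
    set c := MulAut.conj h (g ^ u) with hc
    have hco : orderOf c = s := by rw [hc, MulEquiv.orderOf_eq, hgs]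
    have hcy : Commute c y := by
      obtain ⟨w, hw, rfl⟩ := hyg
      obtain ⟨z, rfl⟩ := mem_zpowers_iff.1 hw
      exact (((Commute.refl g).pow_pow u s).zpow_right z).map (MulAut.conj h).toMonoidHom
    have hcR : c ∈ π.ker := by
      rw [MonoidHom.mem_ker]
      by_contra hne'
      haveI := Fact.mk (hpr hs)
      exact hQ.not_commute hu hs hne hyπ
        (orderOf_eq_prime (by rw [← map_pow, ← hco, pow_orderOf_eq_one, map_one]) hne') (hcy.symm.map π)
    rw [← hco]
    exact orderOf_dvd_natCard _ (mem_inf.2 ⟨hcR, mem_centralizer_singleton_iff.2 hcy.eq⟩)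
  obtain ⟨a, b, c, hs⟩ : ∃ a b c : ℕ, ∀ i : Fin 3, (![a, b, c] i ∈ ({5, 7, 11, 19} : Finset ℕ) ∧ u ≠ ![a, b, c] i) ∧
      ∀ j : Fin 3, ![a, b, c] i = ![a, b, c] j → i = j := by
    simp only [Finset.mem_insert, Finset.mem_singleton] at hu
    rcases hu with rfl | rfl | rfl
    exacts [⟨5, 11, 19, by decide⟩, ⟨5, 7, 19, by decide⟩, ⟨5, 7, 11, by decide⟩]
  set e := ![a, b, c]
  refine false_of_three (L := π.ker ⊓ centralizer ({y} : Set G)) (isSolvable_of_le inf_le_left hR) e
    (fun i => hpr (hs i).1.1) (fun i j h => (hs i).2 j h) (fun i => hC _ (hs i).1.1 (hs i).1.2)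
    fun i j hij x hx z hz hxo hzo hc => ?_
  have hne : e i ≠ e j := fun h => hij ((hs i).2 j h)
  have h3 := hsub.ok_mul_three (mem_centralizer_singleton_iff.1 hx.2 : Commute x y).symm
    (mem_centralizer_singleton_iff.1 hz.2 : Commute z y).symm hc
    (by rw [hy, hxo]; exact (Nat.coprime_primes hup (hpr (hs i).1.1)).2 (hs i).1.2)
    (by rw [hy, hzo]; exact (Nat.coprime_primes hup (hpr (hs j).1.1)).2 (hs j).1.2)
    (by rw [hxo, hzo]; exact (Nat.coprime_primes (hpr (hs i).1.1) (hpr (hs j).1.1)).2 hne)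
  rw [hy, hxo, hzo] at h3
  have hno : ∀ p ∈ ({5, 7, 11, 19} : Finset ℕ), ∀ q ∈ ({5, 7, 11, 19} : Finset ℕ),
      ∀ r ∈ ({5, 7, 11, 19} : Finset ℕ), p ≠ q → q ≠ r → p ≠ r → ∀ m ∈ maxOrders, ¬ p * q * r ∣ m := by
    unfold maxOrders; decide +kernel
  exact not_ok (hno u hu5 _ (hs i).1.1 _ (hs j).1.1 (hs i).1.2 hne (hs j).1.2) h3

/-- There is not exactly one copy of `J₁`. -/
theorem false_of_one (hsub : Sub G) (h : Top Q) (π : G →* Q) (hπ : Function.Surjective π)
    (hR : Group.IsSolvable π.ker)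
    (hedge : ∀ p ∈ ({5, 7, 11, 19} : Finset ℕ), ∀ q ∈ ({5, 7, 11, 19} : Finset ℕ), p ≠ q →
      ∃ g : G, orderOf g = p * q)
    {J : Subgroup Q} (hJ : Cfsg.IsComponent J) (hj : IsJ J)
    (hsmall : ∀ K : Subgroup Q, Cfsg.IsComponent K → K ≠ J → Small K) : False := by
  classical
  have htop := h.layer_eq_top hJ hj
  have hlay : ∀ z : Q, z ∈ Cfsg.layer Q := fun z => htop ▸ mem_top z
  haveI := LayerProj.isSimple h.fitting hJ
  have hnaJ := LayerProj.not_comm h.fitting hJ
  by_cases hL : ∃ L, Cfsg.IsComponent L ∧ L ≠ J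
  swap
  · push Not at hL
    have hJtop : J = ⊤ := top_le_iff.1 (htop ▸ sSup_le fun K hK => (hL K hK).le)
    have hQ : IsJ Q := by
      obtain ⟨e⟩ := hj
      exact ⟨(Subgroup.topEquiv.symm.trans (MulEquiv.subgroupCongr hJtop.symm)).trans e⟩
    have hd := fun {u : ℕ} (hu : u ∈ ({7, 11, 19} : Finset ℕ)) => dvd_ker_of_single hsub π hπ hR hQ hedge hu
    exact false_of_three_kernel π J.subtype hsub hπ hR hnaJ J.subtype_injective (by rw [hj.card]; norm_num)
      (hd (by decide)) (hd (by decide)) (Or.inl (hd (by decide)))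
  obtain ⟨L, hLc, hLJ⟩ := hL
  haveI := LayerProj.isSimple h.fitting hLc
  have hnaL := LayerProj.not_comm h.fitting hLc
  obtain ⟨x, hx, y, hy, hx1, hy1, hxy, hx2, hy2, hcxy⟩ := h.exists_four hLc
  have h4 : 4 ∣ Nat.card L := four_dvd_of_pair (x := (⟨x, hx⟩ : L)) (y := ⟨y, hy⟩)
    (fun e => hx1 (congrArg Subtype.val e)) (fun e => hy1 (congrArg Subtype.val e))
    (fun e => hxy (congrArg Subtype.val e)) (Subtype.ext hx2) (Subtype.ext hy2) (Subtype.ext hcxy.eq)
  -- the projection to `J`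
  let ρ : Q →* J :=
    { toFun := fun z => ⟨LayerProj.proj J z, LayerProj.proj_mem J z⟩
      map_one' := Subtype.ext (LayerProj.proj_one h.fitting hJ)
      map_mul' := fun a b => Subtype.ext (LayerProj.proj_mul h.fitting hJ (hlay a) (hlay b)) }
  have hρ : ∀ {p : ℕ}, p = 7 ∨ p = 19 → ∀ z : Q, z ^ p = 1 → ρ z = 1 → z = 1 := by
    intro p hp z hz hρz
    refine LayerProj.eq_one_of_proj h.fitting (hlay z) fun K hK => ?_
    rcases eq_or_ne K J with rfl | hne
    · exact congrArg Subtype.val hρz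
    refine orderOf_eq_one_iff.1 ?_
    have h1 := (hsmall K hK hne).orders ⟨_, LayerProj.proj_mem K z⟩
    rw [Subgroup.orderOf_mk] at h1
    have h2 := (h.proj_orderOf hK (hlay z)).trans (orderOf_dvd_of_pow_eq_one hz)
    rcases (Nat.dvd_prime (by rcases hp with rfl | rfl <;> norm_num)).1 h2 with e | e
    · exact e
    · rw [e] at h1
      rcases hp with rfl | rfl <;> exact absurd h1 (by decide)
  have hρo : ∀ {p : ℕ}, p = 7 ∨ p = 19 → ∀ z : Q, orderOf z = p → orderOf (ρ z) = p := by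
    intro p hp z hz
    haveI : Fact p.Prime := ⟨by rcases hp with rfl | rfl <;> norm_num⟩
    refine orderOf_eq_prime (by rw [← map_pow, ← hz, pow_orderOf_eq_one, map_one]) fun e => ?_
    have := hρ hp z (hz ▸ pow_orderOf_eq_one z) e
    rw [this, orderOf_one] at hz
    exact (Fact.out : p.Prime).ne_one hz.symm
  have key : ∀ {p q : ℕ}, p = 7 ∧ q = 19 ∨ p = 19 ∧ q = 7 → ¬ p ∣ Nat.card π.ker → False := by
    intro p q hpq hpR
    have hp : p = 7 ∨ p = 19 := hpq.imp And.left And.left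
    have hq : q = 7 ∨ q = 19 := hpq.elim (fun e => Or.inr e.2) fun e => Or.inl e.2
    haveI : Fact p.Prime := ⟨by rcases hp with rfl | rfl <;> norm_num⟩
    have hQp : ¬ p * p ∣ Nat.card Q := by
      intro hd
      have hkp : ¬ p ∣ Nat.card ρ.ker := fun hk => by
        obtain ⟨z, hz⟩ := exists_prime_orderOf_dvd_card' (G := ρ.ker) p hk
        have h1 := hρ hp (z : Q) (by rw [← hz, ← Subgroup.orderOf_coe, pow_orderOf_eq_one]) z.2
        rw [← Subgroup.orderOf_coe, h1, orderOf_one] at hz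
        exact (Fact.out : p.Prime).ne_one hz.symm
      rw [← Subgroup.card_mul_index ρ.ker, Subgroup.index_ker] at hd
      have h2 : p * p ∣ 175560 := hj.card ▸ ((Nat.Coprime.mul_left ((Nat.Prime.coprime_iff_not_dvd Fact.out).2 hkp)
        ((Nat.Prime.coprime_iff_not_dvd Fact.out).2 hkp)).dvd_of_dvd_mul_left hd).trans (card_subgroup_dvd_card _)
      rcases hp with rfl | rfl <;> norm_num at h2
    obtain ⟨y0, hy0⟩ := hj.exists_orderOf (p := p) (by rcases hp with rfl | rfl <;> decide)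
    refine false_of_centralizer π L.subtype hsub hπ hR hnaL L.subtype_injective h4 hpq hpR hQp
      (fun a b ha hb hc => ?_)
      (hedge p (by rcases hp with rfl | rfl <;> decide) q (by rcases hq with rfl | rfl <;> decide)
        (by rcases hpq with ⟨rfl, rfl⟩ | ⟨rfl, rfl⟩ <;> decide))
      (y0 := (y0 : Q)) (by rw [Subgroup.orderOf_coe, hy0]) fun z => h.commute hJ hLc hLJ.symm y0.2 z.2
    exact hj.not_commute (by rcases hp with rfl | rfl <;> decide) (by rcases hq with rfl | rfl <;> decide)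
      (by rcases hpq with ⟨rfl, rfl⟩ | ⟨rfl, rfl⟩ <;> decide) (hρo hp a ha) (hρo hq b hb) (hc.map ρ)
  by_cases h7 : 7 ∣ Nat.card π.ker
  swap
  · exact key (Or.inl ⟨rfl, rfl⟩) h7
  by_cases h19 : 19 ∣ Nat.card π.ker
  swap
  · exact key (Or.inr ⟨rfl, rfl⟩) h19
  refine false_of_three_kernel π L.subtype hsub hπ hR hnaL L.subtype_injective ((by norm_num : 2 ∣ 4).trans h4)
    h7 h19 (Or.inr ⟨J, inferInstance, hnaJ, ?_, fun z w hw => h.commute hLc hJ hLJ z.2 hw⟩)
  rw [hj.card]
  norm_num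

end CfsgLib.Spor.JOneSquare
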