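import Cfsg.Agent.Lib.Spor.JOneSquare.Defs
import Cfsg.Agent.Lib.AutPSL.Coset
import Cfsg.Agent.Lib.Classical.ProjLine

/-!
# The small sections are `L₂(5)` and `L₂(11)`

Element orders by the trace recursion, outer automorphisms of order two, and the upper triangular subgroup meeting
the classes of elements of order five and eleven.
-/

set_option autoImplicit false
set_option linter.style.haveILetI false

namespace CfsgLib.Spor.JOneSquare

open Matrix

universe u

/-- The coefficients of the powers of a matrix of trace `t` and determinant one. -/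
def trSeq {R : Type*} [CommRing R] (t : R) : ℕ → R
  | 0 => 0
  | 1 => 1
  | k + 2 => t * trSeq t (k + 1) - trSeq t k

theorem pow_eq_trSeq {R : Type*} [CommRing R] (A : Matrix (Fin 2) (Fin 2) R) (hA : A.det = 1) :
    ∀ k : ℕ, A ^ (k + 1) = trSeq (A 0 0 + A 1 1) (k + 1) • A - trSeq (A 0 0 + A 1 1) k • 1 := by
  have hsq : A * A = (A 0 0 + A 1 1) • A - 1 := by
    rw [Matrix.det_fin_two] at hA
    ext i j
    fin_cases i <;> fin_cases j <;> simp [Matrix.mul_apply, Fin.sum_univ_two] <;>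
      first | ring1 | linear_combination -hA | linear_combination hA
  intro k
  induction k with
  | zero => simp [trSeq]
  | succ k ih =>
    rw [pow_succ, ih, sub_mul, smul_mul_assoc, smul_mul_assoc, one_mul, hsq, trSeq]
    simp only [smul_sub, smul_smul, sub_smul, mul_comm]
    abel

theorem upper_values :
    trSeq ((1 : ZMod 5) + 1) 5 = 0 ∧ (1 : ZMod 5) ≠ 0 ∧ trSeq ((1 : ZMod 11) + 1) 11 = 0 ∧ (1 : ZMod 11) ≠ 0 ∧
      trSeq ((3 : ZMod 11) + 4) 5 = 0 ∧ (3 : ZMod 11) * 4 = 1 ∧ (3 : ZMod 11) ≠ 4 := by decide +kernel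

variable {p : ℕ} [hp : Fact p.Prime]

local notation "PP" => Matrix.ProjectiveSpecialLinearGroup (Fin 2) (ZMod p)
local notation "SS" => Matrix.SpecialLinearGroup (Fin 2) (ZMod p)

theorem scalar_mem_center {A : SS} {c : ZMod p} (h : A.1 = c • 1) : A ∈ Subgroup.center SS := by
  refine Subgroup.mem_center_iff.2 fun B => Subtype.ext ?_
  rw [Matrix.SpecialLinearGroup.coe_mul, Matrix.SpecialLinearGroup.coe_mul, h, Matrix.smul_mul, Matrix.mul_smul,
    Matrix.one_mul, Matrix.mul_one]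

theorem pow_eq_one_of_trSeq (A : SS) {k : ℕ} (hk : 0 < k) (h : trSeq (A.1 0 0 + A.1 1 1) k = 0) :
    (QuotientGroup.mk A : PP) ^ k = 1 := by
  obtain ⟨j, rfl⟩ : ∃ j, k = j + 1 := ⟨k - 1, by omega⟩
  refine (QuotientGroup.eq_one_iff (A ^ (j + 1))).2 (scalar_mem_center (c := -trSeq (A.1 0 0 + A.1 1 1) j) ?_)
  rw [Matrix.SpecialLinearGroup.coe_pow, pow_eq_trSeq A.1 A.2 j, h, zero_smul, zero_sub, neg_smul]

theorem trSeq_five : ∀ t : ZMod 5, ∃ k ∈ ([2, 3, 5, 6, 11] : List ℕ), trSeq t k = 0 := by decide +kernel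

theorem trSeq_eleven : ∀ t : ZMod 11, ∃ k ∈ ([2, 3, 5, 6, 11] : List ℕ), trSeq t k = 0 := by decide +kernel

theorem orders_psl (hp' : p = 5 ∨ p = 11) (x : PP) : orderOf x ∈ ({1, 2, 3, 5, 6, 11} : Finset ℕ) := by
  obtain ⟨A, rfl⟩ := QuotientGroup.mk_surjective x
  obtain ⟨k, hk, hz⟩ : ∃ k ∈ ([2, 3, 5, 6, 11] : List ℕ), trSeq (A.1 0 0 + A.1 1 1) k = 0 := by
    rcases hp' with rfl | rfl
    exacts [trSeq_five _, trSeq_eleven _]
  have hdiv : ∀ k ∈ ([2, 3, 5, 6, 11] : List ℕ), 0 < k ∧ k ≤ 11 ∧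
      ∀ d < 12, d ∣ k → d ∈ ({1, 2, 3, 5, 6, 11} : Finset ℕ) := by decide
  obtain ⟨h0, h11, hd⟩ := hdiv k hk
  have h := orderOf_dvd_of_pow_eq_one (pow_eq_one_of_trSeq A h0 hz)
  exact hd _ (lt_of_le_of_lt ((Nat.le_of_dvd h0 h).trans h11) (by norm_num)) h

theorem card_psl (hp' : p = 5 ∨ p = 11) : Nat.card PP = if p = 5 then 60 else 660 := by
  have h := Classical.card_psl2 (F := ZMod p)
  rw [ZMod.card] at h
  rcases hp' with rfl | rfl
  · rw [show Nat.gcd 2 (5 - 1) = 2 from rfl] at h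
    simp only [if_pos]; omega
  · rw [show Nat.gcd 2 (11 - 1) = 2 from rfl] at h
    simp only [show ¬ (11 : ℕ) = 5 by norm_num, if_false]; omega

/-- A nonscalar upper triangular element of the given determinant one. -/
def upper (a b c : ZMod p) (h : a * c = 1) : SS := ⟨!![a, b; 0, c], by simp [Matrix.det_fin_two_of, h]⟩

theorem mk_ne_one (A : SS) (h : A.1 0 1 ≠ 0 ∨ A.1 0 0 ≠ A.1 1 1) : (QuotientGroup.mk A : PP) ≠ 1 := fun e => by
  have hc := Subgroup.mem_center_iff.1 ((QuotientGroup.eq_one_iff A).1 e)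
  have h1 : (!![1, 1; 0, 1] * A.1 : Matrix (Fin 2) (Fin 2) (ZMod p)) 0 1 =
      (A.1 * !![1, 1; 0, 1] : Matrix (Fin 2) (Fin 2) (ZMod p)) 0 1 :=
    congrFun (congrFun (congrArg Subtype.val (hc (upper 1 1 1 (mul_one 1)))) 0) 1
  have h2 : (!![1, 0; 1, 1] * A.1 : Matrix (Fin 2) (Fin 2) (ZMod p)) 1 1 =
      (A.1 * !![1, 0; 1, 1] : Matrix (Fin 2) (Fin 2) (ZMod p)) 1 1 :=
    congrFun (congrFun (congrArg Subtype.val (hc ⟨!![1, 0; 1, 1], by simp [Matrix.det_fin_two_of]⟩)) 1) 1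
  simp [Matrix.mul_apply, Fin.sum_univ_two] at h1 h2
  rcases h with h | h
  · exact h (by first | linear_combination h2 | linear_combination -h2)
  · exact h (by first | linear_combination h1 | linear_combination -h1)

/-- The upper triangular elements. -/
def borelSL : Subgroup SS where
  carrier := {A | A.1 1 0 = 0}
  one_mem' := by simp
  mul_mem' := fun {A B} (hA : A.1 1 0 = 0) (hB : B.1 1 0 = 0) => by
    show (A * B).1 1 0 = 0
    simp [Matrix.mul_apply, Fin.sum_univ_two, hA, hB]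
  inv_mem' := fun {A} (hA : A.1 1 0 = 0) => by
    show (A⁻¹).1 1 0 = 0
    simp [Matrix.SpecialLinearGroup.coe_inv, Matrix.adjugate_fin_two, hA]

theorem borelSL_solvable : Group.IsSolvable (borelSL (p := p)) := by
  let φ : borelSL (p := p) →* ZMod p :=
    { toFun := fun A => A.1.1 0 0
      map_one' := by simp
      map_mul' := fun A B => by
        have hB : B.1.1 1 0 = 0 := B.2
        show (A.1 * B.1).1 0 0 = A.1.1 0 0 * B.1.1 0 0
        rw [Matrix.SpecialLinearGroup.coe_mul, Matrix.mul_apply, Fin.sum_univ_two, hB, mul_zero, add_zero] }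
  let ψ := φ.toHomUnits
  haveI : Group.IsSolvable ψ.ker := by
    refine Group.isSolvable_of_comm fun A B => Subtype.ext (Subtype.ext (Subtype.ext ?_))
    have hA : A.1.1.1 0 0 = 1 := congrArg Units.val (MonoidHom.mem_ker.1 A.2)
    have hB : B.1.1.1 0 0 = 1 := congrArg Units.val (MonoidHom.mem_ker.1 B.2)
    have hA' := A.1.1.2
    have hB' := B.1.1.2
    have hA0 : A.1.1.1 1 0 = 0 := A.1.2
    have hB0 : B.1.1.1 1 0 = 0 := B.1.2
    rw [Matrix.det_fin_two, hA0, hA] at hA'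
    rw [Matrix.det_fin_two, hB0, hB] at hB'
    simp only [one_mul, mul_zero, sub_zero] at hA' hB'
    show A.1.1.1 * B.1.1.1 = B.1.1.1 * A.1.1.1
    ext i j
    fin_cases i <;> fin_cases j <;>
      simp [Matrix.mul_apply, Fin.sum_univ_two, hA, hB, hA', hB', hA0, hB0]
    ring
  exact Group.isSolvable_of_ker_le_range ψ.ker.subtype ψ (by rw [Subgroup.range_subtype])

theorem borel_psl (hp' : p = 5 ∨ p = 11) : ∃ B : Subgroup PP, Group.IsSolvable B ∧
    ∀ x : PP, orderOf x = 5 ∨ orderOf x = 11 → ∃ g : PP, g * x * g⁻¹ ∈ B := by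
  refine ⟨(borelSL (p := p)).map (QuotientGroup.mk' _), ?_, fun x hx => ?_⟩
  · haveI := borelSL_solvable (p := p)
    exact Group.isSolvable_of_surjective ((QuotientGroup.mk' _).subgroupMap_surjective borelSL)
  -- an element of the borel subgroup of the same order
  obtain ⟨r, hr, rfl, y, hyB, hyo⟩ : ∃ r : ℕ, r.Prime ∧ orderOf x = r ∧
      ∃ y ∈ (borelSL (p := p)).map (QuotientGroup.mk' _), orderOf (y : PP) = r := by
    haveI : Fact (Nat.Prime 5) := ⟨by norm_num⟩
    haveI : Fact (Nat.Prime 11) := ⟨by norm_num⟩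
    have hmem : ∀ A : SS, A.1 1 0 = 0 → (QuotientGroup.mk A : PP) ∈ (borelSL (p := p)).map (QuotientGroup.mk' _) :=
      fun A hA => ⟨A, hA, rfl⟩
    rcases hp' with rfl | rfl <;> rcases hx with hx | hx
    · exact ⟨5, by norm_num, hx, _, hmem (upper 1 1 1 (mul_one 1)) rfl, orderOf_eq_prime
        (pow_eq_one_of_trSeq _ (by norm_num) upper_values.1) (mk_ne_one _ (Or.inl upper_values.2.1))⟩
    · exfalso
      have h := orderOf_dvd_natCard x
      rw [hx, card_psl (Or.inl rfl)] at h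
      norm_num at h
    · exact ⟨5, by norm_num, hx, _, hmem (upper 3 0 4 upper_values.2.2.2.2.2.1) rfl, orderOf_eq_prime
        (pow_eq_one_of_trSeq _ (by norm_num) upper_values.2.2.2.2.1) (mk_ne_one _ (Or.inr upper_values.2.2.2.2.2.2))⟩
    · exact ⟨11, by norm_num, hx, _, hmem (upper 1 1 1 (mul_one 1)) rfl, orderOf_eq_prime
        (pow_eq_one_of_trSeq _ (by norm_num) upper_values.2.2.1) (mk_ne_one _ (Or.inl upper_values.2.2.2.1))⟩
  -- the two generate Sylow subgroups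
  haveI := Fact.mk hr
  have hfac : (Nat.card PP).factorization (orderOf x) = 1 := by
    refine le_antisymm ?_ ((hr.dvd_iff_one_le_factorization Nat.card_pos.ne').1 (orderOf_dvd_natCard x))
    by_contra h
    have h2 := (hr.pow_dvd_iff_le_factorization Nat.card_pos.ne').2 (not_le.1 h : 2 ≤ _)
    rw [card_psl hp'] at h2
    rcases hp' with rfl | rfl <;> rcases hx with e | e <;> rw [e] at h2 <;> norm_num at h2
  have hsyl : ∀ z : PP, orderOf z = orderOf x → ∃ S : Sylow (orderOf x) PP, (S : Subgroup PP) = Subgroup.zpowers z := by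
    intro z hz
    exact ⟨Sylow.ofCard (Subgroup.zpowers z) (by rw [Nat.card_zpowers, hz, hfac, pow_one]), rfl⟩
  obtain ⟨Sx, hSx⟩ := hsyl x rfl
  obtain ⟨Sy, hSy⟩ := hsyl y hyo
  obtain ⟨g, hg⟩ := MulAction.exists_smul_eq PP Sx Sy
  refine ⟨g, Subgroup.zpowers_le.2 hyB ?_⟩
  rw [← hSy, ← hg]
  exact ⟨x, hSx ▸ Subgroup.mem_zpowers x, rfl⟩

theorem outer_psl (hp' : p = 5 ∨ p = 11) (α : MulAut PP) (hα : Odd (orderOf α)) :
    ∃ g : PP, ∀ x, α x = g * x * g⁻¹ := by
  have hσ : ∀ σ : RingAut (ZMod p), σ = 1 := fun σ => RingEquiv.ext fun x =>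
    DFunLike.congr_fun (Subsingleton.elim σ.toRingHom (RingHom.id _)) x
  obtain ⟨h, hh⟩ : ∃ h, α = AutPSL.ind h 1 := by
    obtain ⟨g, σ, e, he⟩ := AutPSL.exists_rep (le_refl 2) α
    cases e
    · exact ⟨g, by rw [he, hσ σ]; simp [AutPSL.rep]⟩
    · refine ⟨g * Matrix.SpecialLinearGroup.toGL ⟨!![0, 1; -1, 0], by simp [Matrix.det_fin_two_of]⟩, ?_⟩
      rw [he, hσ σ]
      show AutPSL.ind g 1 * AutPSL.itAut = _
      exact (congrArg _ AutPSL.itAut_two).trans ((AutPSL.ind_mul _ _ _ _).trans (congrArg (AutPSL.ind _) (one_mul 1)))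
  have hsq : α ^ 2 ∈ Cfsg.Inn PP := by
    set d := (Matrix.GeneralLinearGroup.det h : (ZMod p)ˣ) with hd
    have hdet : ((d⁻¹ : (ZMod p)ˣ) : ZMod p) • (h * h).1 = ((d⁻¹ : (ZMod p)ˣ) : ZMod p) • (h.1 * h.1) := rfl
    have hs : (((d⁻¹ : (ZMod p)ˣ) : ZMod p) • (h.1 * h.1)).det = 1 := by
      rw [Matrix.det_smul, Fintype.card_fin, Matrix.det_mul, show h.1.det = (d : ZMod p) from rfl, ← sq, ← mul_pow,
        Units.inv_mul, one_pow]
    refine AutPSL.mem_inn_iff.2 ⟨⟨_, hs⟩, ?_⟩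
    have hg : h * h = AutPSL.scal d * Matrix.SpecialLinearGroup.toGL ⟨_, hs⟩ := by
      apply Units.ext
      rw [Units.val_mul, Units.val_mul, AutPSL.scal_val, smul_mul_assoc, one_mul]
      show h.1 * h.1 = (d : ZMod p) • (((d⁻¹ : (ZMod p)ˣ) : ZMod p) • (h.1 * h.1))
      rw [smul_smul, Units.mul_inv, one_smul]
    rw [hh, ← AutPSL.indHom_apply, ← map_pow, sq, AutPSL.indHom_apply, hg, AutPSL.ind_scal_mul]
  obtain ⟨j, hj⟩ := hα
  have hmem : α ∈ Cfsg.Inn PP := by
    have h1 := pow_mem hsq (j + 1)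
    rwa [← pow_mul, show 2 * (j + 1) = orderOf α + 1 by omega, pow_succ, pow_orderOf_eq_one, one_mul] at h1
  obtain ⟨g, hg⟩ := hmem
  exact ⟨g, fun x => by rw [← hg]; rfl⟩

/-- `L₂(5)` and `L₂(11)` are small sections. -/
theorem small_psl (hp' : p = 5 ∨ p = 11) {T : Type u} [Group T] [Finite T] (e : T ≃* PP) : Small T := by
  have hcard : Nat.card T = if p = 5 then 60 else 660 := (Nat.card_congr e.toEquiv).trans (card_psl hp')
  have hel : ∀ r : ℕ, r.Prime → r ∣ 60 → ∃ x : T, orderOf x = r := fun r hr hd => by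
    haveI := Fact.mk hr
    refine exists_prime_orderOf_dvd_card' r ?_
    rw [hcard]
    split
    exacts [hd, hd.trans (by norm_num)]
  refine ⟨?_, fun x => ?_, hel 2 (by norm_num) (by norm_num), hel 3 (by norm_num) (by norm_num),
    hel 5 (by norm_num) (by norm_num), fun α hα => ?_, ?_⟩
  · refine ⟨e.symm (QuotientGroup.mk (upper 1 1 1 (mul_one 1))),
      e.symm (QuotientGroup.mk ⟨!![1, 0; 1, 1], by simp [Matrix.det_fin_two_of]⟩), fun h => ?_⟩
    rw [← map_mul, ← map_mul] at h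
    have h' := (QuotientGroup.eq.1 (e.symm.injective h) : _ ∈ Subgroup.center SS)
    refine mk_ne_one (p := p) _ (Or.inl ?_) ((QuotientGroup.eq_one_iff _).2 h')
    show (Matrix.adjugate (!![1, 1; 0, 1] * !![1, 0; 1, 1] : Matrix (Fin 2) (Fin 2) (ZMod p)) *
      (!![1, 0; 1, 1] * !![1, 1; 0, 1]) : Matrix (Fin 2) (Fin 2) (ZMod p)) 0 1 ≠ 0
    simp [Matrix.adjugate_fin_two, Matrix.mul_apply, Fin.sum_univ_two]
  · rw [← e.orderOf_eq x]; exact orders_psl hp' _
  · obtain ⟨g, hg⟩ := outer_psl hp' (MulAut.congr e α) (by rwa [MulEquiv.orderOf_eq])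
    exact ⟨e.symm g, fun x => e.injective (by simpa [MulAut.congr] using hg (e x))⟩
  · obtain ⟨B, hB, hBx⟩ := borel_psl (p := p) hp'
    refine ⟨B.comap e.toMonoidHom, ?_, fun x hx => ?_⟩
    · haveI := hB
      exact Group.isSolvable_of_isSolvable_injective (f := e.toMonoidHom.subgroupComap B)
        fun a b h => Subtype.ext (e.injective (congrArg Subtype.val h))
    · obtain ⟨g, hg⟩ := hBx (e x) (by rwa [MulEquiv.orderOf_eq])
      exact ⟨e.symm g, by simpa using hg⟩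

theorem small_five {T : Type u} [Group T] [Finite T]
    (e : T ≃* Matrix.ProjectiveSpecialLinearGroup (Fin 2) (ZMod 5)) : Small T :=
  haveI : Fact (Nat.Prime 5) := ⟨by norm_num⟩
  small_psl (Or.inl rfl) e

theorem small_eleven {T : Type u} [Group T] [Finite T]
    (e : T ≃* Matrix.ProjectiveSpecialLinearGroup (Fin 2) (ZMod 11)) : Small T :=
  haveI : Fact (Nat.Prime 11) := ⟨by norm_num⟩
  small_psl (Or.inr rfl) e

end CfsgLib.Spor.JOneSquare
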