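import Cfsg.Agent.Lib.Spor.JOneSquare.SolubleTools
import Cfsg.Agent.Lib.Coprime.Fitting
import Cfsg.Agent.Lib.Coprime.PGroupFrattini
import Cfsg.Agent.Lib.Coprime.Action

/-!
# No soluble group with noncyclic Sylow subgroups for 2, 7, 11, 19

A finite soluble group of order supported on 2, 7, 11, 19 with all four Sylow subgroups noncyclic and squarefree
element orders has an element whose order is divisible by three of these primes.
-/

set_option autoImplicit false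
set_option linter.style.haveILetI false
set_option linter.unusedSectionVars false

namespace CfsgLib.Spor.JOneSquare.Sol

open Subgroup
open scoped commutatorElement
open CfsgLib.Coprime (IsPiNum conj_mem_of_le_normalizer map_subtype_normal_of_characteristic)

universe u

variable {U : Type u} [Group U] [Finite U]

/-- The four primes. -/
def Four (s : ℕ) : Prop := s = 2 ∨ s = 7 ∨ s = 11 ∨ s = 19

theorem Four.prime {s : ℕ} (h : Four s) : s.Prime := by
  rcases h with rfl | rfl | rfl | rfl <;> norm_num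

theorem Four.not_dvd_pred {s r : ℕ} (hs : Four s) (hr : Four r) (hs2 : s ≠ 2) : ¬ s ∣ r - 1 := by
  rcases hs with rfl | rfl | rfl | rfl <;> rcases hr with rfl | rfl | rfl | rfl <;>
    first | exact absurd rfl hs2 | decide

theorem Four.not_sq_dvd_pred {s p : ℕ} (hs : Four s) (hp : Four p) : ¬ s * s ∣ p - 1 := by
  rcases hs with rfl | rfl | rfl | rfl <;> rcases hp with rfl | rfl | rfl | rfl <;> decide

theorem Four.exists_odd (p r : ℕ) : ∃ s, Four s ∧ s ≠ 2 ∧ s ≠ p ∧ s ≠ r := by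
  rcases eq_or_ne p 7 with rfl | h7
  · rcases eq_or_ne r 11 with rfl | h11
    · exact ⟨19, Or.inr (Or.inr (Or.inr rfl)), by decide, by decide, by decide⟩
    · exact ⟨11, Or.inr (Or.inr (Or.inl rfl)), by decide, by decide, h11.symm⟩
  · rcases eq_or_ne r 7 with rfl | h7'
    · rcases eq_or_ne p 11 with rfl | h11
      · exact ⟨19, Or.inr (Or.inr (Or.inr rfl)), by decide, by decide, by decide⟩
      · exact ⟨11, Or.inr (Or.inr (Or.inl rfl)), by decide, h11.symm, by decide⟩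
    · exact ⟨7, Or.inr (Or.inl rfl), by decide, h7.symm, h7'.symm⟩

theorem Four.exists_fourth (p r a : ℕ) : ∃ w, Four w ∧ w ≠ p ∧ w ≠ r ∧ w ≠ a := by
  by_contra h
  push Not at h
  have h2 := h 2 (Or.inl rfl)
  have h7 := h 7 (Or.inr (Or.inl rfl))
  have h11 := h 11 (Or.inr (Or.inr (Or.inl rfl)))
  have h19 := h 19 (Or.inr (Or.inr (Or.inr rfl)))
  omega

theorem sqFree_sub (hs : SqFree U) (K : Subgroup U) : SqFree K :=
  fun x => by rw [← Subgroup.orderOf_coe]; exact hs x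

theorem four_sub (hπ : ∀ q, q.Prime → q ∣ Nat.card U → Four q) (K : Subgroup U) :
    ∀ q, q.Prime → q ∣ Nat.card K → Four q :=
  fun q hq hd => hπ q hq (hd.trans K.card_subgroup_dvd_card)

theorem exists_pair_le (hs : SqFree U) {s : ℕ} [hsp : Fact s.Prime] {K : Subgroup U}
    (hd : s * s ∣ Nat.card K) : ∃ B : Subgroup U, B ≤ K ∧ Pair s B := by
  obtain ⟨P, hP⟩ := Sylow.exists_subgroup_card_pow_prime (G := K) s (n := 2) (by rwa [pow_two])
  have hPc : Nat.card (P.map K.subtype) = s ^ 2 := by rw [card_map_of_injective K.subtype_injective, hP]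
  obtain ⟨B, hB, hp⟩ := exists_pair hs (IsPGroup.of_card hPc) (by rw [hPc, pow_two])
  exact ⟨B, hB.trans (map_subtype_le P), hp⟩

/-- An operator commuting with a noncyclic group fixes no point of a group this one acts on. -/
theorem false_pair_fixed (hs : SqFree U) (h3 : NoTriple U) {a r p : ℕ} [ha : Fact a.Prime] [hr : Fact r.Prime]
    [hp : Fact p.Prime] (har : a ≠ r) (hap : a ≠ p) (hrp : r ≠ p) {x : U} (hx : orderOf x = a)
    {D V : Subgroup U} (hD : Pair r D) (hDx : ∀ d ∈ D, Commute x d) (hV : IsPGroup p V)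
    (hDV : D ≤ normalizer (V : Set U)) {v : U} (hv : v ∈ V) (hv1 : v ≠ 1) (hxv : Commute x v) : False := by
  set X := V ⊓ centralizer ({x} : Set U) with hX
  have hmem : ∀ {y : U}, y ∈ centralizer ({x} : Set U) ↔ x * y = y * x := fun {y} => by
    simp [mem_centralizer_iff]
  have hDX : D ≤ normalizer (X : Set U) := by
    intro d hd
    refine mem_normalizer_iff.2 fun y => ?_
    simp only [hX, SetLike.mem_coe, Subgroup.mem_inf, hmem]
    refine and_congr (mem_normalizer_iff.1 (hDV hd) y) ?_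
    have hc := hDx d hd
    rw [show x * (d * y * d⁻¹) = d * (x * y) * d⁻¹ by rw [← mul_assoc, ← mul_assoc, hc.eq, mul_assoc d x y],
      show d * y * d⁻¹ * x = d * (y * x) * d⁻¹ by rw [mul_assoc (d * y) d⁻¹ x, ← hc.inv_right.eq]; group]
    exact ⟨fun h => by rw [h], fun h => mul_left_cancel (mul_right_cancel h)⟩
  obtain ⟨j, hj⟩ := IsPGroup.iff_card.1 (hV.to_le inf_le_left : IsPGroup p X)
  obtain ⟨d, hd, hd1, w, hw, hw1, hdw⟩ := exists_fixed hD hDX
    (hj ▸ ((Nat.coprime_primes hr.out hp.out).2 hrp).pow_right j)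
    (fun e => hv1 ((mem_bot (G := U)).1 (e ▸ ⟨hv, hmem.2 hxv.eq⟩ : v ∈ (⊥ : Subgroup U))))
  exact triple h3 ha.out hr.out hp.out har hap hrp hx (hD.orderOf_eq hd hd1) (orderOf_of_mem hs hV hw.1 hw1)
    (hDx d hd) (hmem.1 hw.2) hdw

/-- An involution fixing only the identity inverts. -/
theorem inverts_of_fpf {u : U} (hu : u * u = 1) {A : Subgroup U} (huA : u ∈ normalizer (A : Set U))
    (hfp : ∀ a ∈ A, Commute u a → a = 1) : ∀ a ∈ A, u * a * u⁻¹ = a⁻¹ := by
  let f : A → A := fun ρ => ⟨(ρ : U)⁻¹ * (u * ρ * u⁻¹),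
    mul_mem (inv_mem ρ.2) ((mem_normalizer_iff.1 huA ρ).1 ρ.2)⟩
  have hinj : Function.Injective f := by
    intro ρ σ e
    have e' : (ρ : U)⁻¹ * (u * ρ * u⁻¹) = (σ : U)⁻¹ * (u * σ * u⁻¹) := congrArg Subtype.val e
    have hc : Commute u ((σ : U) * (ρ : U)⁻¹) := by
      calc u * ((σ : U) * (ρ : U)⁻¹) = (σ : U) * ((σ : U)⁻¹ * (u * σ * u⁻¹)) * (u * ρ * u⁻¹)⁻¹ * u := by group
        _ = (σ : U) * ((ρ : U)⁻¹ * (u * ρ * u⁻¹)) * (u * ρ * u⁻¹)⁻¹ * u := by rw [e']
        _ = (σ : U) * (ρ : U)⁻¹ * u := by group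
    exact Subtype.ext (mul_inv_eq_one.1 (hfp _ (mul_mem σ.2 (inv_mem ρ.2)) hc)).symm
  intro a ha
  obtain ⟨ρ, hρ⟩ := Finite.injective_iff_surjective.1 hinj ⟨a, ha⟩
  have e : (ρ : U)⁻¹ * (u * ρ * u⁻¹) = a := congrArg Subtype.val hρ
  rw [← e, show u * ((ρ : U)⁻¹ * (u * ρ * u⁻¹)) * u⁻¹ = u * (ρ : U)⁻¹ * u * ρ * (u * u)⁻¹ by group, hu,
    inv_one, mul_one, mul_inv_rev, inv_inv, mul_inv_rev, mul_inv_rev, inv_inv, inv_eq_of_mul_eq_one_left hu]
  group

theorem exists_big_pCore [Group.IsSolvable U] (hs : SqFree U) (hπ : ∀ q, q.Prime → q ∣ Nat.card U → Four q)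
    {s : ℕ} (hs4 : Four s) (hs2 : s ≠ 2) (hd : s * s ∣ Nat.card U) :
    ∃ r, Four r ∧ r * r ∣ Nat.card (Cfsg.pCore r U) := by
  by_contra hno
  push Not at hno
  haveI := Fact.mk hs4.prime
  obtain ⟨B, -, hB⟩ := exists_pair_le hs (K := (⊤ : Subgroup U)) (by rwa [card_top])
  have hBC : B ≤ centralizer (Cfsg.fittingSubgroup U : Set U) := by
    rw [le_centralizer_iff, CfsgLib.Coprime.fitting_eq_iSup_pCore]
    refine iSup_le fun q => ?_
    haveI : Fact (q : ℕ).Prime := ⟨q.2⟩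
    intro d hd
    refine mem_centralizer_iff.2 fun b hb => ?_
    rcases eq_or_ne (Cfsg.pCore (q : ℕ) U) ⊥ with h0 | h0
    · rw [h0, mem_bot] at hd; rw [hd, mul_one, one_mul]
    · have hq4 : Four q := by
        refine hπ q q.2 ?_
        obtain ⟨j, hj⟩ := IsPGroup.iff_card.1 (CfsgLib.Coprime.pCore_isPGroup (G := U) (q : ℕ))
        refine dvd_trans ?_ (Cfsg.pCore (q : ℕ) U).card_subgroup_dvd_card
        rw [hj]
        exact dvd_pow_self _ fun e => h0 (by rw [← Subgroup.card_eq_one, hj, e, pow_zero])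
      haveI := CfsgLib.Coprime.pCore_normal' (G := U) (q : ℕ)
      exact commute_of_small (hB.pow b hb) (hs4.not_dvd_pred hq4 hs2) (by rw [normalizer_eq_top]; trivial)
        (card_le_prime (CfsgLib.Coprime.pCore_isPGroup (G := U) (q : ℕ)) (hno q hq4)) d hd
  set F := Cfsg.fittingSubgroup U with hF
  have hBF : B ≤ F := hBC.trans CfsgLib.Coprime.centralizer_fitting_le
  haveI : F.Normal := CfsgLib.Coprime.fitting_normal
  haveI : Group.IsNilpotent F := CfsgLib.Coprime.fitting_isNilpotent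
  let P : Sylow s F := default
  have hPle : (P : Subgroup F).map F.subtype ≤ Cfsg.pCore s U := by
    haveI : (P : Subgroup F).Characteristic := P.characteristic_of_normal inferInstance
    haveI := map_subtype_normal_of_characteristic F (P : Subgroup F)
    exact CfsgLib.Coprime.le_pCore (P.isPGroup'.map _)
  refine hno s hs4 (dvd_trans ?_ (Subgroup.card_dvd_of_le hPle))
  rw [card_map_of_injective F.subtype_injective, P.card_eq_multiplicity, ← pow_two]
  refine pow_dvd_pow s ((hs4.prime.pow_dvd_iff_le_factorization Nat.card_pos.ne').1 ?_)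
  refine dvd_trans ?_ (Subgroup.card_dvd_of_le hBF)
  obtain ⟨j, hj⟩ := IsPGroup.iff_card.1 hB.isPGroup
  rw [hj]
  refine pow_dvd_pow s ?_
  by_contra hlt
  haveI : IsCyclic B := by
    rcases (show j = 0 ∨ j = 1 by omega) with rfl | rfl
    · haveI := (Nat.card_eq_one_iff_unique.1 (by rw [hj, pow_zero] : Nat.card B = 1)).1
      infer_instance
    · exact isCyclic_of_prime_card (by rw [hj, pow_one])
  obtain ⟨g, hg⟩ := isCyclic_iff_exists_zpowers_eq_top.1 (inferInstance : IsCyclic B)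
  exact hB.ncyc g g.2 (by
    have h := congrArg (Subgroup.map B.subtype) hg
    rwa [MonoidHom.map_zpowers, ← MonoidHom.range_eq_map, Subgroup.range_subtype] at h)

/-- The largest normal `r`-subgroup of `K`, in the ambient group. -/
def coreIn (r : ℕ) (K : Subgroup U) : Subgroup U := (Cfsg.pCore r K).map K.subtype

theorem coreIn_le (r : ℕ) (K : Subgroup U) : coreIn r K ≤ K := map_subtype_le _

theorem coreIn_isPGroup (r : ℕ) [Fact r.Prime] (K : Subgroup U) : IsPGroup r (coreIn r K) :=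
  (CfsgLib.Coprime.pCore_isPGroup r).map _

theorem card_coreIn (r : ℕ) (K : Subgroup U) : Nat.card (coreIn r K) = Nat.card (Cfsg.pCore r K) :=
  card_map_of_injective K.subtype_injective

theorem le_normalizer_map (K : Subgroup U) (N : Subgroup K) [N.Normal] :
    K ≤ normalizer ((N.map K.subtype : Subgroup U) : Set U) := by
  have h := Subgroup.le_normalizer_map (H := N) K.subtype
  rw [normalizer_eq_top, ← MonoidHom.range_eq_map, Subgroup.range_subtype] at h
  exact h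

theorem le_normalizer_coreIn (r : ℕ) (K : Subgroup U) : K ≤ normalizer (coreIn r K : Set U) :=
  haveI := CfsgLib.Coprime.pCore_normal' (G := K) r
  le_normalizer_map K _

theorem le_coreIn {r : ℕ} [Fact r.Prime] {K N : Subgroup U} (hN : N ≤ K) (hKN : K ≤ normalizer (N : Set U))
    (hNp : IsPGroup r N) : N ≤ coreIn r K := by
  haveI : (N.subgroupOf K).Normal := normal_subgroupOf_of_le_normalizer hKN
  rw [← map_subgroupOf_eq_of_le hN]
  exact map_mono (CfsgLib.Coprime.le_pCore hNp.comap_subtype)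

theorem hall_data [Group.IsSolvable U] (π : Set ℕ) :
    ∃ K : Subgroup U, IsPiNum π (Nat.card K) ∧
      ∀ s : ℕ, s.Prime → s ∈ π → s * s ∣ Nat.card U → s * s ∣ Nat.card K := by
  obtain ⟨K, -, hK, hi⟩ := CfsgLib.Coprime.exists_hallIn π (L := (⊤ : Subgroup U))
    (Group.isSolvable_of_surjective (f := (Subgroup.topEquiv (G := U)).symm.toMonoidHom)
      (Subgroup.topEquiv (G := U)).symm.surjective)
  rw [relIndex_top_right] at hi
  refine ⟨K, hK, fun s hs hmem hd => ?_⟩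
  rw [← K.card_mul_index] at hd
  refine (Nat.Coprime.dvd_of_dvd_mul_right (k := s * s) ?_ hd)
  have : s.Coprime K.index := (Nat.Prime.coprime_iff_not_dvd hs).2 fun h => hi s hs h hmem
  exact Nat.Coprime.mul_left this this

theorem big_of_normal [Group.IsSolvable U] (hs : SqFree U) (h3 : NoTriple U)
    (hsq : ∀ q, Four q → q * q ∣ Nat.card U) {p : ℕ} (hp4 : Four p) {M : Subgroup U} [M.Normal]
    (hM : IsPGroup p M) (hM1 : M ≠ ⊥) : p * p ∣ Nat.card M := by
  by_contra hno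
  haveI := Fact.mk hp4.prime
  have hc : Nat.card M = p := (card_le_prime hM hno).resolve_right hM1
  obtain ⟨m, hm, hm1⟩ := M.bot_or_exists_ne_one.resolve_left hM1
  set C := centralizer (M : Set U)
  have hidx : C.index ∣ p - 1 := by
    haveI : IsCyclic M := isCyclic_of_prime_card hc
    have hker : C ≤ (MulAut.conjNormal (H := M)).ker ∧ (MulAut.conjNormal (H := M)).ker ≤ C := by
      refine ⟨fun x hx => MonoidHom.mem_ker.2 (MulEquiv.ext fun y => Subtype.ext ?_), fun x hx => ?_⟩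
      · simpa [MulAut.conjNormal_apply] using mul_inv_eq_iff_eq_mul.2 (mem_centralizer_iff.1 hx y y.2).symm
      · refine mem_centralizer_iff.2 fun y hy => ?_
        have h := congrArg Subtype.val (DFunLike.congr_fun (MonoidHom.mem_ker.1 hx) (⟨y, hy⟩ : M))
        simp only [MulAut.conjNormal_apply, MulAut.one_apply] at h
        exact (mul_inv_eq_iff_eq_mul.1 h).symm
    rw [le_antisymm hker.1 hker.2, Subgroup.index_ker]
    refine (Subgroup.card_subgroup_dvd_card _).trans ?_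
    rw [IsCyclic.card_mulAut, hc, Nat.totient_prime hp4.prime]
  have hdvd : ∀ s, Four s → s ∣ Nat.card C := by
    intro s hs4
    have hd := hsq s hs4
    rw [← C.card_mul_index] at hd
    by_contra hn
    have hcop : s.Coprime (Nat.card C) := (Nat.Prime.coprime_iff_not_dvd hs4.prime).2 hn
    exact hs4.not_sq_dvd_pred hp4 (((Nat.Coprime.mul_left hcop hcop).dvd_of_dvd_mul_left hd).trans hidx)
  obtain ⟨a, ha, ha2, hap, -⟩ := Four.exists_odd p p
  obtain ⟨b, hb, hbp, hba, -⟩ := Four.exists_fourth p a a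
  obtain ⟨c, hcc, hcp, hca, hcb⟩ := Four.exists_fourth p a b
  refine false_of_three (U := C) (sqFree_sub hs C) ha.prime hb.prime hcc.prime hba.symm hca.symm hcb.symm
    (hdvd a ha) (hdvd b hb) (hdvd c hcc) fun x => ?_
  have key : ∀ s t, Four s → Four t → s ≠ t → s ≠ p → t ≠ p → ¬ s * t ∣ orderOf x := by
    intro s t hs' ht' hst hsp htp hd
    haveI := Fact.mk hs'.prime
    haveI := Fact.mk ht'.prime
    rw [← Subgroup.orderOf_coe] at hd
    have hcop : (s * t).Coprime p :=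
      Nat.Coprime.mul_left ((Nat.coprime_primes hs'.prime hp4.prime).2 hsp)
        ((Nat.coprime_primes ht'.prime hp4.prime).2 htp)
    obtain ⟨y, hyc, hy⟩ : ∃ y : U, Commute y m ∧ orderOf y = s * t :=
      ⟨(x : U) ^ (orderOf (x : U) / (s * t)),
        (show Commute (x : U) m from (mem_centralizer_iff.1 x.2 m hm).symm).pow_left _,
        orderOf_pow_orderOf_div (orderOf_pos _).ne' hd⟩
    refine h3 (y * m) s t p hs'.prime ht'.prime hp4.prime hst hsp htp ?_
    rw [hyc.orderOf_mul_eq_mul_orderOf_of_coprime (by rw [hy, orderOf_of_mem hs hM hm hm1]; exact hcop), hy,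
      orderOf_of_mem hs hM hm hm1]
  exact ⟨key a b ha hb hba.symm hap hbp, key a c ha hcc hca.symm hap hcp, key b c hb hcc hcb.symm hbp hcp⟩

theorem commute_of_disjoint {p q : ℕ} [Fact p.Prime] [Fact q.Prime] (M N : Subgroup U) [M.Normal] [N.Normal]
    (hM : IsPGroup p M) (hN : IsPGroup q N) (hpq : p ≠ q) {m n : U} (hm : m ∈ M) (hn : n ∈ N) : Commute m n :=
  Subgroup.commute_of_normal_of_disjoint M N inferInstance inferInstance (IsPGroup.disjoint_of_ne p q hpq M N hM hN) m n hm hn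

/-- A normal `r`-subgroup of a Hall subgroup acts faithfully on either of the two modules. -/
theorem faithful_of_two (hs : SqFree U) (h3 : NoTriple U) {p q r s : ℕ} [hp : Fact p.Prime] [hq : Fact q.Prime]
    [hr : Fact r.Prime] [hsf : Fact s.Prime] (hr4 : Four r) (hs4 : Four s) (hpq : p ≠ q) (hsr : s ≠ r) (hsp : s ≠ p)
    (hsq' : s ≠ q) (hrp : r ≠ p) (hrq : r ≠ q) {M M₂ : Subgroup U} [M.Normal] [M₂.Normal]
    (hM : IsPGroup p M) (hM1 : M ≠ ⊥) (hN : IsPGroup q M₂) (hN1 : M₂ ≠ ⊥) {R S : Subgroup U}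
    (hRp : IsPGroup r R) (hS : Pair s S) (hSR : ∀ x ∈ S, x ∈ normalizer (R : Set U)) :
    ∀ d ∈ R, d ≠ 1 → ∃ m ∈ M, ¬ Commute d m := by
  have hN' : ∀ (N : Subgroup U) [N.Normal], ∀ x : U, x ∈ normalizer (N : Set U) := fun N _ x => by
    rw [normalizer_eq_top]; trivial
  obtain ⟨j, hj⟩ := IsPGroup.iff_card.1 hM
  obtain ⟨k, hk⟩ := IsPGroup.iff_card.1 hN
  have hcopM : ∀ {t : ℕ}, t.Prime → t ≠ p → t.Coprime (Nat.card M) := fun ht h =>
    hj ▸ ((Nat.coprime_primes ht hp.out).2 h).pow_right j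
  have hcopN : ∀ {t : ℕ}, t.Prime → t ≠ q → t.Coprime (Nat.card M₂) := fun ht h =>
    hk ▸ ((Nat.coprime_primes ht hq.out).2 h).pow_right k
  obtain ⟨m₀, hm₀, hm₀1⟩ := M.bot_or_exists_ne_one.resolve_left hM1
  by_contra hno
  push Not at hno
  obtain ⟨d, hd, hd1, hdM⟩ := hno
  have hdo := orderOf_of_mem hs hRp hd hd1
  set Rc := R ⊓ centralizer (M : Set U) with hRc
  have hRc_mem : ∀ {x}, x ∈ Rc → ∀ m ∈ M, Commute x m := fun hx m hm =>
    (mem_centralizer_iff.1 hx.2 m hm).symm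
  have hdRc : d ∈ Rc := ⟨hd, mem_centralizer_iff.2 fun m hm => (hdM m hm).symm⟩
  by_cases hbig : r * r ∣ Nat.card Rc
  · obtain ⟨D, hD, hDp⟩ := exists_pair hs (hRp.to_le inf_le_left : IsPGroup r Rc) hbig
    obtain ⟨b, hb, hb1, w, hw, hw1, hbw⟩ := exists_fixed hDp (fun x _ => hN' M₂ x) (hcopN hr4.prime hrq) hN1
    refine triple h3 hr4.prime hp.out hq.out hrp hrq hpq (hDp.orderOf_eq hb hb1)
      (orderOf_of_mem hs hM hm₀ hm₀1) (orderOf_of_mem hs hN hw hw1) (hRc_mem (hD hb) m₀ hm₀) hbw ?_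
    exact commute_of_disjoint M M₂ hM hN hpq hm₀ hw
  have hRcr : Nat.card Rc = r := (card_le_prime (hRp.to_le inf_le_left) hbig).resolve_right fun e =>
    hd1 ((mem_bot (G := U)).1 (e ▸ hdRc))
  have hdN : ∀ w ∈ M₂, Commute d w → w = 1 := fun w hw hdw => by
    by_contra hw1
    exact triple h3 hr4.prime hp.out hq.out hrp hrq hpq hdo (orderOf_of_mem hs hM hm₀ hm₀1)
      (orderOf_of_mem hs hN hw hw1) (hdM m₀ hm₀) hdw (commute_of_disjoint M M₂ hM hN hpq hm₀ hw)
  have hSD : S ≤ normalizer (Rc : Set U) := fun x hx => mem_normalizer_iff.2 fun y =>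
    and_congr (mem_normalizer_iff.1 (hSR x hx) y) (mem_normalizer_iff.1 (hN' (centralizer (M : Set U)) x) y)
  have hScd : ¬ ∀ x ∈ S, Commute x d := by
    intro hall
    obtain ⟨x, hx, hx1, m, hm, hm1, hxm⟩ := exists_fixed hS (fun y _ => hN' M y) (hcopM hs4.prime hsp) hM1
    exact triple h3 hs4.prime hr4.prime hp.out hsr hsp hrp (hS.orderOf_eq hx hx1) hdo
      (orderOf_of_mem hs hM hm hm1) (hall x hx) hxm (hdM m hm)
  rcases eq_or_ne s 2 with hs2 | hs2
  swap
  · exact hScd fun x hx => commute_of_small (hS.pow x hx) (hs4.not_dvd_pred hr4 hs2) (hSD hx) (Or.inl hRcr) d hdRc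
  subst hs2
  push Not at hScd
  obtain ⟨u, hu, hud⟩ := hScd
  have hinvd : ∀ {x}, x ∈ S → ¬ Commute x d → x * d * x⁻¹ = d⁻¹ := by
    intro x hx hxd
    refine inverts_of_fpf (by rw [← pow_two]; exact hS.pow x hx) (hSD hx) (fun y hy hxy => ?_) d hdRc
    by_contra hy1
    have hzy : zpowers y = Rc := by
      refine eq_of_le_of_card_ge (zpowers_le.2 hy) ?_
      rw [Nat.card_zpowers, hRcr, orderOf_of_mem hs hRp hy.1 hy1]
    obtain ⟨i, rfl⟩ := mem_zpowers_iff.1 (hzy ▸ hdRc)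
    exact hxd (hxy.zpow_right i)
  obtain ⟨v, hv, hvu⟩ := SetLike.not_le_iff_exists.1 (show ¬ S ≤ zpowers u from fun hle =>
    hS.ncyc u hu (le_antisymm (zpowers_le.2 hu) hle))
  obtain ⟨t, ht, ht1, htd⟩ : ∃ t ∈ S, t ≠ 1 ∧ Commute t d := by
    by_cases hvd : Commute v d
    · exact ⟨v, hv, fun e => hvu (e ▸ one_mem _), hvd⟩
    · refine ⟨u * v, mul_mem hu hv, fun e => hvu ?_, ?_⟩
      · rw [eq_inv_of_mul_eq_one_right e]; exact inv_mem (mem_zpowers u)
      · refine mul_inv_eq_iff_eq_mul.1 ?_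
        rw [show u * v * d * (u * v)⁻¹ = u * (v * d * v⁻¹) * u⁻¹ by group, hinvd hv hvd,
          show u * d⁻¹ * u⁻¹ = (u * d * u⁻¹)⁻¹ by group, hinvd hu hud, inv_inv]
  have hinvM : ∀ {x}, x ∈ S → ¬ Commute x d → ∀ m ∈ M, x * m * x⁻¹ = m⁻¹ := by
    intro x hx hxd
    have hx1 : x ≠ 1 := fun e => hxd (e ▸ Commute.one_left d)
    have hxx : x * x = 1 := by rw [← pow_two]; exact hS.pow x hx
    obtain ⟨w, hw, hw1, hxw⟩ : ∃ w ∈ M₂, w ≠ 1 ∧ Commute x w := by
      by_contra hno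
      push Not at hno
      have hi := inverts_of_fpf hxx (hN' M₂ x) (fun w hw hxw => by_contra fun hw1 => hno w hw hw1 hxw)
      obtain ⟨w, hw, hw1⟩ := M₂.bot_or_exists_ne_one.resolve_left hN1
      have hconj : ∀ y ∈ M₂, d * (d * y * d⁻¹) * d⁻¹ = y := by
        intro y hy
        have hy' : d * y * d⁻¹ ∈ M₂ := (mem_normalizer_iff.1 (hN' M₂ d) y).1 hy
        have e1 : (x * d * x⁻¹) * (d * y * d⁻¹) * (x * d * x⁻¹)⁻¹ = y := by
          rw [hinvd hx hxd]; group
        calc d * (d * y * d⁻¹) * d⁻¹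
            = x⁻¹ * ((x * d * x⁻¹) * (x * (d * y * d⁻¹) * x⁻¹) * (x * d * x⁻¹)⁻¹) * x := by group
          _ = x⁻¹ * (((x * d * x⁻¹) * (d * y * d⁻¹) * (x * d * x⁻¹)⁻¹)⁻¹) * x := by rw [hi _ hy']; group
          _ = x⁻¹ * y⁻¹ * x := by rw [e1]
          _ = x⁻¹ * (x * y * x⁻¹) * x := by rw [hi y hy]
          _ = y := by group
      refine hw1 (hdN w hw ?_)
      have hd2 : Commute (d ^ 2) w := by
        refine mul_inv_eq_iff_eq_mul.1 ?_
        calc d ^ 2 * w * (d ^ 2)⁻¹ = d * (d * w * d⁻¹) * d⁻¹ := by rw [pow_two]; group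
          _ = w := hconj w hw
      obtain ⟨i, hi'⟩ := exists_pow_eq_self_of_coprime (n := 2) (x := d)
        (by rw [hdo]; exact (Nat.coprime_primes Nat.prime_two hr4.prime).2 hsr)
      rw [← hi']; exact hd2.pow_left i
    refine inverts_of_fpf hxx (hN' M x) (fun m hm hxm => by_contra fun hm1 => ?_)
    exact triple h3 Nat.prime_two hp.out hq.out hsp hsq' hpq (hS.orderOf_eq hx hx1)
      (orderOf_of_mem hs hM hm hm1) (orderOf_of_mem hs hN hw hw1) hxm hxw (commute_of_disjoint M M₂ hM hN hpq hm hw)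
  have htu : ¬ Commute (t * u) d := fun h => hud (by
    have := (htd.inv_left).mul_left h
    rwa [inv_mul_cancel_left] at this)
  have htm : Commute t m₀ := by
    have hu0 := hinvM hu hud m₀ hm₀
    refine mul_inv_eq_iff_eq_mul.1 ?_
    calc t * m₀ * t⁻¹ = (t * u) * (u⁻¹ * m₀ * u) * (t * u)⁻¹ := by group
      _ = (t * u) * m₀⁻¹ * (t * u)⁻¹ := by
        rw [show u⁻¹ * m₀ * u = m₀⁻¹ by
          have huu : u⁻¹ = u := inv_eq_of_mul_eq_one_left (by rw [← pow_two]; exact hS.pow u hu)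
          rw [huu] at hu0 ⊢
          exact hu0]
      _ = m₀ := by rw [hinvM (mul_mem ht hu) htu _ (inv_mem hm₀), inv_inv]
  exact triple h3 Nat.prime_two hr4.prime hp.out hsr hsp hrp (hS.orderOf_eq ht ht1) hdo
    (orderOf_of_mem hs hM hm₀ hm₀1) htd htm (hdM m₀ hm₀)

/-- Two normal elementary abelian subgroups for different primes. -/
theorem false_two [Group.IsSolvable U] (hs : SqFree U) (h3 : NoTriple U)
    (hπ : ∀ q, q.Prime → q ∣ Nat.card U → Four q) (hsq : ∀ q, Four q → q * q ∣ Nat.card U)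
    {p q : ℕ} (hp4 : Four p) (hq4 : Four q) (hpq : p ≠ q) {M M₂ : Subgroup U} [M.Normal] [M₂.Normal]
    (hM : IsPGroup p M) (hMc : ∀ a ∈ M, ∀ b ∈ M, a * b = b * a) (hM1 : M ≠ ⊥)
    (hN : IsPGroup q M₂) (hNc : ∀ a ∈ M₂, ∀ b ∈ M₂, a * b = b * a) (hN1 : M₂ ≠ ⊥) : False := by
  haveI := Fact.mk hp4.prime
  haveI := Fact.mk hq4.prime
  obtain ⟨s₀, hs₀, hs₀2, hs₀p, hs₀q⟩ := Four.exists_odd p q
  obtain ⟨t₀, ht₀, ht₀p, ht₀q, ht₀s⟩ := Four.exists_fourth p q s₀
  obtain ⟨K, hKπ, hKd⟩ := hall_data (U := U) ({s₀, t₀} : Set ℕ)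
  obtain ⟨r, hr4, hrd⟩ := exists_big_pCore (sqFree_sub hs K) (four_sub hπ K) hs₀ hs₀2
    (hKd s₀ hs₀.prime (by simp) (hsq s₀ hs₀))
  have hrmem : r = s₀ ∨ r = t₀ :=
    hKπ r hr4.prime (((dvd_mul_right r r).trans hrd).trans (Cfsg.pCore r K).card_subgroup_dvd_card)
  obtain ⟨s, hs4, hsr, hsp, hsq', hrp, hrq, hsK⟩ : ∃ s, Four s ∧ s ≠ r ∧ s ≠ p ∧ s ≠ q ∧ r ≠ p ∧ r ≠ q ∧
      s * s ∣ Nat.card K := by
    rcases hrmem with rfl | rfl
    · exact ⟨t₀, ht₀, ht₀s, ht₀p, ht₀q, hs₀p, hs₀q, hKd t₀ ht₀.prime (by simp) (hsq t₀ ht₀)⟩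
    · exact ⟨s₀, hs₀, ht₀s.symm, hs₀p, hs₀q, ht₀p, ht₀q, hKd s₀ hs₀.prime (by simp) (hsq s₀ hs₀)⟩
  haveI := Fact.mk hr4.prime
  haveI := Fact.mk hs4.prime
  set R := coreIn r K with hR
  have hRp : IsPGroup r R := coreIn_isPGroup r K
  rw [← card_coreIn] at hrd
  have hN' : ∀ (N : Subgroup U) [N.Normal], ∀ x : U, x ∈ normalizer (N : Set U) := fun N _ x => by
    rw [normalizer_eq_top]; trivial
  obtain ⟨j, hj⟩ := IsPGroup.iff_card.1 hM
  have hcopM : ∀ {t : ℕ}, t.Prime → t ≠ p → t.Coprime (Nat.card M) := fun ht h =>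
    hj ▸ ((Nat.coprime_primes ht hp4.prime).2 h).pow_right j
  obtain ⟨S, hSK, hS⟩ := exists_pair_le hs hsK
  have hSR : ∀ x ∈ S, x ∈ normalizer (R : Set U) := fun x hx => le_normalizer_coreIn r K (hSK hx)
  have hfaith := faithful_of_two hs h3 hr4 hs4 hpq hsr hsp hsq' hrp hrq hM hM1 hN hN1 hRp hS hSR
  have hfaith₂ := faithful_of_two hs h3 hr4 hs4 hpq.symm hsr hsq' hsp hrq hrp hN hN1 hM hM1 hRp hS hSR
  by_cases hSc : ∀ x ∈ S, ∀ y ∈ R, Commute x y
  · obtain ⟨D, hD, hDp⟩ := exists_pair hs hRp hrd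
    obtain ⟨b, hb, hb1, m, hm, hm1, hbm⟩ := exists_fixed hDp (fun x _ => hN' M x) (hcopM hr4.prime hrp) hM1
    exact false_pair_fixed hs h3 hsr.symm hrp hsp (hDp.orderOf_eq hb hb1) hS
      (fun x hx => (hSc x hx b (hD hb)).symm) hM (fun x _ => hN' M x) hm hm1 hbm
  push Not at hSc
  obtain ⟨x, hx, hxne⟩ := hSc
  have hx1 : x ≠ 1 := fun e => by
    obtain ⟨y, -, hy⟩ := hxne; exact hy (e ▸ Commute.one_left y)
  obtain ⟨m, hm, hm1, hxm⟩ := fixed_of_action hs hrp.symm hsp.symm hsr.symm (hS.orderOf_eq hx hx1) hRp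
    (hSR x hx) hxne hM hMc hM1 (hN' M x) (fun y _ => hN' M y) hfaith
  obtain ⟨w, hw, hw1, hxw⟩ := fixed_of_action hs hrq.symm hsq'.symm hsr.symm (hS.orderOf_eq hx hx1) hRp
    (hSR x hx) hxne hN hNc hN1 (hN' M₂ x) (fun y _ => hN' M₂ y) hfaith₂
  exact triple h3 hs4.prime hp4.prime hq4.prime hsp hsq' hpq (hS.orderOf_eq hx hx1) (orderOf_of_mem hs hM hm hm1)
    (orderOf_of_mem hs hN hw hw1) hxm hxw (commute_of_disjoint M M₂ hM hN hpq hm hw)

theorem mem_normalizer_inf {x : U} {A B : Subgroup U} (hA : x ∈ normalizer (A : Set U))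
    (hB : x ∈ normalizer (B : Set U)) : x ∈ normalizer ((A ⊓ B : Subgroup U) : Set U) :=
  mem_normalizer_iff.2 fun y => and_congr (mem_normalizer_iff.1 hA y) (mem_normalizer_iff.1 hB y)

theorem mem_normalizer_coreIn {q : ℕ} [Fact q.Prime] {C : Subgroup U} {x : U}
    (hx : x ∈ normalizer (C : Set U)) : x ∈ normalizer (coreIn q C : Set U) := by
  have key : ∀ z ∈ normalizer (C : Set U), ∀ y ∈ coreIn q C, z * y * z⁻¹ ∈ coreIn q C := by
    intro z hz y hy
    have hCz : C.map (MulAut.conj z).toMonoidHom = C := by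
      refine le_antisymm ?_ fun c hc => ⟨z⁻¹ * c * z, (mem_normalizer_iff''.1 hz c).1 hc, ?_⟩
      · rintro _ ⟨c, hc, rfl⟩
        simpa using (mem_normalizer_iff.1 hz c).1 hc
      · simp [mul_assoc]
    refine le_coreIn (N := (coreIn q C).map (MulAut.conj z).toMonoidHom) ?_ ?_
      ((coreIn_isPGroup q C).map _) ⟨y, hy, by simp⟩
    · exact (map_mono (coreIn_le q C)).trans hCz.le
    · exact hCz.ge.trans ((map_mono (le_normalizer_coreIn q C)).trans (Subgroup.le_normalizer_map _))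
  refine mem_normalizer_iff.2 fun y => ⟨key x hx y, fun h => ?_⟩
  have := key x⁻¹ (inv_mem hx) _ h
  simpa [mul_assoc] using this

theorem Four.eq_fourth {p r a w q : ℕ} (hp : Four p) (hr : Four r) (ha : Four a) (hw : Four w) (hq : Four q)
    (h1 : p ≠ r) (h2 : p ≠ a) (h3 : r ≠ a) (h4 : w ≠ p) (h5 : w ≠ r) (h6 : w ≠ a)
    (k1 : q ≠ p) (k2 : q ≠ r) (k3 : q ≠ a) : q = w := by
  rcases hp with rfl | rfl | rfl | rfl <;> rcases hr with rfl | rfl | rfl | rfl <;>
    first | omega | (rcases ha with rfl | rfl | rfl | rfl <;> first | omega | (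
      rcases hw with rfl | rfl | rfl | rfl <;> first | omega | (rcases hq with rfl | rfl | rfl | rfl <;> omega)))

theorem exists_commute_of_pair_two {B : Subgroup U} (hB : Pair 2 B) {d : U} {r : ℕ} [Fact r.Prime]
    (hd : orderOf d = r) (hBd : B ≤ normalizer (zpowers d : Set U)) : ∃ t ∈ B, t ≠ 1 ∧ Commute t d := by
  have hd1 : d ≠ 1 := fun e => (Fact.out : r.Prime).ne_one (by rw [← hd, e, orderOf_one])
  by_contra hno
  push Not at hno
  have hinv : ∀ x ∈ B, x ≠ 1 → x * d * x⁻¹ = d⁻¹ := by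
    intro x hx hx1
    refine inverts_of_fpf (by rw [← pow_two]; exact hB.pow x hx) (hBd hx) (fun y hy hxy => ?_) d (mem_zpowers d)
    by_contra hy1
    have hz : zpowers y = zpowers d := by
      refine eq_of_le_of_card_ge (zpowers_le.2 hy) ?_
      rw [Nat.card_zpowers, Nat.card_zpowers, hd]
      rcases (Nat.dvd_prime (Fact.out : r.Prime)).1 (hd ▸ orderOf_dvd_of_mem_zpowers hy) with h | h
      · exact absurd (orderOf_eq_one_iff.1 h) hy1
      · exact h.ge
    obtain ⟨i, hi⟩ := mem_zpowers_iff.1 (hz ▸ mem_zpowers d : d ∈ zpowers y)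
    exact hno x hx hx1 (hi ▸ hxy.zpow_right i)
  obtain ⟨u, hu, hu1⟩ := B.bot_or_exists_ne_one.resolve_left fun e =>
    hB.ncyc 1 (one_mem B) (by rw [e, zpowers_one_eq_bot])
  obtain ⟨v, hv, hvu⟩ := SetLike.not_le_iff_exists.1 (show ¬ B ≤ zpowers u from fun hle =>
    hB.ncyc u hu (le_antisymm (zpowers_le.2 hu) hle))
  have huv : u * v ≠ 1 := fun e => hvu (by rw [eq_inv_of_mul_eq_one_right e]; exact inv_mem (mem_zpowers u))
  refine hno (u * v) (mul_mem hu hv) huv (mul_inv_eq_iff_eq_mul.1 ?_)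
  rw [show u * v * d * (u * v)⁻¹ = u * (v * d * v⁻¹) * u⁻¹ by group, hinv v hv fun e => hvu (e ▸ one_mem _),
    show u * d⁻¹ * u⁻¹ = (u * d * u⁻¹)⁻¹ by group, hinv u hu hu1, inv_inv]

/-- A faithful soluble group of operators on one module. -/
theorem false_main [Group.IsSolvable U] (hs : SqFree U) (h3 : NoTriple U)
    (hπ : ∀ q, q.Prime → q ∣ Nat.card U → Four q) {p : ℕ} (hp4 : Four p)
    (hsq : ∀ q, Four q → q ≠ p → q * q ∣ Nat.card U) {V : Subgroup U} [V.Normal] (hV : IsPGroup p V)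
    (hVc : ∀ a ∈ V, ∀ b ∈ V, a * b = b * a) (hV1 : V ≠ ⊥) (hCV : centralizer (V : Set U) ≤ V) : False := by
  haveI := Fact.mk hp4.prime
  have hN' : ∀ x : U, x ∈ normalizer (V : Set U) := fun x => by rw [normalizer_eq_top]; trivial
  obtain ⟨j, hj⟩ := IsPGroup.iff_card.1 hV
  have hcop : ∀ {t : ℕ}, t.Prime → t ≠ p → t.Coprime (Nat.card V) := fun ht h =>
    hj ▸ ((Nat.coprime_primes ht hp4.prime).2 h).pow_right j
  obtain ⟨K, hKπ, hKd⟩ := hall_data (U := U) ({p}ᶜ : Set ℕ)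
  have hKp : ∀ q, q.Prime → q ∣ Nat.card K → q ≠ p := fun q hq hd e => hKπ q hq hd (by simp [e])
  have hfK : ∀ y ∈ K, y ≠ 1 → ∃ v ∈ V, ¬ Commute y v := by
    intro y hy hy1
    by_contra hno
    push Not at hno
    have hyo := orderOf_of_mem hs hV (hCV (mem_centralizer_iff.2 fun v hv => (hno v hv).symm)) hy1
    exact hKp p hp4.prime (hyo ▸ K.orderOf_dvd_natCard hy) rfl
  obtain ⟨s₀, hs₀, hs₀2, hs₀p, -⟩ := Four.exists_odd p p
  obtain ⟨r, hr4, hrd⟩ := exists_big_pCore (sqFree_sub hs K) (four_sub hπ K) hs₀ hs₀2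
    (hKd s₀ hs₀.prime (by simpa using hs₀p) (hsq s₀ hs₀ hs₀p))
  have hrp : r ≠ p :=
    hKp r hr4.prime (((dvd_mul_right r r).trans hrd).trans (Cfsg.pCore r K).card_subgroup_dvd_card)
  haveI := Fact.mk hr4.prime
  set R := coreIn r K with hR
  have hRp : IsPGroup r R := coreIn_isPGroup r K
  rw [← card_coreIn] at hrd
  have hKR : K ≤ normalizer (R : Set U) := le_normalizer_coreIn r K
  obtain ⟨D, hD, hDp⟩ := exists_pair hs hRp hrd
  -- an operator of odd prime order centralising `R`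
  obtain ⟨s, hs4, hs2, hsp, hsr⟩ := Four.exists_odd p r
  haveI := Fact.mk hs4.prime
  obtain ⟨B, hBK, hB⟩ := exists_pair_le hs (hKd s hs4.prime (by simpa using hsp) (hsq s hs4 hsp))
  obtain ⟨h₀, hh₀, hh₀1, hh₀R⟩ : ∃ b ∈ B, b ≠ 1 ∧ ∀ y ∈ R, Commute b y := by
    by_contra hno
    push Not at hno
    obtain ⟨b, hb, hb1, D', hD', hD'p, hbD⟩ := exists_fixed_pair hs hsr (hs4.not_dvd_pred hr4 hs2) hB hRp
      (hBK.trans hKR) hno
    obtain ⟨y, hy, hby⟩ := hno b hb hb1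
    obtain ⟨v, hv, hv1, hbv⟩ := fixed_of_action hs hrp.symm hsp.symm hsr.symm (hB.orderOf_eq hb hb1) hRp
      (hKR (hBK hb)) ⟨y, hy, hby⟩ hV hVc hV1 (hN' b) (fun z _ => hN' z)
      (fun z hz hz1 => hfK z (coreIn_le r K hz) hz1)
    exact false_pair_fixed hs h3 hsr hsp hrp (hB.orderOf_eq hb hb1) hD'p hbD hV (fun z _ => hN' z) hv hv1 hbv
  set C := K ⊓ centralizer (R : Set U) with hC
  have hKC : K ≤ normalizer (C : Set U) := fun x hx =>
    mem_normalizer_inf (le_normalizer hx) (CfsgLib.Coprime.normalizer_le_normalizer_centralizer R (hKR hx))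
  have hCR : ∀ {z}, z ∈ C → ∀ y ∈ R, Commute z y := fun hz y hy => (mem_centralizer_iff.1 hz.2 y hy).symm
  have hh₀C : h₀ ∈ C := ⟨hBK hh₀, mem_centralizer_iff.2 fun y hy => (hh₀R y hy).symm⟩
  obtain ⟨a, ha4, har, hap, hA1⟩ : ∃ a, Four a ∧ a ≠ r ∧ a ≠ p ∧ coreIn a C ≠ ⊥ := by
    by_contra hno
    push Not at hno
    have hF : ∀ z : C, z ∈ Cfsg.fittingSubgroup C → z ∈ Cfsg.pCore r C := by
      rw [← SetLike.le_def, CfsgLib.Coprime.fitting_eq_iSup_pCore]
      refine iSup_le fun q => ?_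
      rcases eq_or_ne (q : ℕ) r with e | e
      · exact le_of_eq (by rw [e])
      · haveI : Fact (q : ℕ).Prime := ⟨q.2⟩
        by_cases h0 : Cfsg.pCore (q : ℕ) C = ⊥
        · rw [h0]; exact bot_le
        · exfalso
          obtain ⟨i, hi⟩ := IsPGroup.iff_card.1 (CfsgLib.Coprime.pCore_isPGroup (G := C) (q : ℕ))
          have hd : (q : ℕ) ∣ Nat.card K := by
            refine dvd_trans ?_ ((Cfsg.pCore (q : ℕ) C).card_subgroup_dvd_card.trans
              (Subgroup.card_dvd_of_le inf_le_left))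
            rw [hi]
            exact dvd_pow_self _ fun e0 => h0 (by rw [← Subgroup.card_eq_one, hi, e0, pow_zero])
          have hq4 := four_sub hπ K q q.2 hd
          exact h0 ((map_eq_bot_iff_of_injective _ C.subtype_injective).1 (hno q hq4 e (hKp q q.2 hd)))
    have hZR : coreIn r C ≤ R := le_coreIn ((coreIn_le r C).trans inf_le_left)
      (fun x hx => mem_normalizer_coreIn (hKC hx)) (coreIn_isPGroup r C)
    have hmem : (⟨h₀, hh₀C⟩ : C) ∈ Cfsg.fittingSubgroup C := by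
      refine CfsgLib.Coprime.centralizer_fitting_le (mem_centralizer_iff.2 fun z hz => Subtype.ext ?_)
      exact (hh₀R z (hZR ⟨z, hF z hz, rfl⟩)).eq.symm
    have ho := orderOf_of_mem hs (coreIn_isPGroup r C) ⟨_, hF _ hmem, rfl⟩ hh₀1
    exact hsr ((hB.orderOf_eq hh₀ hh₀1).symm.trans ho)
  haveI := Fact.mk ha4.prime
  set A := coreIn a C with hA
  have hAp : IsPGroup a A := coreIn_isPGroup a C
  have hAC : A ≤ C := coreIn_le a C
  have hKA : K ≤ normalizer (A : Set U) := fun x hx => mem_normalizer_coreIn (hKC hx)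
  by_cases hbig : a * a ∣ Nat.card A
  · obtain ⟨E, hE, hEp⟩ := exists_pair hs hAp hbig
    obtain ⟨b, hb, hb1, v, hv, hv1, hbv⟩ := exists_fixed hDp (fun z _ => hN' z) (hcop hr4.prime hrp) hV1
    exact false_pair_fixed hs h3 har.symm hrp hap (hDp.orderOf_eq hb hb1) hEp
      (fun z hz => (hCR (hAC (hE hz)) b (hD hb)).symm) hV (fun z _ => hN' z) hv hv1 hbv
  have hAc : Nat.card A = a := (card_le_prime hAp hbig).resolve_right hA1
  obtain ⟨h, hh, hh1⟩ := A.bot_or_exists_ne_one.resolve_left hA1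
  have hho : orderOf h = a := orderOf_of_mem hs hAp hh hh1
  have hAz : zpowers h = A := eq_of_le_of_card_ge (zpowers_le.2 hh) (by rw [Nat.card_zpowers, hho, hAc])
  obtain ⟨ρ₁, hρ₁, hρ₁1⟩ := D.bot_or_exists_ne_one.resolve_left fun e =>
    hDp.ncyc 1 (one_mem D) (by rw [e, zpowers_one_eq_bot])
  obtain ⟨w, hw4, hwp, hwr, hwa⟩ := Four.exists_fourth p r a
  haveI := Fact.mk hw4.prime
  obtain ⟨W, hWK, hW⟩ := exists_pair_le hs (hKd w hw4.prime (by simpa using hwp) (hsq w hw4 hwp))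
  have hcopR : ∀ {t : ℕ}, t.Prime → t ≠ r → t.Coprime (Nat.card R) := fun ht hne => by
    obtain ⟨i, hi⟩ := IsPGroup.iff_card.1 hRp
    exact hi ▸ ((Nat.coprime_primes ht hr4.prime).2 hne).pow_right i
  rcases eq_or_ne w 2 with hw2 | hw2
  swap
  · obtain ⟨b, hb, hb1, ρ, hρ, hρ1, hbρ⟩ := exists_fixed hW (hWK.trans hKR) (hcopR hw4.prime hwr)
      (fun e => hρ₁1 ((mem_bot (G := U)).1 (e ▸ hD hρ₁)))
    exact triple h3 hw4.prime ha4.prime hr4.prime hwa hwr har (hW.orderOf_eq hb hb1) hho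
      (orderOf_of_mem hs hRp hρ hρ1)
      (commute_of_small (hW.pow b hb) (hw4.not_dvd_pred ha4 hw2) (hKA (hWK hb)) (Or.inl hAc) h hh) hbρ
      (hCR (hAC hh) ρ hρ)
  subst hw2
  obtain ⟨x, hxW, hx1, hxh⟩ := exists_commute_of_pair_two hW hho (hAz.symm ▸ hWK.trans hKA)
  have hxo := hW.orderOf_eq hxW hx1
  have hxx : x * x = 1 := by rw [← pow_two]; exact hW.pow x hxW
  have hxK : x ∈ K := hWK hxW
  have hinv : ∀ ρ ∈ R, x * ρ * x⁻¹ = ρ⁻¹ := inverts_of_fpf hxx (hKR hxK) fun ρ hρ hxρ => by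
    by_contra hρ1
    exact triple h3 Nat.prime_two ha4.prime hr4.prime hwa hwr har hxo hho (orderOf_of_mem hs hRp hρ hρ1) hxh hxρ
      (hCR (hAC hh) ρ hρ)
  have hRc : ∀ y ∈ R, ∀ z ∈ R, Commute y z := by
    intro y hy z hz
    have e := hinv (y * z) (mul_mem hy hz)
    rw [show x * (y * z) * x⁻¹ = (x * y * x⁻¹) * (x * z * x⁻¹) by group, hinv y hy, hinv z hz, ← mul_inv_rev,
      inv_inj] at e
    exact e.symm
  set C₀ := C ⊓ centralizer (A : Set U) with hC₀
  have hKC₀ : K ≤ normalizer (C₀ : Set U) := fun z hz =>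
    mem_normalizer_inf (hKC hz) (CfsgLib.Coprime.normalizer_le_normalizer_centralizer A (hKA hz))
  have hC₀A : ∀ {z}, z ∈ C₀ → ∀ y ∈ A, Commute z y := fun hz y hy => (mem_centralizer_iff.1 hz.2 y hy).symm
  have hAR : A ≤ normalizer (R : Set U) := hAC.trans (inf_le_left.trans hKR)
  have hC₀le : C₀ ≤ R ⊔ A := by
    have hF : ∀ z : C₀, z ∈ Cfsg.fittingSubgroup C₀ → (z : U) ∈ R ⊔ A := by
      change Cfsg.fittingSubgroup C₀ ≤ (R ⊔ A).comap C₀.subtype
      rw [CfsgLib.Coprime.fitting_eq_iSup_pCore]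
      refine iSup_le fun q => ?_
      haveI : Fact (q : ℕ).Prime := ⟨q.2⟩
      rw [← map_le_iff_le_comap]
      change coreIn (q : ℕ) C₀ ≤ R ⊔ A
      have hNK : coreIn (q : ℕ) C₀ ≤ K := (coreIn_le _ C₀).trans (inf_le_left.trans inf_le_left)
      have hKN : K ≤ normalizer (coreIn (q : ℕ) C₀ : Set U) := fun z hz => mem_normalizer_coreIn (hKC₀ hz)
      rcases eq_or_ne (coreIn (q : ℕ) C₀) ⊥ with h0 | h0
      · rw [h0]; exact bot_le
      obtain ⟨n, hn, hn1⟩ := (coreIn (q : ℕ) C₀).bot_or_exists_ne_one.resolve_left h0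
      have hno := orderOf_of_mem hs (coreIn_isPGroup (q : ℕ) C₀) hn hn1
      have hqK : (q : ℕ) ∣ Nat.card K := hno ▸ K.orderOf_dvd_natCard (hNK hn)
      rcases eq_or_ne (q : ℕ) r with e | e
      · exact le_sup_of_le_left (le_coreIn hNK hKN (e ▸ coreIn_isPGroup (q : ℕ) C₀))
      rcases eq_or_ne (q : ℕ) a with e' | e'
      · exact le_sup_of_le_right (le_coreIn ((coreIn_le _ C₀).trans inf_le_left)
          (inf_le_left.trans hKN) (e' ▸ coreIn_isPGroup (q : ℕ) C₀))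
      exfalso
      have hq2 := Four.eq_fourth hp4 hr4 ha4 hw4 (four_sub hπ K q q.2 hqK) hrp.symm hap.symm har.symm hwp hwr hwa
        (hKp q q.2 hqK) e e'
      have hnC : n ∈ C₀ := coreIn_le _ C₀ hn
      exact triple h3 Nat.prime_two ha4.prime hr4.prime hwa hwr har (hno.trans hq2) hho (hDp.orderOf_eq hρ₁ hρ₁1)
        (hC₀A hnC h hh) (hCR hnC.1 ρ₁ (hD hρ₁)) (hCR (hAC hh) ρ₁ (hD hρ₁))
    intro z hz
    refine hF ⟨z, hz⟩ (CfsgLib.Coprime.centralizer_fitting_le (mem_centralizer_iff.2 fun y hy => Subtype.ext ?_))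
    obtain ⟨ρ, hρ, h', hh', e⟩ := CfsgLib.Coprime.mem_sup_exists hAR (hF y hy)
    change (y : U) * z = z * y
    rw [← e]
    exact ((hCR hz.1 ρ hρ).mul_right (hC₀A hz h' hh')).eq.symm
  obtain ⟨E, hEK, hE⟩ := exists_pair_le hs (hKd a ha4.prime (by simpa using hap) (hsq a ha4 hap))
  obtain ⟨g, hg, hgh⟩ := SetLike.not_le_iff_exists.1 (show ¬ E ≤ zpowers h from fun hle => by
    obtain ⟨e, he, he1⟩ := E.bot_or_exists_ne_one.resolve_left fun e =>
      hE.ncyc 1 (one_mem E) (by rw [e, zpowers_one_eq_bot])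
    refine hE.ncyc e he (le_antisymm (zpowers_le.2 he) (hle.trans_eq (eq_of_le_of_card_ge ?_ ?_).symm))
    · exact zpowers_le.2 (hle he)
    · rw [Nat.card_zpowers, Nat.card_zpowers, hE.orderOf_eq he he1, hho])
  have hg1 : g ≠ 1 := fun e => hgh (e ▸ one_mem _)
  have hgK : g ∈ K := hEK hg
  have hgo := hE.orderOf_eq hg hg1
  have hgcA : ∀ y ∈ A, Commute g y := commute_of_small (hE.pow g hg)
    (fun hd => by
      have := Nat.le_of_dvd (by have := ha4.prime.two_le; omega) hd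
      have := ha4.prime.two_le
      omega) (hKA hgK) (Or.inl hAc)
  have hxA : ∀ y ∈ A, Commute x y := fun y hy => by
    obtain ⟨i, rfl⟩ := mem_zpowers_iff.1 (hAz.symm ▸ hy : y ∈ zpowers h)
    exact hxh.zpow_right i
  set c := x * g * x⁻¹ * g⁻¹ with hc
  have hcC₀ : c ∈ C₀ := by
    refine Subgroup.mem_inf.2 ⟨Subgroup.mem_inf.2
      ⟨mul_mem (mul_mem (mul_mem hxK hgK) (inv_mem hxK)) (inv_mem hgK), mem_centralizer_iff.2 fun y hy => ?_⟩,
      mem_centralizer_iff.2 fun y hy => ?_⟩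
    · refine (mul_inv_eq_iff_eq_mul.1 ?_).symm
      have hσ : g⁻¹ * y * g ∈ R := (mem_normalizer_iff''.1 (hKR hgK) y).1 hy
      have hxinv : x⁻¹ = x := inv_eq_of_mul_eq_one_left hxx
      calc c * y * c⁻¹ = x * (g * (x⁻¹ * (g⁻¹ * y * g) * x) * g⁻¹) * x⁻¹ := by rw [hc]; group
        _ = x * (g * (g⁻¹ * y * g)⁻¹ * g⁻¹) * x⁻¹ := by
          have := hinv _ hσ
          rw [hxinv] at this ⊢
          rw [this]
        _ = x * y⁻¹ * x⁻¹ := by group
        _ = y := by rw [hinv _ (inv_mem hy), inv_inv]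
    · exact (((hxA y hy).mul_left (hgcA y hy)).mul_left (hxA y hy).inv_left |>.mul_left (hgcA y hy).inv_left).eq.symm
  obtain ⟨ρ₀, hρ₀, h', hh', hce⟩ := CfsgLib.Coprime.mem_sup_exists hAR (hC₀le hcC₀)
  have hh'1 : h' = 1 := by
    have e1 : x * g * x⁻¹ = ρ₀ * h' * g := by rw [hce, hc]; group
    have hxh' : x * h' * x⁻¹ = h' := mul_inv_eq_iff_eq_mul.2 (hxA h' hh').eq
    have hρh : ρ₀⁻¹ * h' * ρ₀ = h' := by rw [mul_assoc, (hCR (hAC hh') ρ₀ hρ₀).eq, inv_mul_cancel_left]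
    have e2 : g = h' * h' * g := by
      calc g = x * (x * g * x⁻¹) * x⁻¹ := by
            rw [show x * (x * g * x⁻¹) * x⁻¹ = (x * x) * g * (x * x)⁻¹ by group, hxx]; group
        _ = (x * ρ₀ * x⁻¹) * (x * h' * x⁻¹) * (x * g * x⁻¹) := by
            conv_lhs => rw [e1]
            group
        _ = ρ₀⁻¹ * h' * (ρ₀ * h' * g) := by rw [hinv ρ₀ hρ₀, hxh', e1]
        _ = (ρ₀⁻¹ * h' * ρ₀) * h' * g := by group
        _ = h' * h' * g := by rw [hρh]
    have e3 : h' * h' = 1 := mul_eq_right.1 e2.symm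
    by_contra hne
    exact hwa (orderOf_eq_prime (by rw [pow_two]; exact e3) hne ▸ orderOf_of_mem hs hAp hh' hne)
  rw [hh'1, mul_one] at hce
  have hbase : g * x * g⁻¹ * x⁻¹ ∈ R := by
    rw [show g * x * g⁻¹ * x⁻¹ = c⁻¹ by rw [hc]; group, ← hce]
    exact inv_mem hρ₀
  have hpow : ∀ n : ℕ, g ^ n * x * (g ^ n)⁻¹ * x⁻¹ ∈ R := by
    intro n
    induction n with
    | zero => simp [one_mem]
    | succ n ih =>
      rw [pow_succ', show g * g ^ n * x * (g * g ^ n)⁻¹ * x⁻¹ =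
        (g * (g ^ n * x * (g ^ n)⁻¹ * x⁻¹) * g⁻¹) * (g * x * g⁻¹ * x⁻¹) by group]
      exact mul_mem ((mem_normalizer_iff.1 (hKR hgK) _).1 ih) hbase
  obtain ⟨n, hn, hxn⟩ := CfsgLib.Coprime.exists_fixed_in_coset (A := zpowers g) (N := R)
    (zpowers_le.2 (hKR hgK)) (by rw [Nat.card_zpowers, hgo]; exact hcopR ha4.prime har)
    (Or.inl inferInstance) (hKR hxK) (fun y hy => by
      obtain ⟨i, rfl⟩ := (isOfFinOrder_of_finite g).mem_powers_iff_mem_zpowers.2 hy
      exact hpow i)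
  set x' := x * n with hx'
  have hx'g : Commute x' g := (mem_centralizer_iff.1 hxn g (mem_zpowers g)).symm
  have hx'h : Commute x' h := hxh.mul_left ((hCR (hAC hh) n hn).symm)
  have hx'inv : ∀ ρ ∈ R, x' * ρ * x'⁻¹ = ρ⁻¹ := fun ρ hρ => by
    rw [hx', show x * n * ρ * (x * n)⁻¹ = x * (n * ρ * n⁻¹) * x⁻¹ by group, (hRc n hn ρ hρ).eq, mul_inv_cancel_right,
      hinv ρ hρ]
  have hx'x' : x' * x' = 1 := by
    rw [hx', show x * n * (x * n) = (x * n * x⁻¹) * (x * x) * n by group, hinv n hn, hxx]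
    group
  have hx'1 : x' ≠ 1 := fun e => hwr (by
    rw [← hxo]
    exact orderOf_of_mem hs hRp (eq_inv_of_mul_eq_one_left e ▸ inv_mem hn : x ∈ R) hx1)
  have hx'o : orderOf x' = 2 := orderOf_eq_prime (by rw [pow_two]; exact hx'x') hx'1
  have hne' : ∃ y ∈ R, ¬ Commute x' y := by
    refine ⟨ρ₁, hD hρ₁, fun hcm => hwr ?_⟩
    have e := hx'inv ρ₁ (hD hρ₁)
    rw [hcm.eq, mul_inv_cancel_right] at e
    rw [← hDp.orderOf_eq hρ₁ hρ₁1]
    refine (orderOf_eq_prime ?_ hρ₁1).symm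
    rw [pow_two]; nth_rewrite 2 [e]; rw [mul_inv_cancel]
  obtain ⟨v, hv, hv1, hxv⟩ := fixed_of_action hs hrp.symm hwp.symm hwr.symm hx'o hRp
    (mul_mem (hKR hxK) (le_normalizer hn)) hne' hV hVc hV1 (hN' x') (fun z _ => hN' z)
    (fun z hz hz1 => hfK z (coreIn_le r K hz) hz1)
  have hPp : IsPGroup a (zpowers h ⊔ zpowers g : Subgroup U) := by
    refine IsPGroup.to_sup_of_normal_right' (IsPGroup.of_card (n := 1) (by rw [Nat.card_zpowers, hho, pow_one]))
      (IsPGroup.of_card (n := 1) (by rw [Nat.card_zpowers, hgo, pow_one])) ?_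
    refine zpowers_le.2 (centralizer_le_normalizer _ (mem_centralizer_iff.2 fun y hy => ?_))
    obtain ⟨i, rfl⟩ := mem_zpowers_iff.1 hy
    exact ((hgcA h hh).zpow_left i).eq
  obtain ⟨E', hE'le, hE', -, -⟩ := exists_pair_with hs hPp (mem_sup_left (mem_zpowers h))
    (fun y hy => by
      have hle : zpowers h ⊔ zpowers g ≤ centralizer ({h} : Set U) := sup_le
        (zpowers_le.2 (by simp [mem_centralizer_iff]))
        (zpowers_le.2 (by simpa [mem_centralizer_iff] using (hgcA h hh).eq.symm))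
      exact (mem_centralizer_iff.1 (hle hy) h rfl))
    (mem_sup_right (mem_zpowers g)) hgh hh1
  have hxE : zpowers h ⊔ zpowers g ≤ centralizer ({x'} : Set U) := sup_le
    (zpowers_le.2 (by simpa [mem_centralizer_iff] using hx'h.eq))
    (zpowers_le.2 (by simpa [mem_centralizer_iff] using hx'g.eq))
  exact false_pair_fixed hs h3 hwa hwp hap hx'o hE'
    (fun z hz => mem_centralizer_iff.1 (hxE (hE'le hz)) x' rfl) hV (fun z _ => hN' z) hv hv1 hxv

/-- No soluble group with all four primes squared. -/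
theorem false_of_dvd [Group.IsSolvable U] (hs : SqFree U) (h3 : NoTriple U)
    (hπ : ∀ q, q.Prime → q ∣ Nat.card U → Four q) (hsq : ∀ q, Four q → q * q ∣ Nat.card U) : False := by
  haveI : Nontrivial U := Finite.one_lt_card_iff_nontrivial.1
    (lt_of_lt_of_le (by norm_num : 1 < 2 * 2) (Nat.le_of_dvd Nat.card_pos (hsq 2 (Or.inl rfl))))
  obtain ⟨p, M, hp, hMn, -, hM1, hMc, hMpow, -⟩ :=
    CfsgLib.Coprime.ClassMod.exists_minimal_normal_elementary_sub (D := (⊤ : Subgroup U)) top_ne_bot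
  haveI := hMn
  haveI := Fact.mk hp
  have hMp : IsPGroup p M := fun m => ⟨1, Subtype.ext (by simpa using hMpow m m.2)⟩
  have hprime : ∀ {t : ℕ} [Fact t.Prime] {H : Subgroup U}, IsPGroup t H → H ≠ ⊥ → Four t := by
    intro t ht H hH hH1
    obtain ⟨y, hy, hy1⟩ := H.bot_or_exists_ne_one.resolve_left hH1
    exact hπ t ht.out (orderOf_of_mem hs hH hy hy1 ▸ orderOf_dvd_natCard y)
  have hp4 := hprime hMp hM1
  have hcore : ∀ q : Nat.Primes, (q : ℕ) ≠ p → Cfsg.pCore (q : ℕ) U = ⊥ := by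
    intro q hqp
    by_contra h0
    haveI : Fact (q : ℕ).Prime := ⟨q.2⟩
    haveI := CfsgLib.Coprime.pCore_normal' (G := U) (q : ℕ)
    obtain ⟨q', N, hq', hNn, hNle, hN1, hNc, hNpow, -⟩ :=
      CfsgLib.Coprime.ClassMod.exists_minimal_normal_elementary_sub h0
    haveI := hNn
    have hNq : IsPGroup (q : ℕ) N := (CfsgLib.Coprime.pCore_isPGroup (G := U) (q : ℕ)).to_le hNle
    exact false_two hs h3 hπ hsq hp4 (hprime hNq hN1) (Ne.symm hqp) hMp hMc hM1 hNq hNc hN1
  set P := Cfsg.pCore p U with hP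
  haveI hPn : P.Normal := CfsgLib.Coprime.pCore_normal' (G := U) p
  have hPp : IsPGroup p P := CfsgLib.Coprime.pCore_isPGroup p
  have hCP : centralizer (P : Set U) ≤ P := by
    have hF : Cfsg.fittingSubgroup U ≤ P := by
      rw [CfsgLib.Coprime.fitting_eq_iSup_pCore]
      refine iSup_le fun q => ?_
      rcases eq_or_ne (q : ℕ) p with e | e
      · exact le_of_eq (by rw [e])
      · rw [hcore q e]; exact bot_le
    exact (centralizer_le hF).trans (CfsgLib.Coprime.centralizer_fitting_le.trans hF)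
  have hP1 : P ≠ ⊥ := fun e => hM1 (le_bot_iff.1 (e ▸ CfsgLib.Coprime.le_pCore hMp))
  haveI : Nontrivial P := (Subgroup.nontrivial_iff_ne_bot P).2 hP1
  set Φ := (frattini P).map P.subtype with hΦ
  haveI : Φ.Normal := map_subtype_normal_of_characteristic P (frattini P)
  have hΦP : Φ ≤ P := map_subtype_le _
  obtain ⟨i, hi⟩ := IsPGroup.iff_card.1 (hPp.to_le hΦP : IsPGroup p Φ)
  set π := QuotientGroup.mk' Φ with hπ'
  have hsur : Function.Surjective π := QuotientGroup.mk'_surjective Φ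
  have hs' : SqFree (U ⧸ Φ) := fun y => by
    obtain ⟨y, rfl⟩ := hsur y
    exact (hs y).squarefree_of_dvd (orderOf_map_dvd π y)
  have h3' : NoTriple (U ⧸ Φ) := fun y q r t hq hr ht h1 h2 h4 hd => by
    obtain ⟨y, rfl⟩ := hsur y
    exact h3 y q r t hq hr ht h1 h2 h4 (hd.trans (orderOf_map_dvd π y))
  haveI : (P.map π).Normal := hPn.map π hsur
  refine false_main (U := U ⧸ Φ) hs' h3' (fun q hq hd => hπ q hq (hd.trans Φ.card_quotient_dvd_card)) hp4
    (fun q hq hqp => ?_) (V := P.map π) (hPp.map π) ?_ ?_ ?_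
  · have hd := hsq q hq
    rw [Subgroup.card_eq_card_quotient_mul_card_subgroup Φ] at hd
    have hc : q.Coprime (Nat.card Φ) := hi ▸ ((Nat.coprime_primes hq.prime hp).2 hqp).pow_right i
    exact (Nat.Coprime.mul_left hc hc).dvd_of_dvd_mul_right hd
  · rintro _ ⟨y, hy, rfl⟩ _ ⟨z, hz, rfl⟩
    rw [← map_mul, ← map_mul]
    refine QuotientGroup.eq.2 ?_
    refine ⟨⁅(⟨z, hz⟩ : P)⁻¹, (⟨y, hy⟩ : P)⁻¹⁆, CfsgLib.Coprime.commutator_le_frattini hPp
      (commutator_mem_commutator (mem_top _) (mem_top _)), ?_⟩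
    change z⁻¹ * y⁻¹ * z⁻¹⁻¹ * y⁻¹⁻¹ = (y * z)⁻¹ * (z * y)
    group
  · intro e
    rw [Subgroup.map_eq_bot_iff, QuotientGroup.ker_mk'] at e
    refine bot_ne_top (α := Subgroup P) (frattini_nongenerating ?_)
    rw [bot_sup_eq]
    refine eq_top_iff.2 fun y _ => ?_
    obtain ⟨z, hz, he⟩ := e y.2
    exact (Subtype.ext he : z = y) ▸ hz
  · intro y hy
    obtain ⟨y, rfl⟩ := hsur y
    set C := (centralizer ((P.map π : Subgroup (U ⧸ Φ)) : Set (U ⧸ Φ))).comap π with hC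
    have hCp : IsPGroup p C := by
      rw [IsPGroup.iff_card]
      refine ⟨(Nat.card C).primeFactorsList.length, Nat.eq_prime_pow_of_unique_prime_dvd Nat.card_pos.ne' ?_⟩
      intro q hq hd
      by_contra hqp
      haveI := Fact.mk hq
      obtain ⟨⟨z, hz⟩, hzo⟩ := exists_prime_orderOf_dvd_card' (G := C) q hd
      rw [Subgroup.orderOf_mk] at hzo
      have hzP : z ∈ P := by
        refine hCP (CfsgLib.Coprime.le_centralizer_of_trivial_on_frattini_quotient (A := zpowers z) (K := P)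
          (fun x _ => by rw [normalizer_eq_top]; trivial) ?_ ?_ (mem_zpowers z))
        · rw [Nat.card_zpowers, hzo, ← card_map_of_injective P.subtype_injective, ← hΦ, hi]
          exact ((Nat.coprime_primes hq hp).2 hqp).pow_right i
        · intro x hx k hk
          rw [← hΦ, ← QuotientGroup.eq_one_iff]
          have hxC : x ∈ C := zpowers_le.2 hz hx
          have hcm := mem_centralizer_iff.1 (mem_comap.1 hxC) (π k) ⟨k, hk, rfl⟩
          change π (x * k * x⁻¹ * k⁻¹) = 1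
          rw [map_mul, map_mul, map_mul, map_inv, map_inv, ← hcm]; group
      exact hqp ((hzo.symm.trans (orderOf_of_mem hs hPp hzP fun e => hq.ne_one (by rw [← hzo, e, orderOf_one]))))
    exact ⟨y, CfsgLib.Coprime.le_pCore hCp hy, rfl⟩

theorem sq_dvd_of_not_isCyclic {q : ℕ} [hq : Fact q.Prime] (S : Sylow q U) (h : ¬ IsCyclic S) :
    q * q ∣ Nat.card U := by
  by_contra hno
  rcases card_le_prime S.isPGroup' (fun hd => hno (hd.trans S.1.card_subgroup_dvd_card)) with hc | hc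
  · exact h (isCyclic_of_prime_card hc)
  · exact h (by rw [show (S : Subgroup U) = ⊥ from hc]; infer_instance)

end CfsgLib.Spor.JOneSquare.Sol

namespace CfsgLib.Spor.JOneSquare

open Sol

universe v

/-- The interface for J1 x J1. -/
theorem false_of_solvable {U : Type v} [Group U] [Finite U] (hU : Group.IsSolvable U)
    (hdvd : ∀ p, p.Prime → p ∣ Nat.card U → p = 2 ∨ p = 7 ∨ p = 11 ∨ p = 19)
    (hnc : ∀ p, (p = 2 ∨ p = 7 ∨ p = 11 ∨ p = 19) → ∀ S : Sylow p U, ¬ IsCyclic S)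
    (hsq : ∀ x : U, Squarefree (orderOf x))
    (h3 : ∀ x : U, ∀ p q r : ℕ, p.Prime → q.Prime → r.Prime → p ≠ q → p ≠ r → q ≠ r → ¬ p * q * r ∣ orderOf x) :
    False := by
  haveI := hU
  refine false_of_dvd hsq h3 hdvd fun q hq => ?_
  haveI := Fact.mk hq.prime
  exact sq_dvd_of_not_isCyclic default (hnc q hq default)

end CfsgLib.Spor.JOneSquare
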