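import Cfsg.Agent.Lib.Spor.JOneSquare.Soluble
import Cfsg.Agent.Lib.Spor.JOneSquare.Fixed

/-!
# No soluble group with the element orders of the square

A cyclic Sylow subgroup for one of the primes 2, 7, 11, 19 would have a soluble centraliser with the other three
pairwise nonadjacent; so all four are noncyclic and the Hall subgroup for the four primes does not exist.
-/

set_option autoImplicit false
set_option linter.style.haveILetI false
set_option linter.unusedSectionVars false

namespace CfsgLib.Spor.JOneSquare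

open Subgroup Sol

universe u

variable {G : Type u} [Group G] [Finite G]

/-- A soluble group with squarefree orders, no element meeting three of the four primes and elements for
each two of them does not exist. -/
theorem false_of_pairs [Group.IsSolvable G] (hs : SqFree G)
    (hnt : ∀ x : G, ∀ a b c : ℕ, Four a → Four b → Four c → a ≠ b → a ≠ c → b ≠ c → ¬ a * b * c ∣ orderOf x)
    (hpair : ∀ a b : ℕ, Four a → Four b → a ≠ b → ∃ x : G, a * b ∣ orderOf x) : False := by
  classical
  have key : ∀ q, Four q → q * q ∣ Nat.card G := by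
    intro q hq
    haveI := Fact.mk hq.prime
    by_contra hno
    let S : Sylow q G := default
    obtain ⟨a₀, ha₀, -, ha₀q, -⟩ := Four.exists_odd q q
    have hqG : q ∣ Nat.card G := by
      obtain ⟨x, hx⟩ := hpair q a₀ hq ha₀ (Ne.symm ha₀q)
      exact (dvd_mul_right q a₀).trans (hx.trans (orderOf_dvd_natCard x))
    have hS : Nat.card S = q := by
      refine (card_le_prime S.isPGroup' fun hd => hno (hd.trans S.1.card_subgroup_dvd_card)).resolve_right fun e => ?_
      exact (S.not_dvd_index) (by rw [e, index_bot]; exact hqG)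
    obtain ⟨⟨y, hy⟩, hyo⟩ := exists_prime_orderOf_dvd_card' (G := S) q (by rw [hS])
    rw [Subgroup.orderOf_mk] at hyo
    have hyS : zpowers y = (S : Subgroup G) :=
      eq_of_le_of_card_ge (zpowers_le.2 hy) (by rw [Nat.card_zpowers, hyo]; exact hS.le)
    set C := centralizer ({y} : Set G) with hC
    have hdvd : ∀ a, Four a → a ≠ q → a ∣ Nat.card C := by
      intro a ha haq
      haveI := Fact.mk ha.prime
      obtain ⟨x, hx⟩ := hpair q a hq ha (Ne.symm haq)
      set n := orderOf x
      have hn : 0 < n := orderOf_pos x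
      obtain ⟨z, hz, hzc⟩ : ∃ z, orderOf z = q ∧ Commute x z :=
        ⟨x ^ (n / q), orderOf_pow_orderOf_div hn.ne' ((dvd_mul_right q a).trans hx), Commute.self_pow x _⟩
      obtain ⟨T, hT⟩ := (IsPGroup.of_card (n := 1) (by rw [Nat.card_zpowers, hz, pow_one]) :
        IsPGroup q (zpowers z)).exists_le_sylow
      obtain ⟨g, hg⟩ := MulAction.exists_smul_eq G T S
      have hmem : g * z * g⁻¹ ∈ zpowers y := by
        rw [hyS, ← hg, Sylow.coe_subgroup_smul, mem_pointwise_smul_iff_inv_smul_mem]
        simpa [MulAut.smul_def, mul_assoc] using hT (mem_zpowers z)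
      have hye : zpowers (g * z * g⁻¹) = zpowers y :=
        eq_of_le_of_card_ge (zpowers_le.2 hmem)
          (by rw [Nat.card_zpowers, Nat.card_zpowers, hyo, ← MulAut.conj_apply, MulEquiv.orderOf_eq, hz])
      obtain ⟨i, hi⟩ := mem_zpowers_iff.1 (hye ▸ mem_zpowers y : y ∈ zpowers (g * z * g⁻¹))
      have hc : g * x * g⁻¹ ∈ C := by
        rw [hC, mem_centralizer_iff]
        rintro _ rfl
        rw [← hi]
        have hcc : Commute (g * x * g⁻¹) (g * z * g⁻¹) := by
          simpa [MulAut.conj_apply] using hzc.map (MulAut.conj g).toMonoidHom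
        exact (hcc.zpow_right i).eq.symm
      refine ((dvd_mul_left a q).trans hx).trans ?_
      rw [show n = orderOf (g * x * g⁻¹) by rw [← MulAut.conj_apply, MulEquiv.orderOf_eq]]
      exact C.orderOf_dvd_natCard hc
    obtain ⟨a, ha, ha2, haq, -⟩ := Four.exists_odd q q
    obtain ⟨b, hb, hbq, hba, -⟩ := Four.exists_fourth q a a
    obtain ⟨c, hc, hcq, hca, hcb⟩ := Four.exists_fourth q a b
    refine Sol.false_of_three (U := C) (sqFree_sub hs C) ha.prime hb.prime hc.prime hba.symm hca.symm hcb.symm
      (hdvd a ha haq) (hdvd b hb hbq) (hdvd c hc hcq) fun x => ?_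
    have key : ∀ s t, Four s → Four t → s ≠ t → s ≠ q → t ≠ q → ¬ s * t ∣ orderOf x := by
      intro s t hs' ht' hst hsq htq hd
      rw [← Subgroup.orderOf_coe] at hd
      have hw : orderOf ((x : G) ^ (orderOf (x : G) / (s * t))) = s * t :=
        orderOf_pow_orderOf_div (orderOf_pos _).ne' hd
      have hcm : Commute (x : G) y := (mem_centralizer_iff.1 x.2 y rfl).symm
      refine hnt ((x : G) ^ (orderOf (x : G) / (s * t)) * y) s t q hs' ht' hq hst hsq htq ?_
      rw [(hcm.pow_left _).orderOf_mul_eq_mul_orderOf_of_coprime (by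
        rw [hw, hyo]
        exact Nat.Coprime.mul_left ((Nat.coprime_primes hs'.prime hq.prime).2 hsq)
          ((Nat.coprime_primes ht'.prime hq.prime).2 htq)), hw, hyo]
    exact ⟨key a b ha hb hba.symm haq hbq, key a c ha hc hca.symm haq hcq, key b c hb hc hcb.symm hbq hcq⟩
  obtain ⟨H, hHπ, hHd⟩ := hall_data (U := G) {q | Four q}
  refine false_of_dvd (U := H) (sqFree_sub hs H) (fun x p q r hp hq hr hpq hpr hqr hd => ?_) hHπ
    fun q hq => hHd q hq.prime hq (key q hq)
  have hF : ∀ {t}, t.Prime → t ∣ p * q * r → Four t := fun ht htd =>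
    hHπ _ ht ((htd.trans hd).trans (orderOf_dvd_natCard x))
  rw [← Subgroup.orderOf_coe] at hd
  exact hnt x p q r (hF hp ((dvd_mul_right p q).mul_right r)) (hF hq ((dvd_mul_left q p).mul_right r))
    (hF hr (dvd_mul_left r _)) hpq hpr hqr hd

/-- A group with the element orders of the square is not soluble. -/
theorem Sub.not_isSolvable (h : Sub G) (hall : ∀ n ∈ maxOrders, ∃ g : G, orderOf g = n) :
    ¬ Group.IsSolvable G := by
  intro hG
  haveI := hG
  refine false_of_pairs (G := G) (fun x => ?_) (fun x a b c ha hb hc hab hac hbc hd => ?_) fun a b ha hb hab => ?_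
  · exact Nat.squarefree_iff_prime_squarefree.2 fun p hp => h.not_sq_dvd hp x
  · obtain ⟨m, hm, hdm⟩ := h x
    have hchk : ∀ m ∈ maxOrders, ∀ a ∈ ({2, 7, 11, 19} : Finset ℕ), ∀ b ∈ ({2, 7, 11, 19} : Finset ℕ),
        ∀ c ∈ ({2, 7, 11, 19} : Finset ℕ), a ≠ b → a ≠ c → b ≠ c → ¬ a * b * c ∣ m := by
      unfold maxOrders; decide +kernel
    exact hchk m hm a (by rcases ha with rfl | rfl | rfl | rfl <;> decide)
      b (by rcases hb with rfl | rfl | rfl | rfl <;> decide)
      c (by rcases hc with rfl | rfl | rfl | rfl <;> decide) hab hac hbc (hd.trans hdm)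
  · obtain ⟨m, hm, hdm⟩ : ∃ m ∈ maxOrders, a * b ∣ m := by
      rcases ha with rfl | rfl | rfl | rfl <;> rcases hb with rfl | rfl | rfl | rfl <;>
        first | exact absurd rfl hab | (unfold maxOrders; decide +kernel)
    obtain ⟨g, hg⟩ := hall m hm
    exact ⟨g, hg ▸ hdm⟩

end CfsgLib.Spor.JOneSquare
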