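import Cfsg.Agent.S3765
import Cfsg.Agent.Lib.PGroup.CocyclicCentralizers
import Cfsg.Agent.Lib.Coprime.ClassMod.Linear
import Cfsg.Agent.Lib.Coprime.Component
import Cfsg.Agent.Lib.Coprime.Hall

/-!
# Tools for soluble groups without elements divisible by three primes

Pairs of commuting elements of prime order, fixed points of coprime operators, and the absence of soluble
groups in which three primes are pairwise nonadjacent.
-/

set_option autoImplicit false
set_option linter.style.haveILetI false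
set_option linter.unusedSectionVars false

namespace CfsgLib.Spor.JOneSquare.Sol

open Subgroup
open scoped Pointwise commutatorElement

universe u

variable {U : Type u} [Group U] [Finite U]

/-- Element orders are squarefree. -/
def SqFree (U : Type u) [Group U] : Prop := ∀ x : U, Squarefree (orderOf x)

/-- No element order is divisible by three primes. -/
def NoTriple (U : Type u) [Group U] : Prop :=
  ∀ x : U, ∀ p q r : ℕ, p.Prime → q.Prime → r.Prime → p ≠ q → p ≠ r → q ≠ r → ¬ p * q * r ∣ orderOf x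

theorem pow_prime_eq_one (hs : SqFree U) {p : ℕ} [hp : Fact p.Prime] {H : Subgroup U}
    (hH : IsPGroup p H) {x : U} (hx : x ∈ H) : x ^ p = 1 := by
  obtain ⟨k, hk⟩ := hH ⟨x, hx⟩
  have hk' : x ^ p ^ k = 1 := congrArg Subtype.val hk
  obtain ⟨j, -, hj⟩ := (Nat.dvd_prime_pow hp.out).1 (orderOf_dvd_of_pow_eq_one hk')
  have hj1 : j ≤ 1 := by
    by_contra hj1
    have h2 : p * p ∣ orderOf x := by
      rw [hj, ← pow_two]; exact pow_dvd_pow p (by omega)
    exact hp.out.ne_one (Nat.isUnit_iff.1 (hs x p h2))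
  refine orderOf_dvd_iff_pow_eq_one.1 ?_
  rw [hj]
  exact (pow_dvd_pow p hj1).trans (by rw [pow_one])

theorem orderOf_of_mem (hs : SqFree U) {p : ℕ} [hp : Fact p.Prime] {H : Subgroup U}
    (hH : IsPGroup p H) {x : U} (hx : x ∈ H) (h1 : x ≠ 1) : orderOf x = p :=
  orderOf_eq_prime (pow_prime_eq_one hs hH hx) h1

theorem triple (h3 : NoTriple U) {x y z : U} {p q r : ℕ} (hp : p.Prime) (hq : q.Prime) (hr : r.Prime)
    (hpq : p ≠ q) (hpr : p ≠ r) (hqr : q ≠ r) (hx : orderOf x = p) (hy : orderOf y = q) (hz : orderOf z = r)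
    (hxy : Commute x y) (hxz : Commute x z) (hyz : Commute y z) : False := by
  have h1 : orderOf (x * y) = p * q := by
    rw [hxy.orderOf_mul_eq_mul_orderOf_of_coprime (by rw [hx, hy]; exact (Nat.coprime_primes hp hq).2 hpq),
      hx, hy]
  refine h3 (x * y * z) p q r hp hq hr hpq hpr hqr ?_
  rw [(hxz.mul_left hyz).orderOf_mul_eq_mul_orderOf_of_coprime (by
    rw [h1, hz]
    exact Nat.Coprime.mul_left ((Nat.coprime_primes hp hr).2 hpr) ((Nat.coprime_primes hq hr).2 hqr)),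
    h1, hz]

/-- A noncyclic elementary subgroup. -/
structure Pair (q : ℕ) (B : Subgroup U) : Prop where
  comm : ∀ a ∈ B, ∀ b ∈ B, a * b = b * a
  pow : ∀ a ∈ B, a ^ q = 1
  ncyc : ∀ a ∈ B, zpowers a ≠ B

theorem Pair.isPGroup {q : ℕ} {B : Subgroup U} (h : Pair q B) : IsPGroup q B :=
  fun a => ⟨1, Subtype.ext (by simpa using h.pow a a.2)⟩

theorem Pair.orderOf_eq {q : ℕ} [Fact q.Prime] {B : Subgroup U} (h : Pair q B) {b : U} (hb : b ∈ B)
    (h1 : b ≠ 1) : orderOf b = q := orderOf_eq_prime (h.pow b hb) h1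

theorem exists_pair_with (hs : SqFree U) {q : ℕ} [hq : Fact q.Prime] {P : Subgroup U} (hP : IsPGroup q P)
    {a : U} (ha : a ∈ P) (hc : ∀ x ∈ P, Commute a x) {b : U} (hb : b ∈ P) (hba : b ∉ zpowers a) (ha1 : a ≠ 1) :
    ∃ B : Subgroup U, B ≤ P ∧ Pair q B ∧ a ∈ B ∧ b ∈ B := by
  have hab : ∀ x ∈ ({a, b} : Set U), ∀ y ∈ ({a, b} : Set U), x * y = y * x := by
    rintro x (rfl | rfl) y (rfl | rfl)
    exacts [rfl, hc _ hb, (hc _ hb).symm, rfl]
  haveI := Subgroup.isMulCommutative_closure hab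
  have hle : Subgroup.closure ({a, b} : Set U) ≤ P := (closure_le _).2 (by rintro x (rfl | rfl) <;> assumption)
  refine ⟨_, hle, ⟨fun x hx y hy => congrArg Subtype.val (isMulCommutative_iff.1 inferInstance (⟨x, hx⟩ : Subgroup.closure ({a, b} : Set U)) ⟨y, hy⟩),
    fun x hx => pow_prime_eq_one hs hP (hle hx), fun x hx e => ?_⟩, subset_closure (by simp), subset_closure (by simp)⟩
  have hax : a ∈ zpowers x := e ▸ subset_closure (by simp)
  have hbx : b ∈ zpowers x := e ▸ subset_closure (by simp)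
  have hle' : zpowers a = zpowers x := by
    refine Subgroup.eq_of_le_of_card_ge (zpowers_le.2 hax) ?_
    rw [Nat.card_zpowers, Nat.card_zpowers, orderOf_of_mem hs hP ha ha1]
    exact Nat.le_of_dvd hq.out.pos (orderOf_dvd_of_pow_eq_one (pow_prime_eq_one hs hP (hle hx)))
  exact hba (hle' ▸ hbx)

theorem exists_pair (hs : SqFree U) {q : ℕ} [hq : Fact q.Prime] {P : Subgroup U} (hP : IsPGroup q P)
    (hc : q * q ∣ Nat.card P) : ∃ B : Subgroup U, B ≤ P ∧ Pair q B := by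
  haveI : Nontrivial P := Finite.one_lt_card_iff_nontrivial.1
    (lt_of_lt_of_le hq.out.one_lt (Nat.le_of_dvd Nat.card_pos ((dvd_mul_right q q).trans hc)))
  haveI := hP.center_nontrivial
  obtain ⟨⟨a, ha⟩, ha1⟩ := exists_ne (1 : Subgroup.center P)
  have ha1' : (a : U) ≠ 1 := fun e => ha1 (Subtype.ext (Subtype.ext e))
  have hlt : ¬ P ≤ zpowers (a : U) := by
    intro hle
    have h1 := (hc.trans (Subgroup.card_dvd_of_le hle))
    rw [Nat.card_zpowers, orderOf_of_mem hs hP a.2 ha1'] at h1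
    have := Nat.le_of_dvd hq.out.pos h1
    nlinarith [hq.out.two_le]
  obtain ⟨b, hb, hba⟩ := SetLike.not_le_iff_exists.1 hlt
  obtain ⟨B, hB, hp, -, -⟩ := exists_pair_with hs hP a.2
    (fun x hx => (congrArg Subtype.val (Subgroup.mem_center_iff.1 ha ⟨x, hx⟩)).symm) hb hba ha1'
  exact ⟨B, hB, hp⟩

theorem exists_cocyclic {q : ℕ} [Fact q.Prime] {B X : Subgroup U} (hB : Pair q B)
    (hBX : B ≤ normalizer (X : Set U)) (hcop : q.Coprime (Nat.card X)) {C : Subgroup U}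
    (hgen : ∀ C₀ : Subgroup U, C₀ ≤ B → C₀ ≠ ⊥ → X ⊓ centralizer (C₀ : Set U) ≤ C) : X ≤ C := by
  have hA : IsMulCommutative B := isMulCommutative_iff.2 fun a b => Subtype.ext (hB.comm a a.2 b b.2)
  obtain ⟨j, hj⟩ := IsPGroup.iff_card.1 hB.isPGroup
  have h := (CfsgLib.PGroup.coprime_cocyclic_generation hA hBX (hj ▸ hcop.pow_left j)).1
  calc X = _ := h.symm
    _ ≤ C := iSup₂_le fun C₀ ⟨hle, a, ha, he⟩ => hgen C₀ hle fun e => hB.ncyc a ha (by
      rw [← he, e, bot_sup_eq])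

/-- A noncyclic elementary group has a nontrivial element with a nontrivial fixed point. -/
theorem exists_fixed {q : ℕ} [hq : Fact q.Prime] {B X : Subgroup U} (hB : Pair q B)
    (hBX : B ≤ normalizer (X : Set U)) (hcop : q.Coprime (Nat.card X)) (hX : X ≠ ⊥) :
    ∃ b ∈ B, b ≠ 1 ∧ ∃ v ∈ X, v ≠ 1 ∧ Commute b v := by
  by_contra hno
  push Not at hno
  refine hX (le_bot_iff.1 (exists_cocyclic hB hBX hcop fun C₀ hle hne v hv => ?_))
  obtain ⟨b, hb, hb1⟩ := C₀.bot_or_exists_ne_one.resolve_left hne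
  rw [mem_bot]
  by_contra hv1
  exact hno b (hle hb) hb1 v hv.1 hv1 (mem_centralizer_iff.1 hv.2 b hb)

theorem commute_of_small {a : U} {q r : ℕ} [hq : Fact q.Prime] [hr : Fact r.Prime] (ha : a ^ q = 1)
    (hqr : ¬ q ∣ r - 1) {D : Subgroup U} (haD : a ∈ normalizer (D : Set U))
    (hD : Nat.card D = r ∨ D = ⊥) : ∀ d ∈ D, Commute a d := by
  rcases hD with hD | rfl
  · intro d hd
    haveI : IsCyclic D := isCyclic_of_prime_card hD
    let g : zpowers a →* MulAut D := D.normalizerMonoidHom.comp (Subgroup.inclusion (zpowers_le.2 haD))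
    have hc : Nat.card g.range = 1 := by
      have h1 : Nat.card g.range ∣ q := (Subgroup.card_range_dvd g).trans (by
        rw [Nat.card_zpowers]; exact orderOf_dvd_of_pow_eq_one ha)
      have h2 : Nat.card g.range ∣ r - 1 := by
        refine (Subgroup.card_subgroup_dvd_card g.range).trans ?_
        rw [IsCyclic.card_mulAut, hD, Nat.totient_prime hr.out]
      rcases (Nat.dvd_prime hq.out).1 h1 with h | h
      · exact h
      · exact absurd (h ▸ h2) hqr
    have h := congrArg (fun (σ : MulAut D) => ((σ ⟨d, hd⟩ : D) : U))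
      (Subgroup.mem_bot.1 ((Subgroup.card_eq_one.1 hc).le (⟨⟨a, mem_zpowers a⟩, rfl⟩ : g ⟨a, mem_zpowers a⟩ ∈ g.range)))
    exact mul_inv_eq_iff_eq_mul.1 h
  · intro d hd
    rw [mem_bot.1 hd]
    exact Commute.one_right a

theorem card_le_prime {r : ℕ} [hr : Fact r.Prime] {D : Subgroup U} (hD : IsPGroup r D)
    (h2 : ¬ r * r ∣ Nat.card D) : Nat.card D = r ∨ D = ⊥ := by
  obtain ⟨j, hj⟩ := IsPGroup.iff_card.1 hD
  rcases j with _ | _ | j
  · right; rw [← Subgroup.card_eq_one, hj, pow_zero]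
  · left; rw [hj, pow_one]
  · exact absurd (hj ▸ ⟨r ^ j, by ring⟩) h2

/-- If a noncyclic elementary group acts faithfully, some element fixes a noncyclic subgroup. -/
theorem exists_fixed_pair (hs : SqFree U) {q r : ℕ} [Fact q.Prime] [hr : Fact r.Prime] (hqr : q ≠ r)
    (hndvd : ¬ q ∣ r - 1) {B X : Subgroup U} (hB : Pair q B) (hX : IsPGroup r X)
    (hBX : B ≤ normalizer (X : Set U)) (hfaith : ∀ b ∈ B, b ≠ 1 → ∃ x ∈ X, ¬ Commute b x) :
    ∃ b ∈ B, b ≠ 1 ∧ ∃ D : Subgroup U, D ≤ X ∧ Pair r D ∧ ∀ d ∈ D, Commute b d := by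
  by_contra hno
  push Not at hno
  obtain ⟨j, hj⟩ := IsPGroup.iff_card.1 hX
  have hcop : q.Coprime (Nat.card X) :=
    hj ▸ ((Nat.coprime_primes (Fact.out) hr.out).2 hqr).pow_right j
  have hXC : X ≤ centralizer (B : Set U) := by
    refine exists_cocyclic hB hBX hcop fun C₀ hle hne v hv => ?_
    obtain ⟨b, hb, hb1⟩ := C₀.bot_or_exists_ne_one.resolve_left hne
    set D := X ⊓ centralizer (C₀ : Set U) with hD
    have hsmall : Nat.card D = r ∨ D = ⊥ := by
      refine card_le_prime (hX.to_le inf_le_left) fun h2 => ?_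
      obtain ⟨D', hD', hp⟩ := exists_pair hs (hX.to_le inf_le_left) h2
      obtain ⟨d, hd, hdc⟩ := hno b (hle hb) hb1 D' (hD'.trans inf_le_left) hp
      exact hdc (mem_centralizer_iff.1 (hD' hd).2 b hb)
    refine mem_centralizer_iff.2 fun a ha => ?_
    refine commute_of_small (hB.pow a ha) hndvd (mem_normalizer_iff.2 fun d => ?_) hsmall v hv
    have hC : a * d * a⁻¹ ∈ centralizer (C₀ : Set U) ↔ d ∈ centralizer (C₀ : Set U) := by
      simp only [mem_centralizer_iff]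
      refine forall₂_congr fun c hc => ?_
      have hac : Commute a c := hB.comm a ha c (hle hc)
      rw [show c * (a * d * a⁻¹) = a * (c * d) * a⁻¹ by
          rw [← mul_assoc, ← mul_assoc, ← hac.eq, mul_assoc a c d],
        show a * d * a⁻¹ * c = a * (d * c) * a⁻¹ by
          rw [mul_assoc (a * d) a⁻¹ c, hac.inv_left.eq]; group]
      exact ⟨fun h => mul_left_cancel (mul_right_cancel h), fun h => by rw [h]⟩
    exact and_congr ((mem_normalizer_iff.1 (hBX ha)) d) hC.symm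
  obtain ⟨b, hb, hb1⟩ := B.bot_or_exists_ne_one.resolve_left fun e =>
    hB.ncyc 1 (one_mem B) (by rw [e, zpowers_one_eq_bot])
  obtain ⟨x, hx, hxc⟩ := hfaith b hb hb1
  exact hxc (mem_centralizer_iff.1 (hXC hx) b hb)

/-- Fixed points of an operator on a group acting faithfully. -/
theorem fixed_of_action (hs : SqFree U) {p q r : ℕ} [hp : Fact p.Prime] [hq : Fact q.Prime]
    [hr : Fact r.Prime] (hpq : p ≠ q) (hpr : p ≠ r) (hqr : q ≠ r) {x : U} (hx : orderOf x = r)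
    {Q V : Subgroup U} (hQ : IsPGroup q Q) (hxQ : x ∈ normalizer (Q : Set U))
    (hne : ∃ y ∈ Q, ¬ Commute x y) (hV : IsPGroup p V) (hVc : ∀ a ∈ V, ∀ b ∈ V, a * b = b * a)
    (hV1 : V ≠ ⊥) (hxV : x ∈ normalizer (V : Set U)) (hQV : Q ≤ normalizer (V : Set U))
    (hQf : ∀ y ∈ Q, y ≠ 1 → ∃ v ∈ V, ¬ Commute y v) :
    ∃ v ∈ V, v ≠ 1 ∧ Commute x v := by
  have hxc : ∀ y ∈ zpowers x, y ∈ centralizer (Q : Set U) → y = 1 := by
    intro y hy hyc
    by_contra hy1
    have hxy : x ∈ zpowers y := by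
      have he : zpowers y = zpowers x := by
        refine Subgroup.eq_of_le_of_card_ge (zpowers_le.2 hy) ?_
        rw [Nat.card_zpowers, Nat.card_zpowers, hx]
        have h1 : orderOf y ∣ r := hx ▸ orderOf_dvd_of_mem_zpowers hy
        rcases (Nat.dvd_prime hr.out).1 h1 with h | h
        · exact absurd (orderOf_eq_one_iff.1 h) hy1
        · exact h.ge
      exact he ▸ mem_zpowers x
    obtain ⟨z, hz, hzc⟩ := hne
    exact hzc (mem_centralizer_iff.1 (zpowers_le.2 hyc hxy) z hz).symm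
  have hexc : q = 2 → (∃ n : ℕ, r = 2 ^ n + 1) → IsMulCommutative Q := fun h2 _ => by
    subst h2
    refine isMulCommutative_iff.2 fun a b => Subtype.ext ?_
    have hsq : ∀ y ∈ Q, y * y = 1 := fun y hy => by rw [← pow_two]; exact pow_prime_eq_one hs hQ hy
    have e1 := eq_inv_of_mul_eq_one_left (hsq (a * b) (mul_mem a.2 b.2))
    rw [mul_inv_rev, ← eq_inv_of_mul_eq_one_left (hsq a a.2), ← eq_inv_of_mul_eq_one_left (hsq b b.2)] at e1
    exact e1
  have hf : (zpowers x ⊔ Q) ⊓ centralizer (V : Set U) = ⊥ := by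
    have hQC : Q ⊓ centralizer (V : Set U) = ⊥ := by
      refine (eq_bot_iff_forall _).2 fun y hy => by_contra fun hy1 => ?_
      obtain ⟨v, hv, hvc⟩ := hQf y hy.1 hy1
      exact hvc (mem_centralizer_iff.1 hy.2 v hv).symm
    refine (eq_bot_iff_forall _).2 fun y hy => ?_
    obtain ⟨hy, hyV⟩ := hy
    have hmem : y ∈ ((zpowers x : Set U) * (Q : Set U)) := by
      rw [← coe_mul_of_left_le_normalizer_right _ _ (zpowers_le.2 hxQ)]
      exact hy
    obtain ⟨a, ha, q₀, hq₀, rfl⟩ := hmem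
    beta_reduce at hy hyV ⊢
    replace hyV : a * q₀ ∈ centralizer (V : Set U) := hyV
    have haQ : a ∈ normalizer (Q : Set U) := zpowers_le.2 hxQ ha
    have hnV : ∀ g ∈ normalizer (V : Set U), ∀ c ∈ centralizer (V : Set U),
        g * c * g⁻¹ ∈ centralizer (V : Set U) := by
      intro g hg c hc
      refine mem_centralizer_iff.2 fun v hv => ?_
      have hv' : g⁻¹ * v * g ∈ V := (mem_normalizer_iff''.1 hg v).1 hv
      have h := mem_centralizer_iff.1 hc _ hv'
      calc v * (g * c * g⁻¹) = g * ((g⁻¹ * v * g) * c) * g⁻¹ := by group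
        _ = g * (c * (g⁻¹ * v * g)) * g⁻¹ := by rw [h]
        _ = g * c * g⁻¹ * v := by group
    have hycQ : ∀ z ∈ Q, Commute (a * q₀) z := by
      intro z hz
      have hcm : ⁅a * q₀, z⁆ ∈ Q ⊓ centralizer (V : Set U) := by
        refine Subgroup.mem_inf.2 ⟨mul_mem ((mem_normalizer_iff.1 (mul_mem haQ (le_normalizer hq₀)) z).1 hz) (inv_mem hz), ?_⟩
        rw [commutatorElement_def, show a * q₀ * z * (a * q₀)⁻¹ * z⁻¹ =
          a * q₀ * (z * (a * q₀)⁻¹ * z⁻¹) by group]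
        exact mul_mem hyV (hnV z (hQV hz) _ (inv_mem hyV))
      rw [hQC, mem_bot] at hcm
      exact commutatorElement_eq_one_iff_commute.1 hcm
    have hca : Commute a q₀ := by
      have := hycQ q₀ hq₀
      exact (mul_right_cancel (show a * q₀ * q₀ = q₀ * a * q₀ by rw [this.eq, mul_assoc q₀]))
    have haq : a = 1 := by
      refine hxc a ha (mem_centralizer_iff.2 fun z hz => ?_)
      have har : a ^ r = 1 := orderOf_dvd_iff_pow_eq_one.1 (hx ▸ orderOf_dvd_of_mem_zpowers ha)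
      have hpow := (hycQ z hz).pow_left q
      rw [hca.mul_pow, pow_prime_eq_one hs hQ hq₀, mul_one] at hpow
      obtain ⟨m, hm⟩ := exists_pow_eq_self_of_coprime
        (((Nat.coprime_primes hq.out hr.out).2 hqr).coprime_dvd_right (orderOf_dvd_of_pow_eq_one har))
      rw [← hm]
      exact (hpow.pow_left m).symm
    subst haq
    rw [one_mul] at hyV ⊢
    exact (Subgroup.eq_bot_iff_forall _).1 hQC q₀ ⟨hq₀, hyV⟩
  have hr0 : Nat.card (zpowers x) = r := by rw [Nat.card_zpowers, hx]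
  have h := Cfsg.Agent.S3765.result hp.out hq.out hr.out hpq hpr hqr (zpowers x) Q V hr0 hQ
    (zpowers_le.2 hxQ) ((eq_bot_iff_forall _).2 fun y hy => hxc y hy.1 hy.2)
    ⟨isMulCommutative_iff.2 fun a b => Subtype.ext (hVc a a.2 b b.2), fun v hv => pow_prime_eq_one hs hV hv⟩
    hV1 (zpowers_le.2 hxV) hQV hf hexc
  obtain ⟨v, hv, hv1⟩ := (V ⊓ centralizer (zpowers x : Set U)).bot_or_exists_ne_one.resolve_left h
  exact ⟨v, hv.1, hv1, mem_centralizer_iff.1 hv.2 x (mem_zpowers x)⟩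

/-- No soluble group has three pairwise nonadjacent primes. -/
theorem false_of_three [Group.IsSolvable U] (hs : SqFree U) {a b c : ℕ} (ha : a.Prime) (hb : b.Prime)
    (hc : c.Prime) (hab : a ≠ b) (hac : a ≠ c) (hbc : b ≠ c) (hda : a ∣ Nat.card U)
    (hdb : b ∣ Nat.card U) (hdc : c ∣ Nat.card U)
    (hsep : ∀ x : U, ¬ a * b ∣ orderOf x ∧ ¬ a * c ∣ orderOf x ∧ ¬ b * c ∣ orderOf x) : False := by
  classical
  obtain ⟨T, -, hTπ, hTi⟩ := CfsgLib.Coprime.exists_hallIn ({a, b, c} : Set ℕ) (L := (⊤ : Subgroup U))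
    (Group.isSolvable_of_surjective (f := (Subgroup.topEquiv (G := U)).symm.toMonoidHom)
      (Subgroup.topEquiv (G := U)).symm.surjective)
  rw [relIndex_top_right] at hTi
  have hsol : ∀ {H : Subgroup U}, Group.IsSolvable H := fun {H} => inferInstance
  have hdvd : ∀ {H : Subgroup U} {π : Set ℕ} {p : ℕ}, p.Prime → p ∈ π →
      CfsgLib.Coprime.IsPiNum πᶜ H.index → p ∣ Nat.card U → p ∣ Nat.card H := by
    intro H π p hp hpπ hH hd
    rw [← H.card_mul_index] at hd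
    exact (hp.dvd_mul.1 hd).resolve_right fun h => hH p hp h hpπ
  have hTa : a ∣ Nat.card T := hdvd ha (by simp) hTi hda
  have hTne : (⊤ : Subgroup T) ≠ ⊥ := fun e => by
    have h1 : Nat.card T = 1 := by rw [← Subgroup.card_top (G := T), e, Subgroup.card_bot]
    exact ha.ne_one (Nat.dvd_one.1 (h1 ▸ hTa))
  haveI := hsol (H := T)
  obtain ⟨p, M, hp, hMn, -, hM1, hMc, hMp, -⟩ :=
    CfsgLib.Coprime.ClassMod.exists_minimal_normal_elementary_sub hTne
  haveI := Fact.mk hp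
  set A := M.map T.subtype with hA
  have hA1 : A ≠ ⊥ := fun e => hM1 ((map_eq_bot_iff_of_injective _ T.subtype_injective).1 e)
  have hAp : IsPGroup p A :=
    IsPGroup.map (fun m => ⟨1, Subtype.ext (by simpa using hMp m m.2)⟩ : IsPGroup p M) _
  have hAc : ∀ x ∈ A, ∀ y ∈ A, x * y = y * x := by
    rintro _ ⟨x, hx, rfl⟩ _ ⟨y, hy, rfl⟩
    rw [← map_mul, hMc x hx y hy, map_mul]
  have hTA : T ≤ normalizer (A : Set U) := by
    intro t ht
    refine mem_normalizer_iff.2 fun x => ⟨?_, fun hx => ?_⟩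
    · rintro ⟨m, hm, rfl⟩
      exact ⟨⟨t, ht⟩ * m * ⟨t, ht⟩⁻¹, hMn.conj_mem m hm _, rfl⟩
    · obtain ⟨m, hm, he⟩ := hx
      refine ⟨⟨t, ht⟩⁻¹ * m * ⟨t, ht⟩, hMn.conj_mem' m hm _, ?_⟩
      change (m : U) = t * x * t⁻¹ at he
      change t⁻¹ * (m : U) * t = x
      rw [he]; group
  have hpT : p ∣ Nat.card T := by
    obtain ⟨j, hj⟩ := IsPGroup.iff_card.1 hAp
    refine dvd_trans ?_ (Subgroup.card_dvd_of_le (map_subtype_le M : A ≤ T))
    rw [hj]
    exact dvd_pow_self p fun h0 => hA1 (by rw [← Subgroup.card_eq_one, hj, h0, pow_zero])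
  have hpabc : p ∈ ({a, b, c} : Set ℕ) := hTπ p hp hpT
  obtain ⟨q, r, hq, hr, hpq, hpr, hqr, hqU, hrU, s1, s2, s3⟩ : ∃ q r : ℕ, q.Prime ∧ r.Prime ∧ p ≠ q ∧
      p ≠ r ∧ q ≠ r ∧ q ∣ Nat.card T ∧ r ∣ Nat.card T ∧ (∀ x : U, ¬ p * q ∣ orderOf x) ∧
      (∀ x : U, ¬ p * r ∣ orderOf x) ∧ (∀ x : U, ¬ q * r ∣ orderOf x) := by
    rcases hpabc with rfl | rfl | rfl
    · exact ⟨b, c, hb, hc, hab, hac, hbc, hdvd hb (by simp) hTi hdb, hdvd hc (by simp) hTi hdc,
        fun x => (hsep x).1, fun x => (hsep x).2.1, fun x => (hsep x).2.2⟩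
    · exact ⟨a, c, ha, hc, hab.symm, hbc, hac, hTa, hdvd hc (by simp) hTi hdc,
        fun x => mul_comm p a ▸ (hsep x).1, fun x => (hsep x).2.2, fun x => (hsep x).2.1⟩
    · exact ⟨a, b, ha, hb, hac.symm, hbc.symm, hab, hTa, hdvd hb (by simp) hTi hdb,
        fun x => mul_comm p a ▸ (hsep x).2.1, fun x => mul_comm p b ▸ (hsep x).2.2, fun x => (hsep x).1⟩
  have pair : ∀ {x y : U} {s t : ℕ}, s.Prime → t.Prime → s ≠ t → orderOf x = s → orderOf y = t →
      Commute x y → s * t ∣ orderOf (x * y) := by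
    intro x y s t hs' ht' hst hx hy hxy
    rw [hxy.orderOf_mul_eq_mul_orderOf_of_coprime (by rw [hx, hy]; exact (Nat.coprime_primes hs' ht').2 hst),
      hx, hy]
  obtain ⟨Y, hYT, hYπ, hYi⟩ := CfsgLib.Coprime.exists_hallIn ({q, r} : Set ℕ) (hsol (H := T))
  have hdvdY : ∀ {s : ℕ}, s.Prime → s ∈ ({q, r} : Set ℕ) → s ∣ Nat.card T → s ∣ Nat.card Y := by
    intro s hs' hmem hd
    rw [← CfsgLib.Coprime.card_mul_relIndex hYT] at hd
    exact (hs'.dvd_mul.1 hd).resolve_right fun h => hYi s hs' h hmem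
  have hYq : q ∣ Nat.card Y := hdvdY hq (by simp) hqU
  have hYne : (⊤ : Subgroup Y) ≠ ⊥ := fun e => by
    have h1 : Nat.card Y = 1 := by rw [← Subgroup.card_top (G := Y), e, Subgroup.card_bot]
    exact hq.ne_one (Nat.dvd_one.1 (h1 ▸ hYq))
  haveI := hsol (H := Y)
  obtain ⟨s, N, hs', hNn, -, hN1, -, hNp, -⟩ :=
    CfsgLib.Coprime.ClassMod.exists_minimal_normal_elementary_sub hYne
  haveI := Fact.mk hs'
  set B := N.map Y.subtype
  have hBp : IsPGroup s B :=
    IsPGroup.map (fun m => ⟨1, Subtype.ext (by simpa using hNp m m.2)⟩ : IsPGroup s N) _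
  have hB1 : B ≠ ⊥ := fun e => hN1 ((map_eq_bot_iff_of_injective _ Y.subtype_injective).1 e)
  have hsY : s ∈ ({q, r} : Set ℕ) := by
    refine hYπ s hs' ?_
    obtain ⟨n, hn, hn1⟩ := B.bot_or_exists_ne_one.resolve_left hB1
    rw [← orderOf_of_mem hs hBp hn hn1]
    exact Subgroup.orderOf_dvd_natCard Y (map_subtype_le N hn)
  obtain ⟨t, ht, hst, hps, hpt, htY, s1', s2', s3'⟩ : ∃ t : ℕ, t.Prime ∧ s ≠ t ∧ p ≠ s ∧ p ≠ t ∧
      t ∣ Nat.card Y ∧ (∀ x : U, ¬ p * s ∣ orderOf x) ∧ (∀ x : U, ¬ p * t ∣ orderOf x) ∧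
      (∀ x : U, ¬ s * t ∣ orderOf x) := by
    rcases hsY with rfl | rfl
    · exact ⟨r, hr, hqr, hpq, hpr, hdvdY hr (by simp) hrU, s1, s2, s3⟩
    · exact ⟨q, hq, hqr.symm, hpr, hpq, hYq, s2, s1, fun x => mul_comm q s ▸ s3 x⟩
  haveI := Fact.mk ht
  obtain ⟨⟨y, hy⟩, hyo⟩ := exists_prime_orderOf_dvd_card' (G := Y) t htY
  rw [Subgroup.orderOf_mk] at hyo
  have hyB : y ∈ normalizer (B : Set U) := by
    refine mem_normalizer_iff.2 fun x => ⟨?_, fun hx => ?_⟩
    · rintro ⟨m, hm, rfl⟩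
      exact ⟨⟨y, hy⟩ * m * ⟨y, hy⟩⁻¹, hNn.conj_mem m hm _, rfl⟩
    · obtain ⟨m, hm, he⟩ := hx
      refine ⟨⟨y, hy⟩⁻¹ * m * ⟨y, hy⟩, hNn.conj_mem' m hm _, ?_⟩
      change (m : U) = y * x * y⁻¹ at he
      change y⁻¹ * (m : U) * y = x
      rw [he]; group
  obtain ⟨n, hn, hn1⟩ := B.bot_or_exists_ne_one.resolve_left hB1
  obtain ⟨v, hv, hv1, hyv⟩ := fixed_of_action hs hps hpt hst hyo hBp hyB
    ⟨n, hn, fun hc' => s3' _ (pair hs' ht hst (orderOf_of_mem hs hBp hn hn1) hyo hc'.symm)⟩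
    hAp hAc hA1 (hTA (hYT hy)) (((map_subtype_le N).trans hYT).trans hTA)
    (fun z hz hz1 => by
      obtain ⟨m, hm, hm1⟩ := A.bot_or_exists_ne_one.resolve_left hA1
      exact ⟨m, hm, fun hc' => s1' _
        (pair hp hs' hps (orderOf_of_mem hs hAp hm hm1) (orderOf_of_mem hs hBp hz hz1) hc'.symm)⟩)
  exact s2' _ (pair hp ht hpt (orderOf_of_mem hs hAp hv hv1) hyo hyv.symm)

end CfsgLib.Spor.JOneSquare.Sol
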