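import Cfsg.Agent.Lib.Spor.JOneSquare.Moving
import Cfsg.Agent.Lib.PGroup.FourPrimes.Main

/-!
# No copy of `J₁`

With only small components all elements of order `5`, `7`, `11`, `19` have images in the layer, so a conjugate
of each element of order `p * q` lies over the product of the Borel subgroups, a solvable group.
-/

set_option autoImplicit false
set_option linter.style.haveILetI false
set_option linter.unusedSectionVars false

namespace CfsgLib.Spor.JOneSquare

open Subgroup CfsgLib.Coprime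

universe u

namespace Top

variable {Q : Type u} [Group Q] [Finite Q] (h : Top Q)

include h in
theorem proj_orderOf {K : Subgroup Q} (hK : Cfsg.IsComponent K) {e : Q} (he : e ∈ Cfsg.layer Q) :
    orderOf (LayerProj.proj K e) ∣ orderOf e := by
  refine orderOf_dvd_of_pow_eq_one ?_
  have hmul : ∀ k : ℕ, LayerProj.proj K (e ^ k) = LayerProj.proj K e ^ k := by
    intro k
    induction k with
    | zero => simpa using LayerProj.proj_one h.fitting hK
    | succ k ih => rw [pow_succ, LayerProj.proj_mul h.fitting hK (pow_mem he k) he, ih, pow_succ]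
  rw [← hmul, pow_orderOf_eq_one, LayerProj.proj_one h.fitting hK]

variable (hJ : ∀ K : Subgroup Q, Cfsg.IsComponent K → Small K)

include h hJ in
theorem proj_cases {K : Subgroup Q} (hK : Cfsg.IsComponent K) {e : Q} (he : e ∈ Cfsg.layer Q) :
    orderOf (LayerProj.proj K e) ∈ ({1, 2, 3, 5, 6, 11} : Finset ℕ) := by
  have h1 := (hJ K hK).orders ⟨_, LayerProj.proj_mem K e⟩
  rwa [Subgroup.orderOf_mk] at h1

include h hJ in
/-- The layer has no elements of order seven or nineteen. -/
theorem eq_one_of_big {t : ℕ} (ht : t = 7 ∨ t = 19) {e : Q} (he : e ∈ Cfsg.layer Q) (het : e ^ t = 1) : e = 1 := by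
  refine LayerProj.eq_one_of_proj h.fitting he fun K hK => orderOf_eq_one_iff.1 ?_
  have h1 := h.proj_cases hJ hK he
  have h2 := (h.proj_orderOf hK he).trans (orderOf_dvd_of_pow_eq_one het)
  rcases (Nat.dvd_prime (by rcases ht with rfl | rfl <;> norm_num)).1 h2 with e1 | e1
  · exact e1
  · rw [e1] at h1
    rcases ht with rfl | rfl <;> exact absurd h1 (by decide)

include h hJ in
/-- Seven or nineteen divides the radical: otherwise an involution commutes with a lift of order `133`. -/
theorem false_of_both {g : Q} (hg : orderOf g = 133) : False := by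
  classical
  set a := g ^ 19 with ha
  have ha7 : a ^ 7 = 1 := by
    rw [ha, ← pow_mul, show 19 * 7 = 133 by norm_num, ← hg, pow_orderOf_eq_one]
  have hb19 : (g ^ 7) ^ 19 = 1 := by
    rw [← pow_mul, show 7 * 19 = 133 by norm_num, ← hg, pow_orderOf_eq_one]
  have ha1 : a ≠ 1 := fun e => by
    have := orderOf_dvd_of_pow_eq_one (ha ▸ e : g ^ 19 = 1)
    rw [hg] at this
    norm_num at this
  obtain ⟨K, hK, hmov⟩ : ∃ K : Subgroup Q, Cfsg.IsComponent K ∧ a ∉ normalizer (K : Set Q) := by
    by_contra hcon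
    push Not at hcon
    exact ha1 (h.eq_one_of_big hJ (Or.inl rfl) (h.mem_layer (by norm_num) ha7 hcon) ha7)
  obtain ⟨x, hx, hxo⟩ := h.exists_ord hK (p := 2) (by decide)
  have h7 : ∀ i, g ^ i ∈ normalizer (K : Set Q) → 7 ∣ i := fun i hi => by
    by_contra hn
    refine hmov (conj_mem_normalizer (by norm_num) ha7 hn ?_)
    rw [ha, ← pow_mul, mul_comm, pow_mul]
    exact pow_mem hi 19
  have hcent : ∀ i, g ^ i ∈ normalizer (K : Set Q) → g ^ i * x * (g ^ i)⁻¹ = x := by
    intro i hi
    obtain ⟨c, rfl⟩ := h7 i hi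
    have hgi : (g ^ (7 * c)) ^ 19 = 1 := by
      rw [← pow_mul, show 7 * c * 19 = 7 * 19 * c by ring, pow_mul, pow_mul, hb19, one_pow]
    obtain ⟨k, hk, hku⟩ := h.inner_odd (by norm_num) (by norm_num) hgi hK hi
    suffices k = 1 by rw [hku x hx, this]; group
    have hiter : ∀ (n : ℕ) (u : Q), u ∈ K →
        (g ^ (7 * c)) ^ n * u * ((g ^ (7 * c)) ^ n)⁻¹ = k ^ n * u * (k ^ n)⁻¹ := by
      intro n
      induction n with
      | zero => intro u _; simp
      | succ n ih =>
        intro u hu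
        rw [pow_succ, show (g ^ (7 * c)) ^ n * g ^ (7 * c) * u * ((g ^ (7 * c)) ^ n * g ^ (7 * c))⁻¹ =
          (g ^ (7 * c)) ^ n * (g ^ (7 * c) * u * (g ^ (7 * c))⁻¹) * ((g ^ (7 * c)) ^ n)⁻¹ by group, hku u hu,
          ih _ (mul_mem (mul_mem hk hu) (inv_mem hk)), pow_succ k]
        group
    have hcen : (⟨k, hk⟩ : K) ^ 19 ∈ center K := mem_center_iff.2 fun u => Subtype.ext (by
      have h1 := hiter 19 u u.2
      rw [hgi, one_mul, inv_one, mul_one, eq_mul_inv_iff_mul_eq] at h1
      push_cast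
      exact h1)
    rw [LayerProj.center_bot h.fitting hK, mem_bot] at hcen
    have h1 := (hJ K hK).orders ⟨k, hk⟩
    rcases (Nat.dvd_prime (by norm_num : Nat.Prime 19)).1 (orderOf_dvd_of_pow_eq_one hcen) with e | e
    · exact congrArg Subtype.val (orderOf_eq_one_iff.1 e)
    · rw [e] at h1
      exact absurd h1 (by decide)
  obtain ⟨w, hw, he, hpw⟩ := h.exists_pow_proj hK hx (g := g) hcent 133
  rw [show g ^ 133 = 1 by rw [← hg, pow_orderOf_eq_one], mul_one] at he
  have hcount : LayerProj.proj K w = x := by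
    rw [hpw]
    have hx2 : x ^ 2 = 1 := hxo ▸ pow_orderOf_eq_one x
    by_cases hb : g ^ 7 ∈ normalizer (K : Set Q)
    · rw [show Nat.count (fun i => g ^ i ∈ normalizer (K : Set Q)) 133 = 19 by
        rw [Nat.count_eq_card_filter_range, Finset.filter_congr (q := fun i => 7 ∣ i) fun i _ => ⟨h7 i, by
          rintro ⟨c, rfl⟩
          rw [pow_mul]
          exact pow_mem hb c⟩]
        decide +kernel]
      rw [show 19 = 2 * 9 + 1 by norm_num, pow_add, pow_mul, hx2, one_pow, one_mul, pow_one]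
    · rw [show Nat.count (fun i => g ^ i ∈ normalizer (K : Set Q)) 133 = 1 by
        rw [Nat.count_eq_card_filter_range, Finset.filter_congr (q := fun i => i = 0) fun i hi => ⟨fun hn => by
          obtain ⟨c, rfl⟩ := h7 i hn
          by_contra hne
          rw [Finset.mem_range] at hi
          refine hb (conj_mem_normalizer (by norm_num) hb19 (i := c)
            (Nat.not_dvd_of_pos_of_lt (by omega) (by omega)) ?_)
          rwa [← pow_mul], by rintro rfl; rw [pow_zero]; exact one_mem _⟩]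
        decide +kernel, pow_one]
  haveI := layer_normal (G := Q)
  set n := orderOf (x * g)
  have himg : ((x * g : Q) : Q ⧸ Cfsg.layer Q) = (g : Q ⧸ Cfsg.layer Q) := by
    rw [QuotientGroup.mk_mul, (QuotientGroup.eq_one_iff x).2 (component_le_layer hK hx), one_mul]
  have hgn : g ^ n ∈ Cfsg.layer Q := by
    rw [← QuotientGroup.eq_one_iff, QuotientGroup.mk_pow, ← himg, ← QuotientGroup.mk_pow, pow_orderOf_eq_one,
      QuotientGroup.mk_one]
  have h7n : 7 ∣ n := by
    by_contra hn
    obtain ⟨k, hk⟩ := exists_pow_eq_self_of_coprime (x := a) (n := n)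
      (Nat.Coprime.coprime_dvd_right (orderOf_dvd_of_pow_eq_one ha7)
        ((Nat.Prime.coprime_iff_not_dvd (by norm_num : Nat.Prime 7)).2 hn).symm)
    refine ha1 (h.eq_one_of_big hJ (Or.inl rfl) ?_ ha7)
    rw [← hk]
    refine pow_mem ?_ k
    rw [ha, ← pow_mul, mul_comm, pow_mul]
    exact pow_mem hgn 19
  have h19n : 19 ∣ n := by
    by_contra hn
    obtain ⟨k, hk⟩ := exists_pow_eq_self_of_coprime (x := g ^ 7) (n := n)
      (Nat.Coprime.coprime_dvd_right (orderOf_dvd_of_pow_eq_one hb19)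
        ((Nat.Prime.coprime_iff_not_dvd (by norm_num : Nat.Prime 19)).2 hn).symm)
    have hmem : g ^ 7 ∈ Cfsg.layer Q := by
      rw [← hk]
      refine pow_mem ?_ k
      rw [← pow_mul, mul_comm, pow_mul]
      exact pow_mem hgn 7
    have := orderOf_dvd_of_pow_eq_one (h.eq_one_of_big hJ (Or.inr rfl) hmem hb19)
    rw [hg] at this
    norm_num at this
  have h2n : 2 ∣ n := by
    have h2w : 2 ∣ orderOf w := hxo ▸ hcount ▸ h.proj_orderOf hK hw
    rw [← he] at h2w
    exact h2w.trans (orderOf_pow_dvd 133)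
  exact not_ok (by unfold maxOrders; decide +kernel : ∀ m ∈ maxOrders, ¬ 266 ∣ m) ((h.sub (x * g)).dvd
    (Nat.Coprime.mul_dvd_of_dvd_of_dvd (by norm_num : Nat.Coprime 14 19)
      (Nat.Coprime.mul_dvd_of_dvd_of_dvd (by norm_num : Nat.Coprime 2 7) h2n h7n) h19n))

include h in
/-- An element of the layer conjugating prescribed projections. -/
theorem exists_layer_conj (f : Subgroup Q → Q) (hf : ∀ K, Cfsg.IsComponent K → f K ∈ K) :
    ∃ e ∈ Cfsg.layer Q, ∀ K, Cfsg.IsComponent K → LayerProj.proj K e = f K := by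
  classical
  have key : ∀ s : Finset (Subgroup Q), (∀ K ∈ s, Cfsg.IsComponent K) → ∃ e ∈ Cfsg.layer Q,
      ∀ K, Cfsg.IsComponent K → LayerProj.proj K e = if K ∈ s then f K else 1 := by
    intro s
    induction s using Finset.induction_on with
    | empty => exact fun _ => ⟨1, one_mem _, fun K hK => by simpa using LayerProj.proj_one h.fitting hK⟩
    | insert L s hLs ih =>
      intro hs
      obtain ⟨e, he, h1⟩ := ih fun K hK => hs K (Finset.mem_insert_of_mem hK)
      have hL := hs L (Finset.mem_insert_self L s)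
      refine ⟨e * f L, mul_mem he (component_le_layer hL (hf L hL)), fun K hK => ?_⟩
      rw [LayerProj.proj_mul h.fitting hK he (component_le_layer hL (hf L hL)), h1 K hK]
      rcases eq_or_ne K L with rfl | hne
      · rw [if_neg hLs, one_mul, LayerProj.proj_self h.fitting hK (hf K hK), if_pos (Finset.mem_insert_self K s)]
      · rw [LayerProj.proj_other h.fitting hK hL hne.symm (hf L hL), mul_one]
        simp [hne]
  haveI : Fintype (Subgroup Q) := Fintype.ofFinite _
  obtain ⟨e, he, h1⟩ := key (Finset.univ.filter fun K => Cfsg.IsComponent K) (by simp)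
  exact ⟨e, he, fun K hK => by rw [h1 K hK, if_pos (by simp [hK])]⟩

end Top

theorem isSolvable_pi {ι : Type u} [Finite ι] {H : ι → Type u} [∀ i, Group (H i)]
    (hH : ∀ i, Group.IsSolvable (H i)) : Group.IsSolvable (∀ i, H i) := by
  classical
  haveI := Fintype.ofFinite ι
  choose n hn using fun i => (hH i).solvable
  refine ⟨⟨Finset.univ.sup n, ?_⟩⟩
  rw [eq_bot_iff]
  intro x hx
  refine mem_bot.2 (funext fun i => ?_)
  have h1 : Pi.evalMonoidHom H i x ∈ (derivedSeries (∀ i, H i) (Finset.univ.sup n)).map (Pi.evalMonoidHom H i) :=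
    mem_map_of_mem _ hx
  rw [map_derivedSeries_eq (f := Pi.evalMonoidHom H i) fun y => ⟨Pi.mulSingle i y, by simp⟩] at h1
  have h2 := derivedSeries_antitone (H i) (Finset.le_sup (f := n) (Finset.mem_univ i)) h1
  rw [hn i] at h2
  exact mem_bot.1 h2

variable {G : Type u} [Group G] [Finite G] {Q : Type u} [Group Q] [Finite Q]

/-- There is a copy of `J₁` above the radical. -/
theorem false_of_small (hsub : Sub G) (h : Top Q) (π : G →* Q) (hπ : Function.Surjective π)
    (hR : Group.IsSolvable π.ker)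
    (hedge : ∀ p ∈ ({5, 7, 11, 19} : Finset ℕ), ∀ q ∈ ({5, 7, 11, 19} : Finset ℕ), p ≠ q →
      ∃ g : G, orderOf g = p * q)
    (hJ : ∀ K : Subgroup Q, Cfsg.IsComponent K → Small K) : False := by
  classical
  -- a moving element and a chief factor
  have hmoved : ∀ {t u : ℕ}, t ∈ ({7, 11, 19} : Finset ℕ) → u ∈ ({7, 19} : Finset ℕ) → t ≠ u →
      u ∣ Nat.card π.ker → ∀ g : G, g ^ t = 1 → π g ∈ Cfsg.layer Q := by
    intro t u ht hu htu hud g hg
    have htp : t.Prime := (show ∀ t ∈ ({7, 11, 19} : Finset ℕ), t.Prime by decide) t ht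
    have hup : u.Prime := (show ∀ u ∈ ({7, 19} : Finset ℕ), u.Prime by decide) u hu
    refine h.mem_layer htp (by rw [← map_pow, hg, map_one]) fun K hK => ?_
    by_contra hmov
    obtain ⟨N, hN, hNR, V, hV, hVc, hVu, hV0, -⟩ := exists_chief hR hup hud
    haveI := hN
    haveI := hV
    haveI := hVc
    refine false_of_moved (hsub.of_surjective (QuotientGroup.mk' N) (QuotientGroup.mk'_surjective N)) h
      (QuotientGroup.lift N π hNR) (fun q => ?_) ht hu htu hVu hV0 (g := (g : G ⧸ N))
      (by rw [← QuotientGroup.mk_pow, hg, QuotientGroup.mk_one]) hK hmov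
    obtain ⟨g', rfl⟩ := hπ q
    exact ⟨g', rfl⟩
  obtain ⟨g₀, hg₀⟩ := hedge 7 (by decide) 19 (by decide) (by decide)
  -- seven and nineteen divide the radical
  have hker : ∀ g : G, orderOf g = 7 ∨ orderOf g = 19 → π g ∈ Cfsg.layer Q → g ∈ π.ker := fun g hg hgl => by
    refine MonoidHom.mem_ker.2 (h.eq_one_of_big hJ hg hgl ?_)
    rw [← map_pow, pow_orderOf_eq_one, map_one]
  have ho7 : orderOf (g₀ ^ 19) = 7 := by rw [orderOf_pow, hg₀]; norm_num
  have ho19 : orderOf (g₀ ^ 7) = 19 := by rw [orderOf_pow, hg₀]; norm_num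
  have hdiv : ∀ {t : ℕ} {g : G}, orderOf g = t → g ∈ π.ker → t ∣ Nat.card π.ker := fun {t g} hg hgk => by
    rw [← hg]; exact orderOf_dvd_natCard _ hgk
  have hboth : 7 ∣ Nat.card π.ker ∧ 19 ∣ Nat.card π.ker := by
    by_cases h7 : 7 ∣ Nat.card π.ker
    · exact ⟨h7, hdiv ho19 (hker _ (Or.inr ho19)
        (hmoved (by decide) (by decide) (by decide) h7 _ (ho19 ▸ pow_orderOf_eq_one _)))⟩
    by_cases h19 : 19 ∣ Nat.card π.ker
    · exact ⟨hdiv ho7 (hker _ (Or.inl ho7)
        (hmoved (by decide) (by decide) (by decide) h19 _ (ho7 ▸ pow_orderOf_eq_one _))), h19⟩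
    exfalso
    refine h.false_of_both hJ (g := π g₀) (Nat.dvd_antisymm (by
      have := orderOf_map_dvd π g₀; rwa [hg₀] at this) ?_)
    refine Nat.Coprime.mul_dvd_of_dvd_of_dvd (by norm_num : Nat.Coprime 7 19) ?_ ?_
    all_goals by_contra hn
    · obtain ⟨k, hk⟩ := exists_pow_eq_self_of_coprime (x := g₀ ^ 19) (n := orderOf (π g₀)) (by
        rw [ho7]; exact ((Nat.Prime.coprime_iff_not_dvd (by norm_num : Nat.Prime 7)).2 hn).symm)
      refine h7 (hdiv ho7 (hk ▸ pow_mem ?_ k))
      rw [MonoidHom.mem_ker, map_pow, map_pow, ← pow_mul, mul_comm, pow_mul, pow_orderOf_eq_one, one_pow]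
    · obtain ⟨k, hk⟩ := exists_pow_eq_self_of_coprime (x := g₀ ^ 7) (n := orderOf (π g₀)) (by
        rw [ho19]; exact ((Nat.Prime.coprime_iff_not_dvd (by norm_num : Nat.Prime 19)).2 hn).symm)
      refine h19 (hdiv ho19 (hk ▸ pow_mem ?_ k))
      rw [MonoidHom.mem_ker, map_pow, map_pow, ← pow_mul, mul_comm, pow_mul, pow_orderOf_eq_one, one_pow]
  have hmem : ∀ t ∈ ({5, 7, 11, 19} : Finset ℕ), ∀ g : G, g ^ t = 1 → π g ∈ Cfsg.layer Q := by
    intro t ht g hg
    simp only [Finset.mem_insert, Finset.mem_singleton] at ht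
    rcases ht with rfl | rfl | rfl | rfl
    · exact h.five_mem (by rw [← map_pow, hg, map_one])
    · exact hmoved (by decide) (by decide) (by decide) hboth.2 g hg
    · exact hmoved (by decide) (by decide) (by decide) hboth.1 g hg
    · exact hmoved (by decide) (by decide) (by decide) hboth.1 g hg
  -- the solvable subgroup
  choose B hB hBx using fun K : {K : Subgroup Q // Cfsg.IsComponent K} => (hJ K.1 K.2).borel
  let P : Subgroup Q :=
    { carrier := {z | z ∈ Cfsg.layer Q ∧ ∀ K, ∀ hK : Cfsg.IsComponent K,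
        (⟨LayerProj.proj K z, LayerProj.proj_mem K z⟩ : K) ∈ B ⟨K, hK⟩}
      one_mem' := ⟨one_mem _, fun K hK => by
        have := LayerProj.proj_one h.fitting hK
        simp only [this]
        exact one_mem (B ⟨K, hK⟩)⟩
      mul_mem' := fun {a b} ha hb => ⟨mul_mem ha.1 hb.1, fun K hK => by
        have := LayerProj.proj_mul h.fitting hK ha.1 hb.1
        simp only [this]
        exact mul_mem (ha.2 K hK) (hb.2 K hK)⟩
      inv_mem' := fun {a} ha => ⟨inv_mem ha.1, fun K hK => by
        have := LayerProj.proj_inv h.fitting hK ha.1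
        simp only [this]
        exact inv_mem (ha.2 K hK)⟩ }
  let φ : P →* (∀ K : {K : Subgroup Q // Cfsg.IsComponent K}, B K) :=
    { toFun := fun z K => ⟨⟨LayerProj.proj K.1 z.1, LayerProj.proj_mem K.1 z.1⟩, z.2.2 K.1 K.2⟩
      map_one' := funext fun K => Subtype.ext (Subtype.ext (LayerProj.proj_one h.fitting K.2))
      map_mul' := fun a b => funext fun K => Subtype.ext (Subtype.ext
        (LayerProj.proj_mul h.fitting K.2 a.2.1 b.2.1)) }
  have hφ : Function.Injective φ := (injective_iff_map_eq_one φ).2 fun z hz => Subtype.ext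
    (LayerProj.eq_one_of_proj h.fitting z.2.1 fun K hK =>
      congrArg (fun y => ((y ⟨K, hK⟩ : B ⟨K, hK⟩) : K).1) hz)
  haveI hPs : Group.IsSolvable P := by
    haveI := isSolvable_pi hB
    exact Group.isSolvable_of_isSolvable_injective hφ
  have hKs : Group.IsSolvable (P.comap π) := by
    let ψ : P.comap π →* P := π.subgroupComap P
    let ι : π.ker →* P.comap π := Subgroup.inclusion fun x hx => by
      show π x ∈ P
      rw [MonoidHom.mem_ker.1 hx]; exact one_mem P
    haveI := hR
    exact Group.isSolvable_of_ker_le_range ι ψ fun x hx =>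
      ⟨⟨x, MonoidHom.mem_ker.2 (congrArg Subtype.val hx)⟩, Subtype.ext rfl⟩
  -- elements of order `p * q` inside it
  refine CfsgLib.PGroup.FourPrimes.not_isSolvable (G := P.comap π) {5, 7, 11, 19} (by decide) (by decide)
    (fun p hp q hq hpq => ?_) (fun p hp q hq r hr hpq hqr hpr g hg => ?_) hKs
  · obtain ⟨g, hg⟩ := hedge p hp q hq hpq
    have hpp : p.Prime := (show ∀ p ∈ ({5, 7, 11, 19} : Finset ℕ), p.Prime by decide) p hp
    have hqp : q.Prime := (show ∀ p ∈ ({5, 7, 11, 19} : Finset ℕ), p.Prime by decide) q hq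
    have h1 := hmem p hp (g ^ q) (by rw [← pow_mul, mul_comm, ← hg, pow_orderOf_eq_one])
    have h2 := hmem q hq (g ^ p) (by rw [← pow_mul, ← hg, pow_orderOf_eq_one])
    have hgl : π g ∈ Cfsg.layer Q := by
      rw [map_pow] at h1 h2
      have hz := Nat.gcd_eq_gcd_ab q p
      rw [(Nat.coprime_primes hqp hpp).2 (Ne.symm hpq)] at hz
      rw [← zpow_one (π g), ← Nat.cast_one (R := ℤ), hz, zpow_add, zpow_mul, zpow_mul, zpow_natCast, zpow_natCast]
      exact mul_mem (zpow_mem h1 _) (zpow_mem h2 _)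
    have hconj : ∀ K : Subgroup Q, ∃ k : Q, ∀ hK : Cfsg.IsComponent K, k ∈ K ∧
        ∃ (hm : k * LayerProj.proj K (π g) * k⁻¹ ∈ K), (⟨_, hm⟩ : K) ∈ B ⟨K, hK⟩ := by
      intro K
      by_cases hK : Cfsg.IsComponent K
      swap
      · exact ⟨1, fun h' => absurd h' hK⟩
      set x : K := ⟨LayerProj.proj K (π g), LayerProj.proj_mem K _⟩
      have hord : orderOf x = 1 ∨ orderOf x = 5 ∨ orderOf x = 11 := by
        have ha : orderOf x ∣ p * q := by
          rw [← hg, ← Subgroup.orderOf_coe]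
          exact (h.proj_orderOf hK hgl).trans (orderOf_map_dvd π g)
        have hb := h.proj_cases hJ hK hgl
        rw [show orderOf (LayerProj.proj K (π g)) = orderOf x from Subgroup.orderOf_coe x] at hb
        revert ha hb
        generalize orderOf x = n
        intro ha hb
        exact (show ∀ p ∈ ({5, 7, 11, 19} : Finset ℕ), ∀ q ∈ ({5, 7, 11, 19} : Finset ℕ),
          ∀ n ∈ ({1, 2, 3, 5, 6, 11} : Finset ℕ), n ∣ p * q → n = 1 ∨ n = 5 ∨ n = 11 by decide +kernel)
          p hp q hq n hb ha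
      rcases hord with e | e
      · refine ⟨1, fun _ => ⟨one_mem _, by rw [one_mul, inv_one, mul_one]; exact LayerProj.proj_mem K _, ?_⟩⟩
        have hx1 : LayerProj.proj K (π g) = 1 := congrArg Subtype.val (orderOf_eq_one_iff.1 e)
        simp only [hx1, mul_one, inv_one]
        exact one_mem _
      · obtain ⟨k, hk⟩ := hBx ⟨K, hK⟩ x e
        exact ⟨k, fun _ => ⟨k.2, mul_mem (mul_mem k.2 x.2) (inv_mem k.2), hk⟩⟩
    choose f hf using hconj
    obtain ⟨e, he, hpe⟩ := h.exists_layer_conj f fun K hK => (hf K hK).1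
    obtain ⟨e', rfl⟩ := hπ e
    have hcmem : e' * g * e'⁻¹ ∈ P.comap π := by
      refine ⟨by rw [map_mul, map_mul, map_inv]; exact mul_mem (mul_mem he hgl) (inv_mem he), fun K hK => ?_⟩
      obtain ⟨-, hm, hB'⟩ := hf K hK
      have hpj : LayerProj.proj K (π (e' * g * e'⁻¹)) = f K * LayerProj.proj K (π g) * (f K)⁻¹ := by
        rw [map_mul, map_mul, map_inv, LayerProj.proj_mul h.fitting hK (mul_mem he hgl) (inv_mem he),
          LayerProj.proj_mul h.fitting hK he hgl, LayerProj.proj_inv h.fitting hK he, hpe K hK]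
      simp only [hpj]
      exact hB'
    refine ⟨⟨_, hcmem⟩, ?_⟩
    rw [Subgroup.orderOf_mk, show e' * g * e'⁻¹ = MulAut.conj e' g from rfl, MulEquiv.orderOf_eq, hg]
  · rw [← Subgroup.orderOf_coe] at hg
    have hno : ∀ p ∈ ({5, 7, 11, 19} : Finset ℕ), ∀ q ∈ ({5, 7, 11, 19} : Finset ℕ),
        ∀ r ∈ ({5, 7, 11, 19} : Finset ℕ), p ≠ q → q ≠ r → p ≠ r → ∀ m ∈ maxOrders, ¬ p * q * r ∣ m := by
      unfold maxOrders; decide +kernel
    exact not_ok (hno p hp q hq r hr hpq hqr hpr) (hg ▸ hsub g)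

end CfsgLib.Spor.JOneSquare
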